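import Mathlib
import Cfsg.Agent.Lib.ZStar.UniqueCase

/-!
# The automizer of an elementary abelian Sylow 2-subgroup of order 8
-/

set_option autoImplicit false

namespace Cfsg.Agent.Lib.Inv59.EightAuto

universe u

variable {G : Type u} [Group G]

/-- A simple non-abelian group has no involution of a Sylow 2-subgroup isolated in it. -/
theorem no_isolated [Finite G] [IsSimpleGroup G] (hG : ¬ IsMulCommutative G) (S : Sylow 2 G)
    {t : G} (ht : orderOf t = 2) (htS : t ∈ S) :
    ∃ g : G, g * t * g⁻¹ ∈ S ∧ g * t * g⁻¹ ≠ t := by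
  by_contra! hc
  obtain ⟨N, hN, hodd, hmem⟩ := ZStar.UniqueCase.zstar S t ht htS hc
  rcases IsSimpleGroup.eq_bot_or_eq_top_of_normal N hN with h | h
  · have hcen : t ∈ Subgroup.center G := by
      rw [Subgroup.mem_center_iff]
      intro g
      have hm := hmem g
      rw [h, Subgroup.mem_bot, mul_inv_eq_one] at hm
      exact (mul_inv_eq_iff_eq_mul.1 hm).symm
    rcases IsSimpleGroup.eq_bot_or_eq_top_of_normal (Subgroup.center G) inferInstance with h' | h'
    · rw [h', Subgroup.mem_bot] at hcen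
      rw [hcen, orderOf_one] at ht
      omega
    · exact hG ⟨⟨fun a b =>
        (Subgroup.mem_center_iff.1 (h' ▸ Subgroup.mem_top b : b ∈ Subgroup.center G) a)⟩⟩
  · rw [h] at hodd
    have h2 : orderOf t ∣ Nat.card (⊤ : Subgroup G) := by
      rw [Subgroup.card_top]; exact orderOf_dvd_natCard t
    rw [ht] at h2
    exact Nat.not_even_iff_odd.2 hodd (even_iff_two_dvd.2 h2)

/-- Fusion in an abelian Sylow subgroup is controlled by its normalizer. -/
theorem burnside [Finite G] {p : ℕ} [Fact p.Prime] (S : Sylow p G)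
    (hab : IsMulCommutative (S : Subgroup G)) {x g : G} (hx : x ∈ S) (hgx : g * x * g⁻¹ ∈ S) :
    ∃ n ∈ Subgroup.normalizer ((S : Subgroup G) : Set G), n * x * n⁻¹ = g * x * g⁻¹ := by
  obtain ⟨n, hn, e⟩ := Sylow.conj_eq_normalizer_conj_of_mem S x g⁻¹ hx (by rwa [inv_inv])
  refine ⟨n⁻¹, inv_mem hn, ?_⟩
  rw [inv_inv] at e ⊢
  exact e.symm

/-- The set of `N`-conjugates of `t`. -/
def orb (N : Subgroup G) (t : G) : Set G := {y | ∃ n ∈ N, n * t * n⁻¹ = y}

theorem ncard_orb (N : Subgroup G) (t : G) :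
    (orb N t).ncard = (Subgroup.centralizer ({t} : Set G)).relIndex N := by
  letI : MulAction N G := MulAction.compHom G (ConjAct.toConjAct.toMonoidHom.comp N.subtype)
  have e : ∀ (n : N) (y : G), n • y = (n : G) * y * (n : G)⁻¹ := fun n y => rfl
  have h1 : orb N t = MulAction.orbit N t := by
    ext y
    simp only [orb, Set.mem_setOf_eq, MulAction.mem_orbit_iff, e, Subtype.exists, exists_prop]
  have h2 : MulAction.stabilizer N t = (Subgroup.centralizer ({t} : Set G)).subgroupOf N := by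
    ext n
    rw [MulAction.mem_stabilizer_iff, e, Subgroup.mem_subgroupOf,
      Subgroup.mem_centralizer_singleton_iff, mul_inv_eq_iff_eq_mul]
  rw [h1, ← MulAction.index_stabilizer, h2]
  rfl

/-- In a non-abelian simple group with elementary abelian Sylow 2-subgroup of order 8, the
normalizer is transitive on the involutions of the subgroup. -/
theorem transitive [Finite G] [IsSimpleGroup G] (hG : ¬ IsMulCommutative G) (S : Sylow 2 G)
    (hab : IsMulCommutative (S : Subgroup G)) (hexp : ∀ a ∈ (S : Subgroup G), a ^ 2 = 1)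
    (h8 : Nat.card (S : Subgroup G) = 8) {t : G} (ht : t ∈ (S : Subgroup G)) (ht1 : t ≠ 1) :
    orb (Subgroup.normalizer ((S : Subgroup G) : Set G)) t = ((S : Subgroup G) : Set G) \ {1} := by
  set N := Subgroup.normalizer ((S : Subgroup G) : Set G) with hN
  set X : Set G := ((S : Subgroup G) : Set G) \ {1} with hX
  have hX7 : X.ncard = 7 := by
    rw [hX, Set.ncard_sdiff_singleton_of_mem (one_mem _)]
    show Nat.card (S : Subgroup G) - 1 = 7
    omega
  have hsub : ∀ a ∈ X, orb N a ⊆ X := by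
    rintro a ⟨ha, ha1⟩ y ⟨n, hn, rfl⟩
    refine ⟨(Subgroup.mem_normalizer_iff.1 hn a).1 ha, fun h => ha1 ?_⟩
    rw [Set.mem_singleton_iff] at h ⊢
    simpa [mul_inv_eq_one] using h
  have hbig : ∀ a ∈ X, ∃ b ∈ orb N a, b ≠ a := by
    rintro a ⟨ha, ha1⟩
    have hao : orderOf a = 2 := by
      have hd : orderOf a ∣ 2 := orderOf_dvd_of_pow_eq_one (hexp a ha)
      rcases (Nat.dvd_prime Nat.prime_two).1 hd with h | h
      · exact absurd (orderOf_eq_one_iff.1 h) ha1
      · exact h
    obtain ⟨g, hg, hne⟩ := no_isolated hG S hao ha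
    obtain ⟨n, hn, e⟩ := burnside S hab ha hg
    exact ⟨_, ⟨n, hn, e⟩, hne⟩
  have hodd : ∀ a ∈ X, Odd (orb N a).ncard := by
    rintro a ⟨ha, -⟩
    rw [ncard_orb]
    have hle : (S : Subgroup G) ≤ Subgroup.centralizer ({a} : Set G) := fun s hs => by
      rw [Subgroup.mem_centralizer_singleton_iff]
      exact congrArg Subtype.val (hab.is_comm.comm (⟨s, hs⟩ : (S : Subgroup G)) ⟨a, ha⟩)
    have h1 := Subgroup.relIndex_dvd_of_le_left N hle
    have h2 : (S : Subgroup G).relIndex N ∣ (S : Subgroup G).index :=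
      Subgroup.relIndex_dvd_index_of_le Subgroup.le_normalizer
    exact Nat.odd_iff.2 (Nat.two_dvd_ne_zero.1 fun h => S.not_dvd_index (h.trans (h1.trans h2)))
  have h3 : ∀ a ∈ X, 3 ≤ (orb N a).ncard := by
    intro a ha
    obtain ⟨b, hb, hne⟩ := hbig a ha
    have haa : a ∈ orb N a := ⟨1, one_mem _, by simp⟩
    have h2 : 1 < (orb N a).ncard :=
      (Set.one_lt_ncard (Set.toFinite _)).2 ⟨b, hb, a, haa, hne⟩
    obtain ⟨k, hk⟩ := hodd a ha
    omega
  have hdisj : ∀ a b, b ∉ orb N a → Disjoint (orb N b) (orb N a) := by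
    intro a b hb
    rw [Set.disjoint_left]
    rintro y ⟨n, hn, rfl⟩ ⟨m, hm, e⟩
    refine hb ⟨n⁻¹ * m, mul_mem (inv_mem hn) hm, ?_⟩
    have : n⁻¹ * m * a * (n⁻¹ * m)⁻¹ = n⁻¹ * (m * a * m⁻¹) * n := by group
    rw [this, e]
    group
  have htX : t ∈ X := ⟨ht, ht1⟩
  refine Set.eq_of_subset_of_ncard_le (hsub t htX) ?_ (Set.toFinite _)
  rw [hX7]
  by_contra hlt
  obtain ⟨b, hbX, hb⟩ := Set.exists_mem_notMem_of_ncard_lt_ncard
    (show (orb N t).ncard < X.ncard by omega) (Set.toFinite _)
  have hu : (orb N b ∪ orb N t).ncard = (orb N b).ncard + (orb N t).ncard :=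
    Set.ncard_union_eq (hdisj t b hb) (Set.toFinite _) (Set.toFinite _)
  obtain ⟨i, hi⟩ := hodd t htX
  obtain ⟨j, hj⟩ := hodd b hbX
  have hle : (orb N b ∪ orb N t).ncard ≤ 7 :=
    hX7 ▸ Set.ncard_le_ncard (Set.union_subset (hsub b hbX) (hsub t htX)) (Set.toFinite _)
  have h3b := h3 b hbX
  have h3t := h3 t htX
  obtain ⟨c, hcX, hc⟩ := Set.exists_mem_notMem_of_ncard_lt_ncard
    (show (orb N b ∪ orb N t).ncard < X.ncard by omega) (Set.toFinite _)
  rw [Set.mem_union, not_or] at hc
  have hd : Disjoint (orb N c) (orb N b ∪ orb N t) :=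
    Set.disjoint_union_right.2 ⟨hdisj b c hc.1, hdisj t c hc.2⟩
  have hu2 := Set.ncard_union_eq hd (Set.toFinite _) (Set.toFinite _)
  have hle2 : (orb N c ∪ (orb N b ∪ orb N t)).ncard ≤ 7 :=
    hX7 ▸ Set.ncard_le_ncard (Set.union_subset (hsub c hcX)
      (Set.union_subset (hsub b hbX) (hsub t htX))) (Set.toFinite _)
  have h3c := h3 c hcX
  omega

/-- Either the automizer has order 7, or an involution of the subgroup is centralized by an
element inducing a non-trivial automorphism. -/
theorem seven_or_exists [Finite G] [IsSimpleGroup G] (hG : ¬ IsMulCommutative G) (S : Sylow 2 G)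
    (hab : IsMulCommutative (S : Subgroup G)) (hexp : ∀ a ∈ (S : Subgroup G), a ^ 2 = 1)
    (h8 : Nat.card (S : Subgroup G) = 8) :
    (Subgroup.centralizer ((S : Subgroup G) : Set G)).relIndex
        (Subgroup.normalizer ((S : Subgroup G) : Set G)) = 7 ∨
      ∃ t ∈ (S : Subgroup G), orderOf t = 2 ∧
        ∃ x ∈ Subgroup.normalizer ((S : Subgroup G) : Set G), Commute t x ∧
          x ∉ Subgroup.centralizer ((S : Subgroup G) : Set G) := by
  obtain ⟨t, htS, ht1⟩ : ∃ t ∈ (S : Subgroup G), t ≠ 1 := by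
    by_contra! h
    have : (S : Subgroup G) = ⊥ := (Subgroup.eq_bot_iff_forall _).2 h
    rw [this, Subgroup.card_bot] at h8
    omega
  have hto : orderOf t = 2 := orderOf_eq_prime (hexp t htS) ht1
  set N := Subgroup.normalizer ((S : Subgroup G) : Set G) with hN
  set C := Subgroup.centralizer ((S : Subgroup G) : Set G) with hC
  set D := N ⊓ Subgroup.centralizer ({t} : Set G) with hD
  by_cases h : D ≤ C
  · left
    have htr := transitive hG S hab hexp h8 htS ht1
    have h7 : (Subgroup.centralizer ({t} : Set G)).relIndex N = 7 := by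
      rw [← ncard_orb, htr, Set.ncard_sdiff_singleton_of_mem (one_mem _)]
      show Nat.card (S : Subgroup G) - 1 = 7
      omega
    have e1 : C.relIndex N = D.relIndex N := by
      have : C ⊓ N = D := by
        refine le_antisymm (le_inf inf_le_right fun y hy => ?_) (le_inf h inf_le_left)
        exact Subgroup.mem_centralizer_singleton_iff.2
          (Subgroup.mem_centralizer_iff.1 hy.1 t htS).symm
      rw [← this, Subgroup.inf_relIndex_right]
    rw [e1, hD, Subgroup.inf_relIndex_left, h7]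
  · right
    obtain ⟨x, ⟨hxN, hxt⟩, hxC⟩ := SetLike.not_le_iff_exists.1 h
    exact ⟨t, htS, hto, x, hxN, (Subgroup.mem_centralizer_singleton_iff.1 hxt).symm, hxC⟩

end Cfsg.Agent.Lib.Inv59.EightAuto
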