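/- central extensions of generalized quaternion groups (helper59). -/
import Mathlib
import Cfsg.Agent.Lib.PGroups.UniqueInvolution

set_option autoImplicit false

namespace Cfsg.Agent.Lib.Inv59.QuatQuotient

/-- A non-abelian 2-group quotient with a unique involution gives a map onto a quaternion group. -/
theorem exists_hom {S : Type*} [Group S] [Finite S] (hS : IsPGroup 2 S) (D : Subgroup S) [D.Normal]
    (hna : ¬ IsMulCommutative (S ⧸ D)) (hu : ∃! x : S ⧸ D, orderOf x = 2) :
    ∃ (m : ℕ) (ψ : S →* QuaternionGroup (2 ^ m)), 1 ≤ m ∧ Function.Surjective ψ ∧ ψ.ker = D := by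
  haveI : Fact (Nat.Prime 2) := ⟨Nat.prime_two⟩
  obtain ⟨z, -, huniq⟩ := hu
  rcases Cfsg.Agent.Lib.PGroups.isCyclic_or_quaternion (p := 2) (hS.to_quotient D)
      (fun x y hx hy => by rw [huniq x hx, huniq y hy]; exact Subgroup.mem_zpowers z) with
    h | ⟨-, m, hm, ⟨e⟩⟩
  · haveI := h
    exact absurd ⟨⟨fun a b => (IsCyclic.commGroup (α := S ⧸ D)).mul_comm a b⟩⟩ hna
  · refine ⟨m, e.toMonoidHom.comp (QuotientGroup.mk' D), hm, e.surjective.comp (QuotientGroup.mk'_surjective D), ?_⟩
    ext s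
    simp [MonoidHom.mem_ker]

/-- the only involution of a generalized quaternion group -/
theorem eq_of_orderOf_two {N : ℕ} [NeZero N] (q : QuaternionGroup N) (hq : orderOf q = 2) :
    q = QuaternionGroup.a (N : ZMod (2 * N)) := by
  cases q with
  | a i =>
    have h : (QuaternionGroup.a i : QuaternionGroup N) * QuaternionGroup.a i = 1 := by
      rw [← sq, ← hq, pow_orderOf_eq_one]
    have hi : i ≠ 0 := by
      rintro rfl
      rw [← QuaternionGroup.one_def, orderOf_one] at hq
      omega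
    rw [QuaternionGroup.a_mul_a, QuaternionGroup.one_def, QuaternionGroup.a.injEq] at h
    congr 1
    have h1 : ((2 * i.val : ℕ) : ZMod (2 * N)) = 0 := by
      push_cast
      rw [ZMod.natCast_zmod_val]
      exact (two_mul i).trans h
    rw [ZMod.natCast_eq_zero_iff] at h1
    have h2 : N ∣ i.val := Nat.dvd_of_mul_dvd_mul_left two_pos h1
    have h3 : i.val ≠ 0 := fun h => hi ((ZMod.val_eq_zero i).1 h)
    obtain ⟨c, hc⟩ := h2
    have h4 := ZMod.val_lt i
    have h5 : c = 1 := by
      rcases c with _ | _ | c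
      · rw [mul_zero] at hc; exact absurd hc h3
      · rfl
      · rw [hc] at h4; nlinarith
    rw [← ZMod.natCast_zmod_val i, hc, h5, mul_one]
  | xa i =>
    rw [QuaternionGroup.orderOf_xa] at hq
    omega

/-- the index of a maximal subgroup of a 2-group is 2 -/
theorem index_eq_two {A : Type*} [Group A] [Finite A] (hA : IsPGroup 2 A) {M : Subgroup A}
    (hM : IsCoatom M) : M.index = 2 := by
  haveI : Fact (Nat.Prime 2) := ⟨Nat.prime_two⟩
  obtain ⟨a, ha⟩ := IsPGroup.iff_card.1 hA
  obtain ⟨b, hb⟩ := IsPGroup.iff_card.1 (hA.to_subgroup M)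
  have hlt : Nat.card ↥M < Nat.card A :=
    lt_of_le_of_ne (Subgroup.card_le_card_group M) (fun h => hM.1 (Subgroup.eq_top_of_card_eq M h))
  rw [ha, hb, Nat.pow_lt_pow_iff_right (by norm_num)] at hlt
  obtain ⟨K, hK, hMK⟩ := Sylow.exists_subgroup_card_pow_succ (p := 2) (n := b)
    (by rw [ha]; exact pow_dvd_pow 2 hlt) hb
  have hKtop : K = ⊤ := hM.2 K (lt_of_le_of_ne hMK (fun e => by
    rw [← e, hb] at hK
    have := Nat.pow_right_injective le_rfl hK
    omega))
  have h1 := M.card_mul_index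
  rw [hKtop, Subgroup.card_top] at hK
  rw [hK, hb, pow_succ] at h1
  exact Nat.eq_of_mul_eq_mul_left (by positivity) h1

end Cfsg.Agent.Lib.Inv59.QuatQuotient
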