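/- Small Sylow / fusion helpers (helper59). -/
import Mathlib
import Cfsg.Prelude.Def_Transfer

set_option autoImplicit false

namespace Cfsg.Agent.Lib.Inv59.Basic

variable {G : Type*} [Group G]

/-- Inside a subgroup `H` containing the Sylow subgroup `P`, every `p`-subgroup is conjugate,
by an element of `H`, into `P`. -/
theorem exists_conj_mem_sylow [Finite G] {p : ℕ} [Fact p.Prime] (P : Sylow p G) (H Q : Subgroup G)
    (hPH : (P : Subgroup G) ≤ H) (hQ : IsPGroup p ↥Q) (hQH : Q ≤ H) :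
    ∃ h ∈ H, ∀ x ∈ Q, h * x * h⁻¹ ∈ (P : Subgroup G) := by
  obtain ⟨T, hT⟩ := (hQ.comap_subtype (K := H)).exists_le_sylow
  obtain ⟨h, hh⟩ := MulAction.exists_smul_eq ↥H T (P.subtype hPH)
  refine ⟨(h : G), h.2, fun x hx => ?_⟩
  have hmem : (MulAut.conj h) (⟨x, hQH hx⟩ : ↥H) ∈ ((h • T : Sylow p ↥H) : Subgroup ↥H) := by
    rw [Sylow.coe_subgroup_smul]
    exact Subgroup.smul_mem_pointwise_smul _ _ _ (hT hx)
  rw [hh, Sylow.coe_subtype, Subgroup.mem_subgroupOf] at hmem
  simpa using hmem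

/-- A `p`-element normalizing a Sylow `p`-subgroup lies in it. -/
theorem mem_sylow_of_normalizer {p : ℕ} (P : Sylow p G) {x : G} (k : ℕ) (hx : x ^ p ^ k = 1)
    (hn : x ∈ Subgroup.normalizer ((P : Subgroup G) : Set G)) : x ∈ (P : Subgroup G) := by
  have hp : IsPGroup p ↥(Subgroup.zpowers x) := by
    rintro ⟨y, hy⟩
    obtain ⟨i, rfl⟩ := Subgroup.mem_zpowers_iff.1 hy
    refine ⟨k, Subtype.ext ?_⟩
    show (x ^ i) ^ p ^ k = 1
    rw [← zpow_natCast, zpow_comm, zpow_natCast, hx, one_zpow]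
  have h := IsPGroup.inf_normalizer_sylow hp P
  exact ((le_of_eq h) ⟨Subgroup.mem_zpowers x, hn⟩).2

/-- A weakly closed subgroup stays weakly closed in every `p`-subgroup containing it. -/
theorem normalizes_of_weaklyClosed [Finite G] {p : ℕ} [Fact p.Prime] (P : Sylow p G) (W : Subgroup G)
    (hW : Cfsg.IsWeaklyClosed W (P : Subgroup G)) (R : Subgroup G) (hR : IsPGroup p ↥R) (hWR : W ≤ R)
    (k : G) (hk : W.map (MulAut.conj k).toMonoidHom ≤ R) : W.map (MulAut.conj k).toMonoidHom = W := by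
  obtain ⟨u, -, hu⟩ := exists_conj_mem_sylow P ⊤ R le_top hR le_top
  have hmm : ∀ a b : G, (W.map (MulAut.conj a).toMonoidHom).map (MulAut.conj b).toMonoidHom
      = W.map (MulAut.conj (b * a)).toMonoidHom := by
    intro a b
    rw [Subgroup.map_map]
    congr 1
    ext x
    simp [mul_assoc]
  have h1 : W.map (MulAut.conj u).toMonoidHom = W := by
    refine hW.2 u ?_
    rintro _ ⟨x, hx, rfl⟩
    simpa using hu x (hWR hx)
  have h2 : W.map (MulAut.conj (u * k)).toMonoidHom = W := by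
    refine hW.2 (u * k) ?_
    rintro _ ⟨x, hx, rfl⟩
    have h := hu _ (hk ⟨x, hx, rfl⟩)
    simpa [mul_assoc] using h
  have h3 : (W.map (MulAut.conj k).toMonoidHom).map (MulAut.conj u).toMonoidHom
      = W.map (MulAut.conj u).toMonoidHom := by rw [hmm, h2, h1]
  exact Subgroup.map_injective (MulEquiv.injective _) h3

/-- conjugation by a member fixes a subgroup -/
theorem map_conj_self (H : Subgroup G) {g : G} (hg : g ∈ H) :
    H.map (MulAut.conj g).toMonoidHom = H := by
  ext x
  constructor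
  · rintro ⟨y, hy, rfl⟩
    exact H.mul_mem (H.mul_mem hg hy) (H.inv_mem hg)
  · intro hx
    exact ⟨g⁻¹ * x * g, H.mul_mem (H.mul_mem (H.inv_mem hg) hx) hg, by simp [mul_assoc]⟩

/-- in a finite group, an element conjugating `H` into itself normalizes it -/
theorem mem_normalizer_of_conj_mem [Finite G] (H : Subgroup G) {g : G}
    (h : ∀ x ∈ H, g * x * g⁻¹ ∈ H) : g ∈ Subgroup.normalizer (H : Set G) := by
  have he : H.map (MulAut.conj g).toMonoidHom = H := by
    refine Subgroup.eq_of_le_of_card_ge ?_ (le_of_eq (Subgroup.card_map_of_injective (MulEquiv.injective _)).symm)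
    rintro _ ⟨y, hy, rfl⟩
    exact h y hy
  rw [Subgroup.mem_normalizer_iff]
  intro x
  refine ⟨h x, fun hx => ?_⟩
  obtain ⟨y, hy, hy'⟩ := he.ge hx
  have : y = x := MulEquiv.injective (MulAut.conj g) hy'
  rwa [← this]

/-- composing conjugations -/
theorem map_conj_map_conj (W : Subgroup G) (a b : G) :
    (W.map (MulAut.conj a).toMonoidHom).map (MulAut.conj b).toMonoidHom
      = W.map (MulAut.conj (b * a)).toMonoidHom := by
  rw [Subgroup.map_map]
  congr 1
  ext x
  simp [mul_assoc]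

/-- conjugation by `1` -/
theorem map_conj_one (W : Subgroup G) : W.map (MulAut.conj (1 : G)).toMonoidHom = W :=
  map_conj_self W (one_mem W)

/-- a nontrivial normal subgroup of a finite p-group contains a nontrivial central element -/
theorem exists_central_mem [Finite G] {p : ℕ} [Fact p.Prime] (hG : IsPGroup p G) (N : Subgroup G)
    [N.Normal] (hN : N ≠ ⊥) : ∃ z ∈ N, z ∈ Subgroup.center G ∧ z ≠ 1 := by
  have hA : IsPGroup p (ConjAct G) := hG
  have h2 : p ∣ Nat.card ↥N := by
    obtain ⟨k, hk⟩ := IsPGroup.iff_card.1 (hG.to_subgroup N)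
    rcases Nat.eq_zero_or_pos k with rfl | hk0
    · exact absurd (Subgroup.eq_bot_of_card_eq N (by simpa using hk)) hN
    · rw [hk]; exact dvd_pow_self p hk0.ne'
  obtain ⟨v, hv, hne⟩ := hA.exists_fixed_point_of_prime_dvd_card_of_fixed_point (↥N) h2
    (a := (1 : ↥N)) (fun g => smul_one g)
  refine ⟨v, v.2, ?_, fun h => hne (Subtype.ext h.symm)⟩
  rw [Subgroup.mem_center_iff]
  intro g
  have h3 := congrArg Subtype.val (hv (ConjAct.toConjAct g))
  rw [ConjAct.Subgroup.val_conj_smul] at h3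
  simp [ConjAct.smul_def] at h3
  calc g * (v : G) = g * v * g⁻¹ * g := by group
    _ = v * g := by rw [h3]

end Cfsg.Agent.Lib.Inv59.Basic
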