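/- Isolated involutions when Sylow 2-intersections are central (helper59). -/
import Mathlib
import Cfsg.Prelude.Def_CaseTheorems
import Cfsg.Agent.Lib.Inv59.Basic
import Cfsg.Agent.S3183

set_option autoImplicit false

namespace Cfsg.Agent.Lib.Inv59.CentralInt

open Cfsg.Agent.Lib.Inv59.Basic

/-- a cyclic group has at most one involution -/
theorem involution_unique {H : Type*} [Group H] [Finite H] (hH : IsCyclic H) {a b : H}
    (ha : orderOf a = 2) (hb : orderOf b = 2) : a = b := by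
  classical
  letI := Fintype.ofFinite H
  haveI := hH
  have hd : 2 ∣ Fintype.card H := ha ▸ orderOf_dvd_card
  have h := IsCyclic.card_orderOf_eq_totient (α := H) hd
  exact Finset.card_le_one.1 (by rw [h]; decide) a (by simp [ha]) b (by simp [hb])

/-- the involution of a cyclic characteristic subgroup of `S` is isolated in `S` -/
theorem isolated {G : Type*} [Group G] [Finite G]
    (hCI : ∀ S T : Sylow 2 G, S ≠ T → ∃ U : Sylow 2 G,
      (S : Subgroup G) ⊓ (T : Subgroup G) ≤
        (Subgroup.center ↥(U : Subgroup G)).map (U : Subgroup G).subtype)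
    (S : Sylow 2 G) (C : Subgroup ↥(S : Subgroup G)) (hCc : IsCyclic ↥C) (hCh : C.Characteristic)
    (c : ↥(S : Subgroup G)) (hc : c ∈ C) (hc2 : orderOf c = 2) :
    ∀ g : G, g * (c : G) * g⁻¹ ∈ (S : Subgroup G) → g * (c : G) * g⁻¹ = (c : G) := by
  haveI : Fact (Nat.Prime 2) := ⟨Nat.prime_two⟩
  haveI := hCh
  have huniq : ∀ d : ↥(S : Subgroup G), d ∈ C → orderOf d = 2 → d = c := fun d hd hd2 =>
    congrArg Subtype.val (involution_unique hCc (a := (⟨d, hd⟩ : ↥C)) (b := ⟨c, hc⟩)
      ((Subgroup.orderOf_mk d hd).trans hd2) ((Subgroup.orderOf_mk c hc).trans hc2))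
  have hcen : ∀ s ∈ (S : Subgroup G), s * (c : G) = (c : G) * s := by
    intro s hs
    have h := huniq (⟨s, hs⟩ * c * (⟨s, hs⟩ : ↥(S : Subgroup G))⁻¹)
      (Subgroup.Normal.conj_mem inferInstance c hc _) ((MulEquiv.orderOf_eq (MulAut.conj _) c).trans hc2)
    have h' := congrArg Subtype.val h
    simp only [Subgroup.coe_mul, Subgroup.coe_inv] at h'
    exact mul_inv_eq_iff_eq_mul.1 h'
  intro g hgS
  set d := g * (c : G) * g⁻¹ with hd
  set T := (S : Subgroup G).map (MulAut.conj g).toMonoidHom with hT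
  have hTp : IsPGroup 2 ↥T := S.isPGroup'.map _
  have hTC : T ≤ Subgroup.centralizer ({d} : Set G) := by
    rintro _ ⟨s, hs, rfl⟩
    rw [Subgroup.mem_centralizer_singleton_iff]
    show g * s * g⁻¹ * d = d * (g * s * g⁻¹)
    rw [hd]
    calc g * s * g⁻¹ * (g * (c : G) * g⁻¹) = g * (s * (c : G)) * g⁻¹ := by group
      _ = g * ((c : G) * s) * g⁻¹ := by rw [hcen s hs]
      _ = g * (c : G) * g⁻¹ * (g * s * g⁻¹) := by group
  have h1 := (Cfsg.Agent.S3183.result hCI S).1 d hgS T hTp hTC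
  rw [hT, Subgroup.card_map_of_injective (MulEquiv.injective _)] at h1
  have h2 : (S : Subgroup G) ⊓ Subgroup.centralizer ({d} : Set G) = (S : Subgroup G) :=
    Subgroup.eq_of_le_of_card_ge inf_le_left h1
  obtain ⟨h, hh, hconj⟩ := exists_conj_mem_sylow S (Subgroup.centralizer ({d} : Set G)) T
    (inf_eq_left.1 h2) hTp hTC
  have hn : h * g ∈ Subgroup.normalizer ((S : Subgroup G) : Set G) := by
    refine mem_normalizer_of_conj_mem _ fun x hx => ?_
    have := hconj _ ⟨x, hx, rfl⟩
    simpa [mul_assoc] using this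
  let φ : ↥(S : Subgroup G) ≃* ↥(S : Subgroup G) :=
    Subgroup.normalizerMonoidHom (S : Subgroup G) ⟨h * g, hn⟩
  have hφ := huniq (φ c) ?_ ((MulEquiv.orderOf_eq φ c).trans hc2)
  · have h3 : h * g * (c : G) * (h * g)⁻¹ = (c : G) := congrArg Subtype.val hφ
    have h4 : h * d * h⁻¹ = d := by
      rw [mul_inv_eq_iff_eq_mul]
      exact Subgroup.mem_centralizer_singleton_iff.1 hh
    rw [hd] at h4
    rw [← h3]
    calc g * (c : G) * g⁻¹ = h * (g * (c : G) * g⁻¹) * h⁻¹ := h4.symm
      _ = _ := by group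
  · have := Subgroup.characteristic_iff_map_eq.1 hCh φ
    exact this.le ⟨c, hc, rfl⟩

end Cfsg.Agent.Lib.Inv59.CentralInt
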