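/- The modular 2-group `⟨a, b | a^(2^n) = b^2 = 1, b a b⁻¹ = a^(2^(n-1)+1)⟩` (helper59). -/
import Mathlib
import Cfsg.Agent.Lib.Inv59.Basic

set_option autoImplicit false

namespace Cfsg.Agent.Lib.Inv59.Modular

variable {G : Type*} [Group G] [Finite G]

/-- data of a modular 2-group inside `G` -/
structure Data (S : Subgroup G) (n : ℕ) (a b : G) : Prop where
  three : 3 ≤ n
  card : Nat.card ↥S = 2 ^ (n + 1)
  mem_a : a ∈ S
  mem_b : b ∈ S
  ord_a : orderOf a = 2 ^ n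
  ord_b : orderOf b = 2
  rel : b * a * b⁻¹ = a ^ (2 ^ (n - 1) + 1)

variable {S : Subgroup G} {n : ℕ} {a b : G}

/-- the central involution -/
def zz (n : ℕ) (a : G) : G := a ^ (2 ^ (n - 1))

theorem two_pow_pred (h : Data S n a b) : 2 * 2 ^ (n - 1) = 2 ^ n := by
  rw [← pow_succ', Nat.sub_add_cancel (by have := h.three; omega)]

theorem b_sq (h : Data S n a b) : b * b = 1 := by rw [← sq, ← h.ord_b, pow_orderOf_eq_one]

theorem zz_sq (h : Data S n a b) : zz n a * zz n a = 1 := by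
  rw [zz, ← pow_add, ← two_mul, two_pow_pred h, ← h.ord_a, pow_orderOf_eq_one]

theorem zz_ne_one (h : Data S n a b) : zz n a ≠ 1 := by
  apply pow_ne_one_of_lt_orderOf (by positivity)
  rw [h.ord_a]
  exact Nat.pow_lt_pow_right (by norm_num) (by have := h.three; omega)

theorem zpow_r (h : Data S n a b) (i : ℤ) : b * a ^ i * b⁻¹ = a ^ i * zz n a ^ i := by
  rw [← conj_zpow, h.rel, pow_succ, ((Commute.refl a).pow_left _).mul_zpow, zz]
  exact ((Commute.pow_self a _).zpow_zpow i i).eq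

theorem zz_zpow_even (h : Data S n a b) {i : ℤ} (hi : Even i) : zz n a ^ i = 1 := by
  obtain ⟨k, rfl⟩ := hi
  rw [← two_mul, zpow_mul, show (2 : ℤ) = ((2 : ℕ) : ℤ) from rfl, zpow_natCast, sq, zz_sq h, one_zpow]

theorem comm_even (h : Data S n a b) {i : ℤ} (hi : Even i) : Commute b (a ^ i) := by
  have h1 := zpow_r h i
  rw [zz_zpow_even h hi, mul_one] at h1
  exact mul_inv_eq_iff_eq_mul.1 h1

theorem b_not_mem (h : Data S n a b) : b ∉ Subgroup.zpowers a := by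
  intro hm
  obtain ⟨i, rfl⟩ := Subgroup.mem_zpowers_iff.1 hm
  have h1 := h.rel
  rw [(Commute.zpow_self a i).eq, mul_inv_cancel_right, pow_succ] at h1
  exact zz_ne_one h (right_eq_mul.1 h1)

theorem repr (h : Data S n a b) {s : G} (hs : s ∈ S) :
    (∃ i : ℤ, s = a ^ i) ∨ ∃ i : ℤ, s = b * a ^ i := by
  have hle : Subgroup.zpowers a ≤ S := Subgroup.zpowers_le.2 h.mem_a
  have hidx : ((Subgroup.zpowers a).subgroupOf S).index = 2 := by
    have := Subgroup.card_mul_index ((Subgroup.zpowers a).subgroupOf S)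
    rw [Nat.card_congr (Subgroup.subgroupOfEquivOfLe hle).toEquiv, Nat.card_zpowers, h.ord_a, h.card,
      pow_succ] at this
    exact Nat.eq_of_mul_eq_mul_left (by positivity) this
  by_cases hm : s ∈ Subgroup.zpowers a
  · obtain ⟨i, hi⟩ := Subgroup.mem_zpowers_iff.1 hm
    exact Or.inl ⟨i, hi.symm⟩
  · have h1 := Subgroup.mul_mem_iff_of_index_two hidx (a := (⟨b, h.mem_b⟩ : ↥S)) (b := ⟨s, hs⟩)
    simp only [Subgroup.mem_subgroupOf, Subgroup.coe_mul] at h1
    obtain ⟨i, hi⟩ := Subgroup.mem_zpowers_iff.1 (h1.2 (iff_of_false (b_not_mem h) hm))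
    exact Or.inr ⟨i, by rw [hi, ← mul_assoc, b_sq h, one_mul]⟩

theorem zz_central (h : Data S n a b) {s : G} (hs : s ∈ S) : s * zz n a = zz n a * s := by
  have hb : Commute b (zz n a) := by
    have : zz n a = a ^ ((2 ^ (n - 1) : ℕ) : ℤ) := by rw [zpow_natCast]; rfl
    rw [this]
    refine comm_even h ?_
    obtain ⟨k, hk⟩ : ∃ k, n - 1 = k + 1 := ⟨n - 2, by have := h.three; omega⟩
    rw [hk, pow_succ]
    exact ⟨(2 ^ k : ℕ), by push_cast; ring⟩
  have ha : ∀ i : ℤ, Commute (a ^ i) (zz n a) := fun i => (Commute.refl a).zpow_left i |>.pow_right _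
  rcases repr h hs with ⟨i, rfl⟩ | ⟨i, rfl⟩
  · exact (ha i).eq
  · exact (hb.mul_left (ha i)).eq

theorem sq_a (h : Data S n a b) (i : ℤ) : (a ^ i) ^ 2 = a ^ (2 * i) := by
  rw [sq, ← zpow_add, two_mul]

theorem sq_ba (h : Data S n a b) (i : ℤ) :
    (b * a ^ i) ^ 2 = a ^ (i * (2 + 2 ^ (n - 1))) := by
  have hb : b⁻¹ = b := inv_eq_of_mul_eq_one_left (b_sq h)
  calc (b * a ^ i) ^ 2 = (b * a ^ i * b⁻¹) * a ^ i := by rw [sq, hb]; group
    _ = a ^ i * a ^ (((2 ^ (n - 1) : ℕ) : ℤ) * i) * a ^ i := by rw [zpow_r h, zz, zpow_mul, zpow_natCast]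
    _ = _ := by rw [← zpow_add, ← zpow_add]; congr 1; push_cast; ring

theorem half_eq (h : Data S n a b) {i : ℤ} (hi : (a ^ i) ^ 2 = 1) : a ^ i = 1 ∨ a ^ i = zz n a := by
  rw [sq_a h, ← orderOf_dvd_iff_zpow_eq_one, h.ord_a, ← two_pow_pred h] at hi
  push_cast at hi
  obtain ⟨c, hc⟩ := hi
  have hi' : i = ((2 ^ (n - 1) : ℕ) : ℤ) * c := by push_cast; linarith
  rw [hi', zpow_mul, zpow_natCast]
  rcases Int.even_or_odd c with hc' | ⟨k, rfl⟩
  · exact Or.inl (zz_zpow_even h hc')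
  · right
    show zz n a ^ (2 * k + 1) = _
    rw [zpow_add, zz_zpow_even h (even_two_mul k), one_mul, zpow_one]

/-- two elements of one coset of `⟨a⟩` with the same square differ at most by `zz` -/
theorem fibre (h : Data S n a b) {s t : G} (hs : s ∈ S) (ht : t ∈ S)
    (hsa : s ∈ Subgroup.zpowers a ↔ t ∈ Subgroup.zpowers a) (hsq : s ^ 2 = t ^ 2) :
    t = s ∨ t = s * zz n a := by
  have hnb : ∀ i : ℤ, b * a ^ i ∉ Subgroup.zpowers a := fun i hm =>
    b_not_mem h ((Subgroup.mul_mem_cancel_right _ (Subgroup.zpow_mem_zpowers a i)).1 hm)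
  have fin : ∀ i j : ℤ, (a ^ (j - i)) ^ 2 = 1 → a ^ j = a ^ i ∨ a ^ j = a ^ i * zz n a := by
    intro i j e
    rcases half_eq h e with e1 | e1
    · left; rw [show j = i + (j - i) by ring, zpow_add, e1, mul_one]
    · right; rw [show j = i + (j - i) by ring, zpow_add, e1]
  rcases repr h hs with ⟨i, rfl⟩ | ⟨i, rfl⟩ <;> rcases repr h ht with ⟨j, rfl⟩ | ⟨j, rfl⟩
  · apply fin
    rw [sq_a h, sq_a h] at hsq
    rw [sq_a h, mul_sub, zpow_sub, hsq, mul_inv_cancel]
  · exact absurd (hsa.1 (Subgroup.zpow_mem_zpowers a i)) (hnb j)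
  · exact absurd (hsa.2 (Subgroup.zpow_mem_zpowers a j)) (hnb i)
  · rw [sq_ba h, sq_ba h] at hsq
    have e : (a ^ (j - i)) ^ 2 = 1 := by
      rw [sq_a h, ← orderOf_dvd_iff_zpow_eq_one]
      have h1 : a ^ ((j - i) * (2 + 2 ^ (n - 1))) = 1 := by
        rw [sub_mul, zpow_sub, hsq, mul_inv_cancel]
      rw [← orderOf_dvd_iff_zpow_eq_one, h.ord_a] at h1
      rw [h.ord_a]
      obtain ⟨k, hk⟩ : ∃ k, n - 1 = k + 2 := ⟨n - 3, by have := h.three; omega⟩
      rw [show (2 : ℤ) + 2 ^ (n - 1) = 2 * (2 * 2 ^ k + 1) by rw [hk, pow_add]; ring] at h1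
      push_cast at h1 ⊢
      have hcop : IsCoprime ((2 : ℤ) ^ n) (2 * 2 ^ k + 1) :=
        (IsCoprime.pow_left (Int.isCoprime_two_left.2 ⟨2 ^ k, rfl⟩))
      exact hcop.dvd_of_dvd_mul_right (by
        rw [show (2 : ℤ) * (j - i) * (2 * 2 ^ k + 1) = (j - i) * (2 * (2 * 2 ^ k + 1)) by ring]
        exact h1)
    rcases fin i j e with e1 | e1
    · left; rw [e1]
    · right; rw [e1, mul_assoc]

/-- the square of any element is a power of `a ^ 2` -/
theorem sq_mem (h : Data S n a b) {s : G} (hs : s ∈ S) : ∃ k : ℤ, s ^ 2 = a ^ (2 * k) := by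
  obtain ⟨l, hl⟩ : ∃ l, n - 1 = l + 1 := ⟨n - 2, by have := h.three; omega⟩
  rcases repr h hs with ⟨i, rfl⟩ | ⟨i, rfl⟩
  · exact ⟨i, sq_a h i⟩
  · refine ⟨i * (1 + 2 ^ l), ?_⟩
    rw [sq_ba h, hl, pow_succ]
    congr 1
    ring

/-- the involution of a nontrivial cyclic subgroup generated by a square is `zz` -/
theorem sq_pow_eq_zz (h : Data S n a b) {s : G} (hs : s ∈ S) (hne : s ^ 2 ≠ 1) :
    ∃ m : ℕ, (s ^ 2) ^ m = zz n a := by
  obtain ⟨k, hk⟩ := sq_mem h hs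
  obtain ⟨e, he⟩ : ∃ e, orderOf (s ^ 2) = 2 ^ (e + 1) := by
    have hd : orderOf (s ^ 2) ∣ 2 ^ (n + 1) := by
      rw [← h.card]
      have := orderOf_dvd_natCard (⟨s ^ 2, pow_mem hs 2⟩ : ↥S)
      rwa [← Subgroup.orderOf_coe] at this
    obtain ⟨e, -, he⟩ := (Nat.dvd_prime_pow Nat.prime_two).1 hd
    rcases e with _ | e
    · exact absurd (orderOf_eq_one_iff.1 (by simpa using he)) hne
    · exact ⟨e, he⟩
  refine ⟨2 ^ e, ?_⟩
  have h1 : ((s ^ 2) ^ (2 ^ e)) ^ 2 = 1 := by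
    rw [← pow_mul, ← pow_succ, ← he, pow_orderOf_eq_one]
  have h2 : (s ^ 2) ^ (2 ^ e) ≠ 1 := by
    apply pow_ne_one_of_lt_orderOf (by positivity)
    rw [he]
    exact Nat.pow_lt_pow_right (by norm_num) (by omega)
  rw [hk, ← zpow_natCast (a ^ _), ← zpow_mul] at h1 h2 ⊢
  exact (half_eq h h1).resolve_left h2

/-- an automorphism-like map of odd order fixing `zz` fixes everything -/
theorem fixed_of_fix_zz (h : Data S n a b) {g : G} (hg : (orderOf g).Coprime 2) (Q : Subgroup G) (hQ : Q ≤ S)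
    (hgQ : g ∈ Subgroup.normalizer (Q : Set G)) (hgz : Commute g (zz n a))
    {x : G} (hx : x ∈ Q) (hsq : Commute g (x ^ 2)) : Commute g x := by
  have step : ∀ k : ℕ, (g ^ k * x * (g ^ k)⁻¹ = x ∨ g ^ k * x * (g ^ k)⁻¹ = x * zz n a) →
      Commute (g ^ (2 * k)) x := by
    intro k hk
    have e : g ^ (2 * k) = g ^ k * g ^ k := by rw [two_mul, pow_add]
    rw [commute_iff_eq, ← mul_inv_eq_iff_eq_mul, e]
    calc g ^ k * g ^ k * x * (g ^ k * g ^ k)⁻¹ = g ^ k * (g ^ k * x * (g ^ k)⁻¹) * (g ^ k)⁻¹ := by group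
      _ = x := by
        rcases hk with hk | hk
        · rw [hk, hk]
        · rw [hk]
          calc g ^ k * (x * zz n a) * (g ^ k)⁻¹ = (g ^ k * x * (g ^ k)⁻¹) * (g ^ k * zz n a * (g ^ k)⁻¹) := by group
            _ = x := by rw [hk, (hgz.pow_left k).eq, mul_inv_cancel_right, mul_assoc, zz_sq h, mul_one]
  have hmem : ∀ k : ℕ, g ^ k * x * (g ^ k)⁻¹ ∈ Q := fun k =>
    (Subgroup.mem_normalizer_iff.1 (pow_mem hgQ k) x).1 hx
  have hfib : ∀ k : ℕ, x ^ 2 = (g ^ k * x * (g ^ k)⁻¹) ^ 2 := fun k => by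
    rw [conj_pow, (hsq.pow_left k).eq, mul_inv_cancel_right]
  have fin : ∀ k : ℕ, k.Coprime (orderOf g) → Commute (g ^ (2 * k)) x → Commute g x := by
    intro k hk hc
    obtain ⟨m, hm⟩ := exists_pow_eq_self_of_coprime (n := 2 * k) (x := g)
      (Nat.Coprime.mul_left (Nat.Coprime.symm hg) hk)
    rw [← hm]
    exact hc.pow_left m
  by_cases h01 : (x ∈ Subgroup.zpowers a ↔ g * x * g⁻¹ ∈ Subgroup.zpowers a)
  · have := step 1 (by simpa using fibre h (hQ hx) (hQ (by simpa using hmem 1)) h01 (by simpa using hfib 1))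
    exact fin 1 (Nat.coprime_one_left _) this
  · by_cases h02 : (x ∈ Subgroup.zpowers a ↔ g ^ 2 * x * (g ^ 2)⁻¹ ∈ Subgroup.zpowers a)
    · have := step 2 (fibre h (hQ hx) (hQ (hmem 2)) h02 (hfib 2))
      exact fin 2 (Nat.Coprime.symm hg) this
    · have h12 : (g * x * g⁻¹ ∈ Subgroup.zpowers a ↔ g ^ 2 * x * (g ^ 2)⁻¹ ∈ Subgroup.zpowers a) := by tauto
      have hf : (g * x * g⁻¹) ^ 2 = (g ^ 2 * x * (g ^ 2)⁻¹) ^ 2 := by
        rw [← hfib 2]; simpa using (hfib 1).symm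
      have := fibre h (hQ (by simpa using hmem 1)) (hQ (hmem 2)) h12 hf
      have e : g ^ 2 * x * (g ^ 2)⁻¹ = g * (g * x * g⁻¹) * g⁻¹ := by rw [sq g]; group
      rw [e] at this
      refine fin 1 (Nat.coprime_one_left _) (step 1 ?_)
      rcases this with e1 | e1
      · left
        simpa using e1
      · right
        have : g * x * g⁻¹ = x * (g⁻¹ * zz n a * g) := by
          calc g * x * g⁻¹ = g⁻¹ * (g * (g * x * g⁻¹) * g⁻¹) * g := by group
            _ = _ := by rw [e1]; group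
        rw [pow_one, this, mul_assoc g⁻¹, ← hgz.eq, inv_mul_cancel_left]

/-- the centralizer of `b` in `S` -/
theorem mem_centralizer_b (h : Data S n a b) {s : G} (hs : s ∈ S) (hc : s * b = b * s) :
    s ^ (2 ^ (n - 2)) = 1 ∨ s ^ (2 ^ (n - 2)) = zz n a := by
  have key : ∀ i : ℤ, b * a ^ i = a ^ i * b → ((a ^ i) ^ (2 ^ (n - 2))) ^ 2 = 1 := by
    intro i hi
    have h1 := zpow_r h i
    rw [hi, mul_inv_cancel_right] at h1
    have hz : zz n a ^ i = 1 := left_eq_mul.1 h1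
    rcases Int.even_or_odd i with ⟨k, rfl⟩ | ⟨k, rfl⟩
    · rw [← pow_mul, ← pow_succ, ← zpow_natCast (a ^ _), ← zpow_mul,
        show (k + k) * ((2 ^ (n - 2 + 1) : ℕ) : ℤ) = ((2 ^ n : ℕ) : ℤ) * k by
          conv_rhs => rw [show n = n - 2 + 1 + 1 by have := h.three; omega, pow_succ]
          push_cast; ring,
        zpow_mul, zpow_natCast, ← h.ord_a, pow_orderOf_eq_one, one_zpow]
    · rw [zpow_add, zz_zpow_even h (even_two_mul k), one_mul, zpow_one] at hz
      exact absurd hz (zz_ne_one h)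
  rcases repr h hs with ⟨i, rfl⟩ | ⟨i, rfl⟩
  · have := key i hc.symm
    rw [← zpow_natCast (a ^ i), ← zpow_mul] at this ⊢
    exact half_eq h this
  · have hab : b * a ^ i = a ^ i * b := by
      rw [mul_assoc] at hc
      exact (mul_left_cancel hc).symm
    have := key i hab
    rw [Commute.mul_pow hab]
    have hb : b ^ (2 ^ (n - 2)) = 1 := by
      obtain ⟨l, hl⟩ : ∃ l, n - 2 = l + 1 := ⟨n - 3, by have := h.three; omega⟩
      rw [hl, pow_succ', pow_mul, sq, b_sq h, one_pow]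
    rw [hb, one_mul, ← zpow_natCast (a ^ i), ← zpow_mul] at *
    exact half_eq h this

/-- the only central involution is `zz` -/
theorem central_involution (h : Data S n a b) {s : G} (hs : s ∈ S) (hc : s * a = a * s)
    (h2 : s ^ 2 = 1) (h1 : s ≠ 1) : s = zz n a := by
  rcases repr h hs with ⟨i, rfl⟩ | ⟨i, rfl⟩
  · exact (half_eq h h2).resolve_left h1
  · exfalso
    have hb : b * a = a * b := by
      have e : a ^ i * a = a * a ^ i := (Commute.zpow_self a i).eq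
      rw [mul_assoc, e, ← mul_assoc, ← mul_assoc] at hc
      exact mul_right_cancel hc
    have h3 := h.rel
    rw [hb, mul_inv_cancel_right, pow_succ] at h3
    exact zz_ne_one h (right_eq_mul.1 h3)

end Cfsg.Agent.Lib.Inv59.Modular
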