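import Mathlib
import Cfsg.Agent.Lib.Inv59.EightAuto

/-!
# Automorphisms of 2-power order fixing an abelian Sylow 2-subgroup of a simple group are inner
-/

set_option autoImplicit false
set_option linter.style.haveILetI false

namespace Cfsg.Agent.Lib.Inv59.AutFix

universe u

variable {G : Type u} [Group G] [Finite G]

theorem center_bot [IsSimpleGroup G] (hG : ¬ IsMulCommutative G) :
    Subgroup.center G = ⊥ :=
  (IsSimpleGroup.eq_bot_or_eq_top_of_normal (Subgroup.center G) inferInstance).resolve_right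
    fun h => hG ⟨⟨fun a b => Subgroup.mem_center_iff.1 (h ▸ Subgroup.mem_top b) a⟩⟩

set_option maxHeartbeats 800000 in
/-- Glauberman: such an automorphism is inner. -/
theorem exists_inner [IsSimpleGroup G] (hG : ¬ IsMulCommutative G) (h2G : 2 ∣ Nat.card G)
    (S : Sylow 2 G)
    (hab : IsMulCommutative (S : Subgroup G)) (φ : MulAut G) {k : ℕ} (hφ : φ ^ (2 ^ k) = 1)
    (hfix : ∀ s ∈ (S : Subgroup G), φ s = s) : ∃ g : G, φ = MulAut.conj g := by
  classical
  set c : G →* MulAut G := MulAut.conj with hc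
  have hconj : ∀ (α : MulAut G) (g : G), α * c g * α⁻¹ = c (α g) := by
    intro α g
    ext z
    simp [hc, MulAut.mul_apply, MulAut.conj_apply]
  have hcinj : Function.Injective c := by
    rw [← MonoidHom.ker_eq_bot_iff, ← le_bot_iff, ← center_bot hG]
    intro g hg
    rw [Subgroup.mem_center_iff]
    intro z
    have := congrArg (fun a : MulAut G => a z) hg
    simp only [hc, MulAut.conj_apply, MulAut.one_apply] at this
    exact (mul_inv_eq_iff_eq_mul.1 this).symm
  haveI : Finite (MulAut G) := Finite.of_injective (fun a : MulAut G => (a : G → G))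
    DFunLike.coe_injective
  set I := c.range with hI
  haveI hIn : I.Normal := ⟨by
    rintro _ ⟨g, rfl⟩ α
    exact ⟨α g, (hconj α g).symm⟩⟩
  set X : Subgroup (MulAut G) := I ⊔ Subgroup.zpowers φ with hX
  have hφX : φ ∈ X := Subgroup.mem_sup_right (Subgroup.mem_zpowers φ)
  set A : Subgroup (MulAut G) := (S : Subgroup G).map c with hA
  set T : Subgroup (MulAut G) := A ⊔ Subgroup.zpowers φ with hT
  have hTX : T ≤ X := sup_le_sup_right (by rintro _ ⟨g, -, rfl⟩; exact ⟨g, rfl⟩) _
  have hφA : ∀ a ∈ A, Commute φ a := by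
    rintro _ ⟨s, hs, rfl⟩
    have := hconj φ s
    rw [hfix s hs, mul_inv_eq_iff_eq_mul] at this
    exact this
  have hnorm : Subgroup.zpowers φ ≤ Subgroup.normalizer (A : Set (MulAut G)) := by
    rw [Subgroup.zpowers_le, Subgroup.mem_normalizer_iff]
    intro a
    constructor
    · intro ha
      rw [(hφA a ha).eq, mul_inv_cancel_right]
      exact ha
    · intro ha
      have h := (hφA _ ha).eq
      have e : φ * a * φ⁻¹ * φ = φ * a := inv_mul_cancel_right _ _
      rw [← h, mul_right_inj] at e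
      rwa [e] at ha
  have hT2 : IsPGroup 2 T := by
    refine IsPGroup.to_sup_of_normal_left' (S.2.map c) ?_ hnorm
    obtain ⟨j, -, hj⟩ := (Nat.dvd_prime_pow Nat.prime_two).1 (orderOf_dvd_of_pow_eq_one hφ)
    exact IsPGroup.of_card (n := j) (by rw [Nat.card_zpowers, hj])
  have hTcomm : ∀ a ∈ T, ∀ b ∈ T, Commute a b := by
    have h1 : T ≤ Subgroup.centralizer (A : Set (MulAut G)) := sup_le
      (by
        rintro _ ⟨a, ha, rfl⟩
        rw [Subgroup.mem_centralizer_iff]
        rintro _ ⟨b, hb, rfl⟩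
        rw [← map_mul, ← map_mul]
        exact congrArg c (congrArg Subtype.val
          (hab.is_comm.comm (⟨b, hb⟩ : (S : Subgroup G)) ⟨a, ha⟩)))
      (Subgroup.zpowers_le.2 (Subgroup.mem_centralizer_iff.2 fun a ha => (hφA a ha).eq.symm))
    have h2 : T ≤ Subgroup.centralizer (Subgroup.zpowers φ : Set (MulAut G)) := sup_le
      (by
        intro a ha
        rw [Subgroup.mem_centralizer_iff]
        rintro _ ⟨i, rfl⟩
        exact ((hφA a ha).zpow_left i).eq)
      (by
        intro a ha
        rw [Subgroup.mem_centralizer_iff]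
        obtain ⟨j, rfl⟩ := ha
        rintro _ ⟨i, rfl⟩
        exact (Commute.zpow_zpow_self φ i j).eq)
    intro a ha b hb
    have h3 : T ≤ Subgroup.centralizer ({a} : Set (MulAut G)) := sup_le
      (fun z hz => Subgroup.mem_centralizer_singleton_iff.2
        (Subgroup.mem_centralizer_iff.1 (h1 ha) z hz))
      (fun z hz => Subgroup.mem_centralizer_singleton_iff.2
        (Subgroup.mem_centralizer_iff.1 (h2 ha) z hz))
    exact (Subgroup.mem_centralizer_singleton_iff.1 (h3 hb)).symm
  -- the Sylow subgroup of `X`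
  have hidx : ¬ 2 ∣ (T.subgroupOf X).index := by
    have h1 : X = T ⊔ I := by
      refine le_antisymm (sup_le le_sup_right ((le_sup_right : Subgroup.zpowers φ ≤ T).trans le_sup_left))
        (sup_le hTX le_sup_left)
    have h2 : A.relIndex I = (S : Subgroup G).index := by
      rw [hA, hI, MonoidHom.range_eq_map, Subgroup.relIndex_map_map_of_injective _ _ hcinj,
        Subgroup.relIndex_top_right]
    have h3 : T.relIndex I ∣ A.relIndex I := Subgroup.relIndex_dvd_of_le_left I le_sup_left
    have h4 : T.relIndex (T ⊔ I) = T.relIndex I := by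
      have e1 : (I ⊓ T).relIndex I * I.relIndex (T ⊔ I) = (I ⊓ T).relIndex (T ⊔ I) :=
        Subgroup.relIndex_mul_relIndex _ _ _ inf_le_left le_sup_right
      have e2 : (I ⊓ T).relIndex T * T.relIndex (T ⊔ I) = (I ⊓ T).relIndex (T ⊔ I) :=
        Subgroup.relIndex_mul_relIndex _ _ _ inf_le_right le_sup_left
      have e3 : I.relIndex (T ⊔ I) = I.relIndex T := Subgroup.relIndex_sup_right T I
      rw [e3, Subgroup.inf_relIndex_left] at e1
      rw [Subgroup.inf_relIndex_right, ← e1, mul_comm] at e2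
      exact Nat.eq_of_mul_eq_mul_right
        (Nat.pos_of_ne_zero (Subgroup.index_ne_zero_of_finite (H := I.subgroupOf T))) e2
    intro h
    change 2 ∣ T.relIndex X at h
    rw [h1, h4] at h
    exact S.not_dvd_index (h2 ▸ h.trans h3)
  set P : Sylow 2 X := (hT2.comap_of_injective X.subtype X.subtype_injective).toSylow hidx with hP
  have hPmem : ∀ z : X, z ∈ (P : Subgroup X) ↔ (z : MulAut G) ∈ T := fun z => Iff.rfl
  have hPab : IsMulCommutative (P : Subgroup X) :=
    ⟨⟨fun a b => Subtype.ext (Subtype.ext (hTcomm _ ((hPmem _).1 a.2) _ ((hPmem _).1 b.2)).eq)⟩⟩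
  set N := Subgroup.normalizer ((P : Subgroup X) : Set X) with hN
  by_contra hno
  push Not at hno
  -- modulo the inner automorphisms
  set π := QuotientGroup.mk' (I.subgroupOf X) with hπ
  let y : X := ⟨φ, hφX⟩
  have hπφ : ∀ z : X, π z ∈ Subgroup.zpowers (π y) := by
    intro z
    have hz : (z : MulAut G) ∈ I ⊔ Subgroup.zpowers φ := z.2
    rw [Subgroup.mem_sup_of_normal_left] at hz
    obtain ⟨a, ha, b, ⟨i, rfl⟩, hab'⟩ := hz
    refine ⟨i, ?_⟩
    show (π y) ^ i = π z
    rw [← map_zpow π y i, hπ, QuotientGroup.mk'_eq_mk']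
    refine ⟨(y ^ i)⁻¹ * z, ?_, mul_inv_cancel_left _ _⟩
    rw [Subgroup.mem_subgroupOf, Subgroup.coe_mul, Subgroup.coe_inv, Subgroup.coe_zpow, ← hab']
    have h1 := hIn.conj_mem a ha (φ ^ i)⁻¹
    rw [inv_inv, mul_assoc] at h1
    exact h1
  have hπc : ∀ n z : X, π (n * z * n⁻¹) = π z := by
    intro n z
    obtain ⟨i, hi⟩ := hπφ n
    obtain ⟨j, hj⟩ := hπφ z
    rw [map_mul, map_mul, map_inv, ← hi, ← hj]
    simp only [← zpow_neg, ← zpow_add]
    congr 1
    omega
  -- the orbit of `φ`
  have hyP : y ∈ (P : Subgroup X) := (hPmem y).2 (Subgroup.mem_sup_right (Subgroup.mem_zpowers φ))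
  set O := EightAuto.orb N y with hO
  have hOP : O ⊆ ((P : Subgroup X) : Set X) := by
    rintro z ⟨n, hn, rfl⟩
    exact (Subgroup.mem_normalizer_iff.1 hn y).1 hyP
  haveI := Fintype.ofFinite O
  letI : CommGroup (P : Subgroup X) := { (inferInstance : Group (P : Subgroup X)) with
    mul_comm := hPab.is_comm.comm }
  set ψ : (P : Subgroup X) := ∏ z : O, (⟨z, hOP z.2⟩ : (P : Subgroup X)) with hψ
  have hfixψ : ∀ n ∈ N, n * (ψ : X) * n⁻¹ = ψ := by
    intro n hn
    let f : (P : Subgroup X) →* (P : Subgroup X) :=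
      { toFun := fun z => ⟨n * z * n⁻¹, (Subgroup.mem_normalizer_iff.1 hn _).1 z.2⟩
        map_one' := Subtype.ext (by simp)
        map_mul' := fun a b => Subtype.ext (by simp [mul_assoc]) }
    have he : f ψ = ψ := by
      rw [hψ, map_prod]
      refine Fintype.prod_equiv (Equiv.subtypeEquiv (MulAut.conj n).toEquiv
        (fun z => (?_ : z ∈ O ↔ n * z * n⁻¹ ∈ O))) _ _ (fun z => rfl)
      constructor
      · rintro ⟨m, hm, e⟩
        exact ⟨n * m, mul_mem hn hm, by rw [← e]; group⟩
      · rintro ⟨m, hm, e⟩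
        refine ⟨n⁻¹ * m, mul_mem (inv_mem hn) hm, ?_⟩
        calc n⁻¹ * m * y * (n⁻¹ * m)⁻¹ = n⁻¹ * (m * y * m⁻¹) * n := by group
          _ = z := by rw [e]; group
    exact congrArg Subtype.val he
  -- its image modulo the inner automorphisms
  have hOodd : Odd (Nat.card O) := by
    have e : Nat.card O = O.ncard := rfl
    rw [e, hO, EightAuto.ncard_orb]
    have hle : (P : Subgroup X) ≤ Subgroup.centralizer ({y} : Set X) := fun s hs => by
      rw [Subgroup.mem_centralizer_singleton_iff]
      exact congrArg Subtype.val (hPab.is_comm.comm (⟨s, hs⟩ : (P : Subgroup X)) ⟨y, hyP⟩)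
    have h1 := Subgroup.relIndex_dvd_of_le_left N hle
    have h2 : (P : Subgroup X).relIndex N ∣ (P : Subgroup X).index :=
      Subgroup.relIndex_dvd_index_of_le Subgroup.le_normalizer
    exact Nat.odd_iff.2 (Nat.two_dvd_ne_zero.1 fun h => P.not_dvd_index (h.trans (h1.trans h2)))
  have hψne : ψ ≠ 1 := by
    intro h1
    have h2 : π (ψ : X) = π y ^ Nat.card O := by
      have key : ∀ s : Finset O,
          π ((∏ z ∈ s, (⟨z, hOP z.2⟩ : (P : Subgroup X)) : (P : Subgroup X)) : X) = π y ^ s.card := by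
        intro s
        induction s using Finset.induction_on with
        | empty => simp
        | insert z s hz ih =>
          rw [Finset.prod_insert hz, Subgroup.coe_mul, map_mul, ih, Finset.card_insert_of_notMem hz,
            pow_succ']
          obtain ⟨n, -, e⟩ := z.2
          rw [show π (z : X) = π y by rw [← e, hπc]]
      rw [hψ, key, Finset.card_univ, Nat.card_eq_fintype_card]
    rw [h1, OneMemClass.coe_one, map_one] at h2
    have h3 : π y ^ (2 ^ k) = 1 := by
      rw [← map_pow, show y ^ (2 ^ k) = 1 from Subtype.ext (by rw [Subgroup.coe_pow]; exact hφ), map_one]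
    have h4 : π y = 1 := by
      have hg : Nat.gcd (Nat.card O) (2 ^ k) = 1 :=
        Nat.coprime_iff_gcd_eq_one.1 ((Nat.coprime_two_right.2 hOodd).pow_right k)
      have := pow_gcd_eq_one.2 ⟨h2.symm, h3⟩
      rwa [hg, pow_one] at this
    obtain ⟨g, hg⟩ := (QuotientGroup.eq_one_iff y).1 h4
    exact hno g hg.symm
  -- the involution among its powers
  obtain ⟨d, hd⟩ := P.2 ψ
  obtain ⟨j, -, hj⟩ := (Nat.dvd_prime_pow Nat.prime_two).1 (orderOf_dvd_of_pow_eq_one hd)
  have hj1 : 1 ≤ j := by
    by_contra h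
    obtain rfl : j = 0 := by omega
    exact hψne (orderOf_eq_one_iff.1 (by rw [hj, pow_zero]))
  set u : (P : Subgroup X) := ψ ^ (2 ^ (j - 1)) with hu
  have huo : orderOf u = 2 := by
    rw [hu, orderOf_pow' ψ (by positivity), hj,
      Nat.gcd_eq_right (pow_dvd_pow 2 (by omega)), Nat.pow_div (by omega) (by norm_num),
      show j - (j - 1) = 1 by omega, pow_one]
  have hufix : ∀ n ∈ N, n * (u : X) * n⁻¹ = u := fun n hn => by
    rw [hu, Subgroup.coe_pow, ← conj_pow, hfixψ n hn]
  have hiso : ∀ g : X, g * (u : X) * g⁻¹ ∈ P → g * (u : X) * g⁻¹ = u := by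
    intro g hg
    obtain ⟨n, hn, e⟩ := EightAuto.burnside P hPab u.2 hg
    rw [← e, hufix n hn]
  have huX : orderOf (u : X) = 2 := by rw [Subgroup.orderOf_coe, huo]
  obtain ⟨M, hMn, hModd, hMmem⟩ := ZStar.UniqueCase.zstar P (u : X) huX u.2 hiso
  -- odd normal subgroups centralize the inner automorphisms
  let cX : G →* X := c.codRestrict X fun g => Subgroup.mem_sup_left ⟨g, rfl⟩
  have hMI : M.comap cX = ⊥ := by
    rcases IsSimpleGroup.eq_bot_or_eq_top_of_normal (M.comap cX) inferInstance with h | h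
    · exact h
    · exfalso
      obtain ⟨g, hg⟩ := exists_prime_orderOf_dvd_card' (G := G) 2 h2G
      have hgM : cX g ∈ M := (h ▸ Subgroup.mem_top g : g ∈ M.comap cX)
      have h3 : orderOf (cX g) = 2 := by
        rw [orderOf_injective cX (fun a b e => hcinj (congrArg Subtype.val e)), hg]
      have h4 : 2 ∣ Nat.card M := by
        have := orderOf_dvd_natCard (⟨cX g, hgM⟩ : M)
        rwa [Subgroup.orderOf_mk, h3] at this
      exact Nat.not_even_iff_odd.2 hModd (even_iff_two_dvd.2 h4)
  have hMone : ∀ m ∈ M, (m : X) = 1 := by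
    intro m hm
    apply Subtype.ext
    ext g
    have h1 : m * cX g * m⁻¹ * (cX g)⁻¹ ∈ M := by
      have := hMn.conj_mem _ (inv_mem hm) (cX g)
      have h2 := mul_mem hm this
      simpa [mul_assoc] using h2
    have h2 : m * cX g * m⁻¹ * (cX g)⁻¹ = cX ((m : MulAut G) g * g⁻¹) := by
      apply Subtype.ext
      show (m : MulAut G) * c g * (m : MulAut G)⁻¹ * (c g)⁻¹ = c ((m : MulAut G) g * g⁻¹)
      rw [hconj, map_mul, map_inv]
    rw [h2, ← Subgroup.mem_comap, hMI, Subgroup.mem_bot, mul_inv_eq_one] at h1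
    exact h1
  have hucen : ∀ g : X, (u : X) * g * (u : X)⁻¹ * g⁻¹ = 1 := fun g => hMone _ (hMmem g)
  have hu1 : ((u : X) : MulAut G) = 1 := by
    ext g
    have h := congrArg Subtype.val (hucen (cX g))
    change ((u : X) : MulAut G) * c g * ((u : X) : MulAut G)⁻¹ * (c g)⁻¹ = 1 at h
    rw [hconj, mul_inv_eq_one] at h
    exact hcinj h
  rw [show (u : X) = 1 from Subtype.ext hu1, orderOf_one] at huX
  omega

end Cfsg.Agent.Lib.Inv59.AutFix
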