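import Mathlib
import Cfsg.Agent.Lib.AutPSL.Card
import Cfsg.Agent.Lib.AutPSL.Main
import Cfsg.Agent.Lib.AutPSL.Descent
import Cfsg.Agent.Lib.Linear.Order
import Cfsg.Agent.Lib.Linear.Simple
import Cfsg.Agent.S0276

/-!
# Almost simple groups over `PSL₂(q)`, `q` odd, with abelian Sylow 2-subgroups
-/

set_option autoImplicit false
set_option linter.style.haveILetI false

namespace Cfsg.Agent.Lib.Inv59.AutPSLTwo

open Matrix Cfsg.Agent.Lib.AutPSL
open scoped MatrixGroups

universe u v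

/-- With abelian Sylow 2-subgroups an inverted element of order dividing 4 is an involution. -/
theorem sq_eq_one_of_inverted {E : Type u} [Group E] [Finite E]
    (hab : ∀ S : Sylow 2 E, IsMulCommutative (S : Subgroup E)) {x y : E}
    (hx : x ^ 4 = 1) (hy : y ^ 2 = 1) (hinv : y * x * y⁻¹ = x⁻¹) : x ^ 2 = 1 := by
  have hX : IsPGroup 2 (Subgroup.zpowers x) := by
    intro z
    refine ⟨2, Subtype.ext ?_⟩
    obtain ⟨_, k, rfl⟩ := z
    show (x ^ k) ^ (2 ^ 2) = 1
    rw [← zpow_natCast, ← _root_.zpow_mul, mul_comm, _root_.zpow_mul, zpow_natCast]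
    norm_num [hx]
  have hY : IsPGroup 2 (Subgroup.zpowers y) := by
    intro z
    refine ⟨1, Subtype.ext ?_⟩
    obtain ⟨_, k, rfl⟩ := z
    show (y ^ k) ^ (2 ^ 1) = 1
    rw [← zpow_natCast, ← _root_.zpow_mul, mul_comm, _root_.zpow_mul, zpow_natCast]
    norm_num [hy]
  have hn : Subgroup.zpowers y ≤ Subgroup.normalizer (Subgroup.zpowers x : Set E) := by
    rw [Subgroup.zpowers_le, Subgroup.mem_normalizer_iff]
    have hy' : y⁻¹ = y := inv_eq_of_mul_eq_one_right (by rw [← pow_two, hy])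
    have hk : ∀ a ∈ Subgroup.zpowers x, y * a * y⁻¹ ∈ Subgroup.zpowers x := by
      rintro _ ⟨k, rfl⟩
      show y * x ^ k * y⁻¹ ∈ _
      rw [← conj_zpow, hinv, _root_.inv_zpow]
      exact inv_mem (Subgroup.zpow_mem_zpowers x k)
    intro a
    refine ⟨hk a, fun h => ?_⟩
    have h2 := hk _ h
    have e : y * (y * a * y⁻¹) * y⁻¹ = a := by
      rw [hy']
      have e2 : y * y = 1 := by rw [← pow_two, hy]
      calc y * (y * a * y) * y = (y * y) * a * (y * y) := by group
        _ = a := by rw [e2, one_mul, mul_one]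
    rwa [e] at h2
  have hXY : IsPGroup 2 (Subgroup.zpowers x ⊔ Subgroup.zpowers y : Subgroup E) :=
    IsPGroup.to_sup_of_normal_left' hX hY hn
  obtain ⟨P, hP⟩ := hXY.exists_le_sylow
  have hxP : x ∈ (P : Subgroup E) := hP (Subgroup.mem_sup_left (Subgroup.mem_zpowers x))
  have hyP : y ∈ (P : Subgroup E) := hP (Subgroup.mem_sup_right (Subgroup.mem_zpowers y))
  have hc : y * x = x * y :=
    congrArg Subtype.val ((hab P).is_comm.comm (⟨y, hyP⟩ : (P : Subgroup E)) ⟨x, hxP⟩)
  rw [hc, mul_inv_cancel_right, eq_inv_iff_mul_eq_one, ← pow_two] at hinv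
  exact hinv

variable {F : Type v} [Field F] [Fintype F]

local notation "P₂" => Matrix.ProjectiveSpecialLinearGroup (Fin 2) F

/-- The centre of `GL₂` acts trivially; scalar matrices give the identity automorphism. -/
theorem conjAut_eq_one_of_scalar {g : GL (Fin 2) F} {c : F}
    (h : (g : Matrix (Fin 2) (Fin 2) F) = c • 1) : (conjAut g : MulAut P₂) = 1 :=
  conjAut_eq_one_of_center (mem_center_GL_of_scalar h)

/-- The pair of automorphisms generating a dihedral group of order 8. -/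
theorem exists_dihedral (hodd : Odd (Fintype.card F)) :
    ∃ g h : GL (Fin 2) F, (GeneralLinearGroup.det g : F) = 2 ∧
      (GeneralLinearGroup.det h : F) = 1 ∧
      (conjAut g : MulAut P₂) ^ 4 = 1 ∧ (conjAut g : MulAut P₂) ^ 2 ≠ 1 ∧
      (conjAut h : MulAut P₂) ^ 2 = 1 ∧
      (conjAut h : MulAut P₂) * conjAut g * (conjAut h)⁻¹ = (conjAut g)⁻¹ := by
  classical
  have h2 : (2 : F) ≠ 0 := Cfsg.Agent.Lib.Linear.two_ne_zero_of_odd_card hodd
  have hchar : ringChar F ≠ 2 := fun e => h2 (by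
    haveI : CharP F 2 := e ▸ ringChar.charP F
    exact CharTwo.two_eq_zero)
  obtain ⟨a, b, hab⟩ : ∃ a b : F, a ^ 2 + b ^ 2 = -1 := by
    obtain ⟨a, b, h⟩ := FiniteField.exists_root_sum_quadratic
      (f := Polynomial.X ^ 2) (g := Polynomial.X ^ 2 - Polynomial.C (-1 : F))
      (Polynomial.degree_X_pow 2) (Polynomial.degree_X_pow_sub_C (by norm_num) _)
      (Nat.odd_iff.1 hodd)
    refine ⟨a, b, ?_⟩
    simp at h
    linear_combination h
  set Mg : Matrix (Fin 2) (Fin 2) F := !![1, -1; 1, 1] with hMg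
  set Mh : Matrix (Fin 2) (Fin 2) F := !![a, b; b, -a] with hMh
  have hdg : Mg.det = 2 := by rw [hMg, Matrix.det_fin_two_of]; ring
  have hdh : Mh.det = 1 := by rw [hMh, Matrix.det_fin_two_of]; grind
  let g : GL (Fin 2) F := GeneralLinearGroup.mkOfDetNeZero Mg (by rw [hdg]; exact h2)
  let h : GL (Fin 2) F := GeneralLinearGroup.mkOfDetNeZero Mh (by rw [hdh]; exact one_ne_zero)
  have hg : (g : Matrix (Fin 2) (Fin 2) F) = Mg := rfl
  have hh : (h : Matrix (Fin 2) (Fin 2) F) = Mh := rfl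
  refine ⟨g, h, ?_, ?_, ?_, ?_, ?_, ?_⟩
  · rw [GeneralLinearGroup.val_det_apply, hg, hdg]
  · rw [GeneralLinearGroup.val_det_apply, hh, hdh]
  · rw [← map_pow]
    refine conjAut_eq_one_of_scalar (c := -4) ?_
    rw [Units.val_pow_eq_pow_val, hg, hMg]
    ext i j
    fin_cases i <;> fin_cases j <;> simp [pow_succ, Matrix.mul_apply, Fin.sum_univ_two] <;> ring
  · intro e
    rw [← map_pow] at e
    obtain ⟨c, hc⟩ := exists_scalar_of_conjAut_eq_one le_rfl e
    have hm := congrArg (fun u : GL (Fin 2) F => (u : Matrix (Fin 2) (Fin 2) F) 1 0) hc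
    simp only [Units.val_pow_eq_pow_val, hg, hMg, GeneralLinearGroup.coe_scalar,
      Matrix.scalar_apply, ne_eq, Matrix.diagonal_apply] at hm
    simp [pow_two, Matrix.mul_apply, Fin.sum_univ_two] at hm
    exact h2 (by linear_combination hm)
  · rw [← map_pow]
    refine conjAut_eq_one_of_scalar (c := -1) ?_
    rw [Units.val_pow_eq_pow_val, hh, hMh]
    ext i j
    fin_cases i <;> fin_cases j <;> simp [pow_two, Matrix.mul_apply, Fin.sum_univ_two] <;>
      grind
  · rw [mul_inv_eq_iff_eq_mul, eq_inv_mul_iff_mul_eq, ← map_mul, ← map_mul]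
    have key : (conjAut (g * (h * g)) : MulAut P₂) * conjAut h⁻¹ = 1 := by
      rw [← map_mul]
      refine conjAut_eq_one_of_scalar (c := 2) ?_
      have hi : ((h⁻¹ : GL (Fin 2) F) : Matrix (Fin 2) (Fin 2) F) = !![-a, -b; -b, a] := by
        rw [Matrix.coe_units_inv, hh, hMh]
        refine Matrix.inv_eq_right_inv ?_
        ext i j
        fin_cases i <;> fin_cases j <;> simp [Matrix.mul_apply, Fin.sum_univ_two] <;>
          grind
      rw [Units.val_mul, Units.val_mul, Units.val_mul, hg, hh, hi, hMg, hMh]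
      ext i j
      fin_cases i <;> fin_cases j <;> simp [Matrix.mul_apply, Fin.sum_univ_two] <;>
        grind
    rwa [map_inv, mul_inv_eq_one] at key

/-- An almost simple group over `PSL₂(q)` with abelian Sylow 2-subgroups is an odd extension and
`q ≡ 3, 5 mod 8`. -/
theorem almostSimple (hodd : Odd (Fintype.card F)) (h3 : 3 < Fintype.card F)
    {E : Type u} [Group E] [Finite E] (hab : ∀ S : Sylow 2 E, IsMulCommutative (S : Subgroup E))
    (N : Subgroup E) [hNn : N.Normal] (e : N ≃* P₂) (hC : Subgroup.centralizer (N : Set E) = ⊥) :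
    Odd N.index ∧ (Fintype.card F % 8 = 3 ∨ Fintype.card F % 8 = 5) := by
  classical
  have h2 : (2 : F) ≠ 0 := Cfsg.Agent.Lib.Linear.two_ne_zero_of_odd_card hodd
  set ι : E →* MulAut P₂ :=
    (MulAut.congr e).toMonoidHom.comp (MulAut.conjNormal : E →* MulAut N) with hι
  have hinj : Function.Injective ι := by
    rw [← MonoidHom.ker_eq_bot_iff, ← le_bot_iff, ← hC]
    intro g hg
    rw [MonoidHom.mem_ker] at hg
    have hg' : (MulAut.conjNormal g : MulAut N) = 1 :=
      (MulAut.congr e).injective (hg.trans (map_one (MulAut.congr e)).symm)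
    rw [Subgroup.mem_centralizer_iff]
    intro n hn
    have := congrArg (fun a : MulAut N => ((a ⟨n, hn⟩ : N) : E)) hg'
    simp only [MulAut.conjNormal_apply, MulAut.one_apply] at this
    exact (mul_inv_eq_iff_eq_mul.1 this).symm
  have hN : ∀ n : N, ι n = MulAut.conj (e n) := by
    intro n
    ext z
    obtain ⟨m, rfl⟩ := e.surjective z
    show e ((MulAut.conjNormal (n : E) : MulAut N) (e.symm (e m))) = _
    rw [e.symm_apply_apply, MulAut.conj_apply, ← map_inv, ← map_mul, ← map_mul]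
    exact congrArg e (Subtype.ext rfl)
  set I : Subgroup (MulAut P₂) := (MulAut.conj : P₂ →* MulAut P₂).range with hI
  set Γ : Subgroup (MulAut P₂) := (conjAut : GL (Fin 2) F →* MulAut P₂).range with hΓ
  haveI hΓn : Γ.Normal := by
    rw [hΓ, ← inndiagPSL_eq_range]; exact inndiagPSL_normal le_rfl
  have hIE : I ≤ ι.range := by
    rintro _ ⟨z, rfl⟩
    exact ⟨(e.symm z : E), by rw [hN, e.apply_symm_apply]⟩
  have hIΓ : I ≤ Γ := by
    rintro _ ⟨z, rfl⟩
    obtain ⟨s, rfl⟩ := QuotientGroup.mk_surjective z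
    exact ⟨Matrix.SpecialLinearGroup.toGL s, conjAut_toGL s⟩
  -- no dihedral pair in the image
  obtain ⟨g, h, hdg, hdh, hg4, hg2, hh2, hinv⟩ := exists_dihedral (F := F) hodd
  have hbad : ¬ ((conjAut g : MulAut P₂) ∈ ι.range ∧ (conjAut h : MulAut P₂) ∈ ι.range) := by
    rintro ⟨⟨x, hx⟩, ⟨y, hy⟩⟩
    refine hg2 ?_
    rw [← hx, ← map_pow, sq_eq_one_of_inverted hab (x := x) (y := y) (hinj ?_) (hinj ?_) (hinj ?_),
      map_one]
    · rw [map_pow, hx, hg4, map_one]
    · rw [map_pow, hy, hh2, map_one]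
    · rw [map_mul, map_mul, map_inv, map_inv, hx, hy, hinv]
  have hI_mem : ∀ k : GL (Fin 2) F, (∃ s : F, s * s = (GeneralLinearGroup.det k : F)) →
      (conjAut k : MulAut P₂) ∈ I := by
    rintro k ⟨s, hs⟩
    have hs0 : s ≠ 0 := fun e => by
      rw [e, mul_zero] at hs
      exact (GeneralLinearGroup.det k).ne_zero hs.symm
    have hd : (s⁻¹ • (k : Matrix (Fin 2) (Fin 2) F)).det = 1 := by
      rw [Matrix.det_smul, Fintype.card_fin, ← GeneralLinearGroup.val_det_apply, ← hs]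
      field_simp
    let sl : Matrix.SpecialLinearGroup (Fin 2) F := ⟨_, hd⟩
    refine ⟨QuotientGroup.mk sl, ?_⟩
    rw [← conjAut_toGL, conjAut_eq_iff le_rfl]
    refine ⟨Units.mk0 s hs0, ?_⟩
    apply Units.ext
    rw [Units.val_mul, GeneralLinearGroup.coe_scalar]
    ext i j
    simp [Matrix.scalar_apply, Matrix.diagonal_mul]
    show _ = s * (s⁻¹ • (k : Matrix (Fin 2) (Fin 2) F)) i j
    rw [Matrix.smul_apply, smul_eq_mul, mul_inv_cancel_left₀ hs0]
  have hhI : (conjAut h : MulAut P₂) ∈ I := hI_mem h ⟨1, by rw [hdh, one_mul]⟩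
  -- cardinalities
  have hcardI : Nat.card I = Nat.card P₂ := by
    refine (Nat.card_congr (MonoidHom.ofInjective (f := (MulAut.conj : P₂ →* MulAut P₂)) ?_).toEquiv).symm
    rw [← MonoidHom.ker_eq_bot_iff, ← le_bot_iff]
    intro z hz
    haveI : IsSimpleGroup P₂ := Cfsg.Agent.Lib.Linear.isSimpleGroup_PSL le_rfl
      (fun _ => by rw [Nat.card_eq_fintype_card]; omega)
    have hzc : z ∈ Subgroup.center P₂ := by
      rw [Subgroup.mem_center_iff]
      intro w
      have := congrArg (fun a : MulAut P₂ => a w) hz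
      simp only [MulAut.conj_apply, MulAut.one_apply] at this
      exact (mul_inv_eq_iff_eq_mul.1 this).symm
    rcases IsSimpleGroup.eq_bot_or_eq_top_of_normal (Subgroup.center P₂) inferInstance with hb | hb
    · rwa [hb] at hzc
    · exfalso
      have hcomm : ∀ x y : P₂, x * y = y * x := fun x y =>
        (Subgroup.mem_center_iff.1 (hb ▸ Subgroup.mem_top y) x)
      obtain ⟨x, y, hxy⟩ := Cfsg.Agent.Lib.Linear.exists_not_commute_PSL
        (ι := Fin 2) (F := F) (Cfsg.Agent.Lib.Linear.commutator_SL_eq_top le_rfl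
          (fun _ => by rw [Nat.card_eq_fintype_card]; omega))
      exact hxy (hcomm x y)
  have hcardΓ : Nat.card Γ = 2 * Nat.card P₂ := by
    have h1 := (conjAut : GL (Fin 2) F →* MulAut P₂).ker.card_mul_index
    rw [Subgroup.index_ker] at h1
    have hk : (conjAut : GL (Fin 2) F →* MulAut P₂).ker = Subgroup.center (GL (Fin 2) F) := by
      ext k
      exact ⟨fun hk => (eq_one_of_conj_field le_rfl (σ := 1) (by rw [hk, map_one, mul_one])).1,
        conjAut_eq_one_of_center⟩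
    rw [hk, Cfsg.Agent.Lib.Linear.card_center_GL, Cfsg.Agent.Lib.Linear.card_GL_eq_units_mul_SL] at h1
    have h4 := Nat.eq_of_mul_eq_mul_left Nat.card_pos h1
    rw [hΓ, h4, Cfsg.Agent.Lib.Linear.card_SL_eq_gcd_mul_card_PSL, Fintype.card_fin]
    congr 1
    refine Nat.gcd_eq_left ?_
    rw [Nat.card_eq_fintype_card]
    obtain ⟨j, hj⟩ := hodd
    exact ⟨j, by omega⟩
  -- 2 is not a square
  have hns : ¬ IsSquare (2 : F) := by
    rintro ⟨s, hs⟩
    exact hbad ⟨hIE (hI_mem g ⟨s, by rw [hdg, hs]⟩), hIE hhI⟩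
  have hq : Fintype.card F % 8 = 3 ∨ Fintype.card F % 8 = 5 := by
    rw [FiniteField.isSquare_two_iff, not_and_or, not_not, not_not] at hns
    exact hns
  refine ⟨?_, hq⟩
  have hEΓ : ι.range ⊓ Γ = I := by
    refine le_antisymm ?_ (le_inf hIE hIΓ)
    by_contra hle
    have h1 := Subgroup.card_dvd_of_le (inf_le_right : ι.range ⊓ Γ ≤ Γ)
    have h2' := Subgroup.card_dvd_of_le (le_inf hIE hIΓ : I ≤ ι.range ⊓ Γ)
    rw [hcardΓ] at h1
    rw [hcardI] at h2'
    obtain ⟨m, hm⟩ := h2'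
    rw [hm, mul_comm 2, Nat.mul_dvd_mul_iff_left Nat.card_pos] at h1
    rcases (Nat.dvd_prime Nat.prime_two).1 h1 with rfl | rfl
    · rw [mul_one, ← hcardI] at hm
      exact hle (Subgroup.eq_of_le_of_card_ge (le_inf hIE hIΓ) hm.le).ge
    · have hall : ι.range ⊓ Γ = Γ := Subgroup.eq_of_le_of_card_ge inf_le_right
        (by rw [hm, hcardΓ, mul_comm])
      exact hbad ⟨(hall.symm ▸ (⟨g, rfl⟩ : (conjAut g : MulAut P₂) ∈ Γ) :
        (conjAut g : MulAut P₂) ∈ ι.range ⊓ Γ).1, hIE hhI⟩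
  -- the index
  have hindex : N.index ∣ Γ.index := by
    have h1 : Γ.relIndex ι.range ∣ Γ.index := Subgroup.relIndex_dvd_index_of_normal _ _
    have h2' : I.relIndex ι.range = Γ.relIndex ι.range := by
      rw [← hEΓ, Subgroup.inf_relIndex_left]
    have h3' : I = N.map ι := by
      refine le_antisymm ?_ ?_
      · rintro _ ⟨z, rfl⟩
        exact ⟨(e.symm z : E), (e.symm z).2, by rw [hN, e.apply_symm_apply]⟩
      · rintro _ ⟨n, hn, rfl⟩
        exact ⟨e ⟨n, hn⟩, (hN ⟨n, hn⟩).symm⟩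
    have h4 : I.relIndex ι.range = N.index := by
      rw [h3', MonoidHom.range_eq_map, Subgroup.relIndex_map_map_of_injective _ _ hinj,
        Subgroup.relIndex_top_right]
    rw [← h4, h2']
    exact h1
  refine Odd.of_dvd_nat ?_ hindex
  obtain ⟨p, f, hp, hf, hF⟩ : ∃ p f : ℕ, p.Prime ∧ 0 < f ∧ Fintype.card F = p ^ f := by
    obtain ⟨p, hp⟩ := CharP.exists F
    obtain ⟨f, hpp, hf⟩ := FiniteField.card F p
    exact ⟨p, f, hpp, f.pos, hf⟩
  haveI : Fact p.Prime := ⟨hp⟩
  have hcard := card_mulAut_PSL (n := 2) hF le_rfl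
  rw [if_pos rfl, one_mul, Cfsg.Agent.Lib.Linear.card_PGL_eq_card_SL,
    Cfsg.Agent.Lib.Linear.card_SL_eq_gcd_mul_card_PSL, Fintype.card_fin] at hcard
  have hg : Nat.gcd 2 (Nat.card F - 1) = 2 := by
    refine Nat.gcd_eq_left ?_
    rw [Nat.card_eq_fintype_card]
    obtain ⟨j, hj⟩ := hodd
    exact ⟨j, by omega⟩
  rw [hg, ← hcardΓ, ← Γ.card_mul_index, mul_comm f] at hcard
  rw [Nat.eq_of_mul_eq_mul_left Nat.card_pos hcard]
  by_contra hfe
  rw [Nat.not_odd_iff_even] at hfe
  obtain ⟨j, hj⟩ := hfe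
  have hpo : Odd (p ^ j) := by
    rw [hF, hj, pow_add] at hodd
    exact (Nat.odd_mul.1 hodd).1
  obtain ⟨i, hi⟩ := hpo
  have : Fintype.card F % 8 = 1 := by
    rw [hF, hj, pow_add, hi]
    have hev : Even (i * (i + 1)) := Nat.even_mul_succ_self i
    obtain ⟨w, hw⟩ := hev
    have e : (2 * i + 1) * (2 * i + 1) = 4 * (i * (i + 1)) + 1 := by ring
    omega
  omega

end Cfsg.Agent.Lib.Inv59.AutPSLTwo
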