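import Mathlib

/-!
# The numerical contradiction for an exceptional virtual character of norm 4
-/

set_option autoImplicit false

namespace Cfsg.Agent.Lib.Inv59.EightArith

/-- The bound for one constituent. -/
theorem term_le {n : ℕ} {v : ℤ} (hmul : ∃ m : ℕ, (n : ℤ) + 7 * v = 8 * m)
    (hne : (n : ℤ) ≠ v) (hv : |v| ≤ 2) (hn : 0 < n) :
    35 * v ^ 2 ≤ (2 * v ^ 2 + 3 * |v|) * n := by
  obtain ⟨m, hm⟩ := hmul
  obtain ⟨h1, h2⟩ := abs_le.1 hv
  interval_cases v <;> norm_num <;> omega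

/-- From the Gram matrix one of two differences only meets small values. -/
theorem exists_small {ι : Type*} [Fintype ι] [DecidableEq ι] (c : Fin 3 → ι → ℤ) (o : ι)
    (hdiag : ∀ i, ∑ χ, c i χ * c i χ = 4) (hoff : ∀ i j, i ≠ j → ∑ χ, c i χ * c j χ = 2)
    (ho : c 0 o = 1) :
    ∃ j : Fin 3, j ≠ 0 ∧ ∀ χ, c 0 χ ≠ c j χ → |c 0 χ + c 1 χ + c 2 χ| ≤ 2 := by
  classical
  have hb : ∀ i χ, |c i χ| ≤ 2 := by
    intro i χ
    have h1 : c i χ * c i χ ≤ 4 := hdiag i ▸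
      Finset.single_le_sum (fun ψ _ => mul_self_nonneg (c i ψ)) (Finset.mem_univ χ)
    rw [abs_le]
    constructor <;> nlinarith
  have hzero : ∀ i χ, 2 ≤ |c i χ| → ∀ ψ, ψ ≠ χ → c i ψ = 0 := by
    intro i χ h ψ hψ
    by_contra hne
    have h1 : ∑ x ∈ ({χ, ψ} : Finset ι), c i x * c i x ≤ ∑ x, c i x * c i x :=
      Finset.sum_le_sum_of_subset_of_nonneg (Finset.subset_univ _)
        fun x _ _ => mul_self_nonneg (c i x)
    rw [hdiag, Finset.sum_pair (Ne.symm hψ)] at h1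
    have h2 : 1 ≤ |c i ψ| := Int.one_le_abs hne
    nlinarith [abs_mul_abs_self (c i χ), abs_mul_abs_self (c i ψ)]
  have hs : ∀ χ, |c 0 χ| ≤ 1 := by
    intro χ
    by_contra h
    rcases eq_or_ne o χ with rfl | hne
    · rw [ho] at h; simp at h
    · have := hzero 0 χ (by omega) o hne
      omega
  by_cases hbig : ∃ i : Fin 3, i ≠ 0 ∧ ∃ χ, 2 ≤ |c i χ|
  · obtain ⟨i, hi, χ₁, hχ₁⟩ := hbig
    obtain ⟨j, hj0, hji⟩ : ∃ j : Fin 3, j ≠ 0 ∧ j ≠ i := by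
      fin_cases i
      · exact absurd rfl hi
      · exact ⟨2, by decide, by decide⟩
      · exact ⟨1, by decide, by decide⟩
    have hcol : ∀ k, ∑ χ, c i χ * c k χ = c i χ₁ * c k χ₁ := fun k =>
      Finset.sum_eq_single χ₁ (fun ψ _ hψ => by rw [hzero i χ₁ hχ₁ ψ hψ, zero_mul])
        (fun h => absurd (Finset.mem_univ _) h)
    have h0 : c i χ₁ * c 0 χ₁ = 2 := by rw [← hcol, hoff i 0 hi]
    have hj : c i χ₁ * c j χ₁ = 2 := by rw [← hcol, hoff i j (Ne.symm hji)]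
    have hne : c i χ₁ ≠ 0 := fun h => by rw [h, zero_mul] at h0; omega
    have heq : c 0 χ₁ = c j χ₁ := mul_left_cancel₀ hne (h0.trans hj.symm)
    have hj1 : ∀ ψ, |c j ψ| ≤ 1 := by
      intro ψ
      by_contra h
      have hψ : ψ ≠ χ₁ := by
        rintro rfl
        rw [← heq] at h
        exact h (hs _)
      have := hzero j ψ (by omega) χ₁ (Ne.symm hψ)
      rw [this, mul_zero] at hj
      omega
    refine ⟨j, hj0, fun χ hχ => ?_⟩
    have hχne : χ ≠ χ₁ := fun h => hχ (h ▸ heq)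
    have hz := hzero i χ₁ hχ₁ χ hχne
    have a0 := hs χ
    have aj := hj1 χ
    fin_cases i <;> fin_cases j <;> simp at hi hj0 hji hz a0 aj ⊢
    all_goals rw [hz]; rw [abs_le] at a0 aj ⊢; omega
  · push_neg at hbig
    refine ⟨1, by decide, fun χ hχ => ?_⟩
    have a0 := hs χ
    have a1 := hbig 1 (by decide) χ
    have a2 := hbig 2 (by decide) χ
    rw [abs_le] at a0 ⊢
    rw [abs_lt] at a1 a2
    omega

/-- No exceptional character exists. -/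
theorem no_exceptional {ι : Type*} [Fintype ι] [DecidableEq ι] (o : ι) (E v : ι → ℤ) (n : ι → ℕ)
    (ho : E o = 1) (hvo : v o = 1) (hno : n o = 1) (hE : ∑ χ, E χ * E χ = 4)
    (hsmall : ∀ χ, E χ ≠ 0 → |v χ| ≤ 2) (hsum : ∑ χ, E χ * v χ = 0)
    (hid : ∑ χ, (E χ : ℚ) * (v χ : ℚ) ^ 2 / (n χ : ℚ) = 0)
    (hn : ∀ χ, 0 < n χ)
    (hmul : ∀ χ, E χ ≠ 0 → ∃ m : ℕ, (n χ : ℤ) + 7 * v χ = 8 * m)
    (hne : ∀ χ, E χ ≠ 0 → χ ≠ o → (n χ : ℤ) ≠ v χ) : False := by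
  classical
  set A := (Finset.univ.erase o).filter fun χ => E χ ≠ 0 with hA
  have hsplit : ∀ (R : Type) [AddCommMonoid R] (f : ι → R), (∀ χ, E χ = 0 → f χ = 0) →
      ∑ χ, f χ = f o + ∑ χ ∈ A, f χ := by
    intro R _ f hf
    rw [← Finset.add_sum_erase _ f (Finset.mem_univ o), hA, Finset.sum_filter]
    refine congrArg _ (Finset.sum_congr rfl fun χ _ => ?_)
    split_ifs with h
    · rfl
    · exact hf χ (not_not.1 h)
  have hA0 : ∀ χ ∈ A, E χ ≠ 0 ∧ χ ≠ o := fun χ hχ => by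
    simp only [hA, Finset.mem_filter, Finset.mem_erase] at hχ
    exact ⟨hχ.2, hχ.1.1⟩
  have h3 : ∑ χ ∈ A, E χ * E χ = 3 := by
    have := hsplit ℤ (fun χ => E χ * E χ) (fun χ h => by simp [h])
    rw [hE, ho] at this
    omega
  have hsq : ∀ χ ∈ A, E χ = 1 ∨ E χ = -1 := by
    intro χ hχ
    have h1 : E χ * E χ ≤ 3 := h3 ▸
      Finset.single_le_sum (fun ψ _ => mul_self_nonneg (E ψ)) hχ
    have h2 : -1 ≤ E χ := by nlinarith
    have h2' : E χ ≤ 1 := by nlinarith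
    have := (hA0 χ hχ).1
    omega
  have hcard : A.card = 3 := by
    have : ∑ χ ∈ A, E χ * E χ = ∑ χ ∈ A, (1 : ℤ) :=
      Finset.sum_congr rfl fun χ hχ => by rcases hsq χ hχ with h | h <;> rw [h] <;> norm_num
    rw [h3] at this
    simp at this
    omega
  have hodd : ∃ χ ∈ A, |v χ| = 1 := by
    by_contra! hall
    have hev : ∀ χ ∈ A, (2 : ℤ) ∣ E χ * v χ := fun χ hχ => by
      refine Dvd.dvd.mul_left ?_ _
      have h1 := abs_le.1 (hsmall χ (hA0 χ hχ).1)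
      have h2 : v χ ≠ 1 := fun h => hall χ hχ (by rw [h]; rfl)
      have h3 : v χ ≠ -1 := fun h => hall χ hχ (by rw [h]; rfl)
      omega
    have h1 := hsplit ℤ (fun χ => E χ * v χ) (fun χ h => by simp [h])
    rw [hsum, ho, hvo] at h1
    have := Finset.dvd_sum hev
    omega
  have hterm : ∀ χ ∈ A, |(E χ : ℚ) * (v χ : ℚ) ^ 2 / (n χ : ℚ)| ≤
      ((2 * v χ ^ 2 + 3 * |v χ| : ℤ) : ℚ) / 35 := by
    intro χ hχ
    have h := term_le (hmul χ (hA0 χ hχ).1) (hne χ (hA0 χ hχ).1 (hA0 χ hχ).2)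
      (hsmall χ (hA0 χ hχ).1) (hn χ)
    have hn' : (0 : ℚ) < n χ := by exact_mod_cast hn χ
    have hE1 : |(E χ : ℚ)| = 1 := by
      rcases hsq χ hχ with h | h <;> rw [h] <;> norm_num
    rw [abs_div, abs_mul, hE1, one_mul, abs_of_nonneg (sq_nonneg (v χ : ℚ)), abs_of_pos hn',
      div_le_div_iff₀ hn' (by norm_num), mul_comm ((v χ : ℚ) ^ 2)]
    exact_mod_cast h
  have htot : ∑ χ ∈ A, (2 * v χ ^ 2 + 3 * |v χ|) ≤ 33 := by
    obtain ⟨a, ha, hva⟩ := hodd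
    rw [← Finset.add_sum_erase _ _ ha]
    have h2 : ∑ χ ∈ A.erase a, (2 * v χ ^ 2 + 3 * |v χ|) ≤ ∑ χ ∈ A.erase a, (14 : ℤ) := by
      refine Finset.sum_le_sum fun χ hχ => ?_
      have h := hsmall χ (hA0 χ (Finset.mem_of_mem_erase hχ)).1
      nlinarith [sq_abs (v χ), abs_nonneg (v χ)]
    rw [Finset.sum_const, Finset.card_erase_of_mem ha, hcard] at h2
    rw [← sq_abs, hva]
    norm_num at h2 ⊢
    omega
  have h1 := hsplit ℚ (fun χ => (E χ : ℚ) * (v χ : ℚ) ^ 2 / (n χ : ℚ)) (fun χ h => by simp [h])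
  rw [hid, ho, hvo, hno] at h1
  have h2 : (1 : ℚ) ≤ ∑ χ ∈ A, ((2 * v χ ^ 2 + 3 * |v χ| : ℤ) : ℚ) / 35 := by
    refine le_trans ?_ (le_trans (Finset.abs_sum_le_sum_abs _ _) (Finset.sum_le_sum hterm))
    norm_num at h1
    rw [show ∑ χ ∈ A, (E χ : ℚ) * (v χ : ℚ) ^ 2 / (n χ : ℚ) = -1 by linarith]
    norm_num
  rw [← Finset.sum_div, ← Int.cast_sum, le_div_iff₀ (by norm_num)] at h2
  have h4 : ((∑ χ ∈ A, (2 * v χ ^ 2 + 3 * |v χ|) : ℤ) : ℚ) ≤ 33 := by exact_mod_cast htot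
  linarith

end Cfsg.Agent.Lib.Inv59.EightArith
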