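import Mathlib
import Cfsg.Agent.Lib.Inv59.EightAuto
import Cfsg.Agent.Lib.SylowInter.Basic
import Cfsg.Agent.Lib.Cores.Basic

/-!
# A solvable group with Sylow 2-subgroup `E8`, central involution, non-central automizer
-/

set_option autoImplicit false
set_option linter.style.haveILetI false

namespace Cfsg.Agent.Lib.Inv59.EightCent

open Cfsg

universe u

/-- The subgroups and the linear character used on the section of the central involution. -/
structure Data (C : Type u) [Group C] (H₀ N : Subgroup C) (μ : C →* ℂˣ) : Prop where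
  constrained : Subgroup.centralizer ((pCore 2 (C ⧸ pPrimeCore 2 C) : Subgroup _) : Set _) ≤
    pCore 2 (C ⧸ pPrimeCore 2 C)
  odd_H : ¬ 2 ∣ Nat.card H₀
  le_H : pPrimeCore 2 C ≤ H₀
  card_H : Nat.card H₀ = 3 * Nat.card (pPrimeCore 2 C)
  card_C : Nat.card C = 24 * Nat.card (pPrimeCore 2 C)
  card_N : Nat.card N = 6 * Nat.card (pPrimeCore 2 C)
  cube : ∀ c : C, μ c ^ 3 = 1
  ker : ∀ h ∈ H₀, μ h = 1 ↔ h ∈ pPrimeCore 2 C
  mem_N : ∀ v ∈ N, ∀ h ∈ H₀, v * h * v⁻¹ ∈ H₀
  not_mem_N : ∀ v ∉ N, ∀ h ∈ H₀, v * h * v⁻¹ ∈ H₀ → h ∈ pPrimeCore 2 C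

/-- An odd automorphism fixing three elements of `E8` is trivial. -/
theorem key {Q : Type u} [Group Q] [Finite Q] (E : Subgroup Q) [E.Normal]
    (hexp : ∀ a ∈ E, a ^ 2 = 1) (h8 : Nat.card E = 8) (hodd : Odd E.index)
    (hself : Subgroup.centralizer (E : Set Q) ≤ E) {T a y : Q} (hT : T ∈ E) (hT1 : T ≠ 1)
    (hTc : Commute T y) (ha : a ∈ E) (ha1 : a ≠ 1) (haT : a ≠ T) (hay : Commute a y) : y ∈ E := by
  set W := (Subgroup.centralizer ({y} : Set Q)).subgroupOf E with hW
  have hmem : ∀ w : E, w ∈ W ↔ Commute (w : Q) y := fun w => by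
    rw [hW, Subgroup.mem_subgroupOf, Subgroup.mem_centralizer_singleton_iff]; rfl
  by_cases htop : W = ⊤
  · refine hself ?_
    rw [Subgroup.mem_centralizer_iff]
    intro e he
    exact ((hmem ⟨e, he⟩).1 (htop ▸ Subgroup.mem_top _)).eq
  exfalso
  have hge : 3 ≤ Nat.card W := by
    have hs : ({1, ⟨T, hT⟩, ⟨a, ha⟩} : Set E) ⊆ (W : Set E) := by
      intro z hz
      simp only [Set.mem_insert_iff, Set.mem_singleton_iff] at hz
      rcases hz with rfl | rfl | rfl
      · exact one_mem _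
      · exact (hmem _).2 hTc
      · exact (hmem _).2 hay
    refine le_trans ?_ (Set.ncard_le_ncard hs (Set.toFinite _))
    refine le_of_eq (Eq.symm ?_)
    rw [Set.ncard_eq_three]
    exact ⟨_, _, _, fun h => hT1 (congrArg Subtype.val h).symm,
      fun h => ha1 (congrArg Subtype.val h).symm, fun h => haT (congrArg Subtype.val h).symm, rfl⟩
  have hmul := W.card_mul_index
  rw [h8] at hmul
  have hi1 : W.index ≠ 1 := fun h => htop (Subgroup.index_eq_one.1 h)
  have hidx : W.index = 2 := by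
    have hle : W.index ≤ 2 := by
      by_contra h
      have : 3 * 3 ≤ Nat.card W * W.index := Nat.mul_le_mul hge (by omega)
      omega
    have h0 : W.index ≠ 0 := Subgroup.index_ne_zero_of_finite
    omega
  obtain ⟨b, hb⟩ : ∃ b : E, b ∉ W := by
    by_contra! h
    exact htop (eq_top_iff.2 fun z _ => h z)
  set b' : E := ⟨y * b * y⁻¹, Subgroup.Normal.conj_mem inferInstance _ b.2 y⟩ with hb'
  have hb'W : b' ∉ W := fun h => hb ((hmem b).2 (by
    have h1 : y * (b : Q) * y⁻¹ * y = y * (y * (b : Q) * y⁻¹) := ((hmem b').1 h).eq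
    rw [inv_mul_cancel_right] at h1
    have h2 : (b : Q) = y * (b : Q) * y⁻¹ := mul_left_cancel h1
    show (b : Q) * y = y * b
    exact eq_mul_inv_iff_mul_eq.1 h2))
  have hm : b⁻¹ * b' ∈ W := by
    rw [Subgroup.mul_mem_iff_of_index_two hidx, Subgroup.inv_mem_iff]
    exact iff_of_false hb hb'W
  set m : Q := (b : Q)⁻¹ * (y * b * y⁻¹) with hmdef
  have hmy : Commute m y := (hmem _).1 hm
  have hpow : ∀ k : ℕ, y ^ k * (b : Q) * (y ^ k)⁻¹ = b * m ^ k := by
    intro k
    induction k with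
    | zero => simp
    | succ k ih =>
      have e1 : y * (b : Q) * y⁻¹ = b * m := by rw [hmdef, mul_inv_cancel_left]
      calc y ^ (k + 1) * (b : Q) * (y ^ (k + 1))⁻¹
          = y * (y ^ k * b * (y ^ k)⁻¹) * y⁻¹ := by rw [pow_succ']; group
        _ = y * (b : Q) * y⁻¹ * (y * m ^ k * y⁻¹) := by rw [ih]; group
        _ = b * m * m ^ k := by
          rw [e1, ((hmy.pow_left k).symm).eq, mul_inv_cancel_right]
        _ = b * m ^ (k + 1) := by rw [pow_succ', mul_assoc]
  obtain ⟨j, hj⟩ := hodd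
  have hyk : y ^ E.index ∈ E := Subgroup.pow_index_mem E y
  have hcomm : ∀ u ∈ E, ∀ w ∈ E, u * w = w * u := fun u hu w hw => by
    have h1 := hexp _ (mul_mem hu hw)
    have hu' := hexp u hu
    have hw' := hexp w hw
    rw [pow_two] at h1 hu' hw'
    calc u * w = (u * w)⁻¹ := eq_inv_of_mul_eq_one_left h1
      _ = w * u := by
        rw [mul_inv_rev, inv_eq_of_mul_eq_one_left hu', inv_eq_of_mul_eq_one_left hw']
  have hfix := hpow E.index
  rw [hcomm _ hyk _ b.2, mul_inv_cancel_right, left_eq_mul] at hfix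
  have hm2 : m ^ 2 = 1 := hexp _ (b⁻¹ * b').2
  rw [hj, pow_add, pow_mul, hm2, one_pow, one_mul, pow_one] at hfix
  refine hb ((hmem b).2 ?_)
  rw [hmdef, inv_mul_eq_one] at hfix
  show (b : Q) * y = y * b
  conv_lhs => rw [hfix, inv_mul_cancel_right]

/-- The index of a self-centralizing `E8` with odd index and central involution is at most 3. -/
theorem index_eq_three {Q : Type u} [Group Q] [Finite Q] (E : Subgroup Q) [E.Normal]
    (hexp : ∀ a ∈ E, a ^ 2 = 1) (h8 : Nat.card E = 8) (hodd : Odd E.index)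
    (hself : Subgroup.centralizer (E : Set Q) ≤ E) {T : Q} (hT : T ∈ E) (hT1 : T ≠ 1)
    (hTc : ∀ y, Commute T y) (hne : E.index ≠ 1) : E.index = 3 := by
  have hab : ∀ u ∈ E, E ≤ Subgroup.centralizer ({u} : Set Q) := fun u hu w hw => by
    rw [Subgroup.mem_centralizer_singleton_iff]
    have h1 := hexp _ (mul_mem hw hu)
    have hu' := hexp u hu
    have hw' := hexp w hw
    rw [pow_two] at h1 hu' hw'
    calc w * u = (w * u)⁻¹ := eq_inv_of_mul_eq_one_left h1
      _ = u * w := by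
        rw [mul_inv_rev, inv_eq_of_mul_eq_one_left hu', inv_eq_of_mul_eq_one_left hw']
  set X : Set Q := (E : Set Q) \ {1, T} with hX
  have hX6 : X.ncard = 6 := by
    rw [hX, Set.ncard_sdiff (Set.insert_subset (one_mem _) (Set.singleton_subset_iff.2 hT)),
      Set.ncard_pair (Ne.symm hT1)]
    show Nat.card E - 2 = 6
    omega
  have hsub : ∀ a ∈ X, EightAuto.orb ⊤ a ⊆ X := by
    rintro a ⟨ha, ha'⟩ y ⟨n, -, rfl⟩
    simp only [Set.mem_insert_iff, Set.mem_singleton_iff, not_or] at ha'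
    refine ⟨Subgroup.Normal.conj_mem inferInstance _ ha n, ?_⟩
    simp only [Set.mem_insert_iff, Set.mem_singleton_iff, not_or]
    refine ⟨fun h => ha'.1 (by simpa [mul_inv_eq_one] using h), fun h => ha'.2 ?_⟩
    rw [mul_inv_eq_iff_eq_mul, (hTc n).eq] at h
    exact mul_left_cancel h
  have hsize : ∀ a ∈ X, (EightAuto.orb ⊤ a).ncard = E.index := by
    rintro a ⟨ha, ha'⟩
    simp only [Set.mem_insert_iff, Set.mem_singleton_iff, not_or] at ha'
    rw [EightAuto.ncard_orb, Subgroup.relIndex_top_right]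
    congr 1
    refine le_antisymm (fun y hy => ?_) (hab a ha)
    exact key E hexp h8 hodd hself hT hT1 (hTc y) ha ha'.1 ha'.2
      (Subgroup.mem_centralizer_singleton_iff.1 hy).symm
  obtain ⟨a, ha⟩ : X.Nonempty := Set.nonempty_of_ncard_ne_zero (by omega)
  obtain ⟨j, hj⟩ := hodd
  have hle : E.index ≤ 6 := hsize a ha ▸ hX6 ▸ Set.ncard_le_ncard (hsub a ha) (Set.toFinite _)
  obtain ⟨b, hbX, hb⟩ := Set.exists_mem_notMem_of_ncard_lt_ncard
    (show (EightAuto.orb ⊤ a).ncard < X.ncard by rw [hsize a ha]; omega) (Set.toFinite _)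
  have hd : Disjoint (EightAuto.orb ⊤ b) (EightAuto.orb ⊤ a) := by
    rw [Set.disjoint_left]
    rintro y ⟨n, -, rfl⟩ ⟨m, -, e⟩
    refine hb ⟨n⁻¹ * m, Subgroup.mem_top _, ?_⟩
    have : n⁻¹ * m * a * (n⁻¹ * m)⁻¹ = n⁻¹ * (m * a * m⁻¹) * n := by group
    rw [this, e]
    group
  have hu := Set.ncard_union_eq hd (Set.toFinite _) (Set.toFinite _)
  have hle2 : (EightAuto.orb ⊤ b ∪ EightAuto.orb ⊤ a).ncard ≤ 6 :=
    hX6 ▸ Set.ncard_le_ncard (Set.union_subset (hsub b hbX) (hsub a ha)) (Set.toFinite _)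
  rw [hu, hsize a ha, hsize b hbX] at hle2
  omega

/-- The centralizer of an element of order 3 has order 6. -/
theorem card_centralizer {Q : Type u} [Group Q] [Finite Q] (E : Subgroup Q) [E.Normal]
    (hexp : ∀ a ∈ E, a ^ 2 = 1) (h8 : Nat.card E = 8) (h3 : E.index = 3)
    (hself : Subgroup.centralizer (E : Set Q) ≤ E) {T : Q} (hT : T ∈ E) (hT1 : T ≠ 1)
    (hTc : ∀ y, Commute T y) {r : Q} (hr : r ∉ E) :
    Nat.card (Subgroup.centralizer ({r} : Set Q)) = 6 := by
  set Z := Subgroup.centralizer ({r} : Set Q) with hZ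
  have hinf : E ⊓ Z = Subgroup.zpowers T := by
    refine le_antisymm ?_ (Subgroup.zpowers_le.2 ⟨hT, ?_⟩)
    · rintro a ⟨ha, hac⟩
      by_cases ha1 : a = 1
      · rw [ha1]; exact one_mem _
      by_cases haT : a = T
      · rw [haT]; exact Subgroup.mem_zpowers T
      exact absurd (key E hexp h8 (by rw [h3]; decide) hself hT hT1 (hTc r) ha ha1 haT
        (Subgroup.mem_centralizer_singleton_iff.1 hac)) hr
    · exact Subgroup.mem_centralizer_singleton_iff.2 (hTc r).eq
  have hrel : E.relIndex Z = 3 := by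
    have hd : E.relIndex Z ∣ 3 := h3 ▸ Subgroup.relIndex_dvd_index_of_normal E Z
    rcases (Nat.dvd_prime Nat.prime_three).1 hd with h | h
    · exact absurd (Subgroup.relIndex_eq_one.1 h
        (Subgroup.mem_centralizer_singleton_iff.2 rfl)) hr
    · exact h
  have h := (E.subgroupOf Z).card_mul_index
  have e1 : Nat.card (E.subgroupOf Z) = 2 := by
    rw [← Subgroup.card_map_of_injective Z.subtype_injective, Subgroup.subgroupOf_map_subtype,
      hinf, Nat.card_zpowers]
    exact orderOf_eq_prime (hexp T hT) hT1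
  rw [e1] at h
  rw [← h]
  change 2 * E.relIndex Z = 6
  rw [hrel]

/-- The index of a preimage. -/
theorem card_comap {C Q : Type u} [Group C] [Group Q] [Finite C] (f : C →* Q)
    (hf : Function.Surjective f) (B : Subgroup Q) :
    Nat.card (B.comap f) = Nat.card B * Nat.card f.ker := by
  have : Finite Q := Finite.of_surjective f hf
  have h1 := (B.comap f).card_mul_index
  rw [Subgroup.index_comap_of_surjective B hf] at h1
  have h2 := f.ker.card_mul_index
  rw [Subgroup.index_ker, MonoidHom.range_eq_top_of_surjective f hf, Subgroup.card_top,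
    ← B.card_mul_index] at h2
  have h0 : B.index ≠ 0 := Subgroup.index_ne_zero_of_finite
  refine Nat.eq_of_mul_eq_mul_right (Nat.pos_of_ne_zero h0) ?_
  rw [h1, ← h2]
  ring

/-- The data exist. -/
theorem exists_data {C : Type u} [Group C] [Finite C] [Group.IsSolvable C] (S : Sylow 2 C)
    (hexp : ∀ a ∈ (S : Subgroup C), a ^ 2 = 1) (h8 : Nat.card (S : Subgroup C) = 8)
    {t : C} (htS : t ∈ (S : Subgroup C)) (ht1 : t ≠ 1) (htc : ∀ c, Commute t c)
    {x : C} (hxN : x ∈ Subgroup.normalizer ((S : Subgroup C) : Set C))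
    (hxC : x ∉ Subgroup.centralizer ((S : Subgroup C) : Set C)) :
    ∃ H₀ N μ, Data C H₀ N μ := by
  classical
  set K := pPrimeCore 2 C with hK
  set π := QuotientGroup.mk' K with hπ
  have hπs : Function.Surjective π := QuotientGroup.mk'_surjective K
  have hKodd : ¬ 2 ∣ Nat.card K := Cores.not_dvd_card_pPrimeCore 2
  have hSK : ∀ a ∈ (S : Subgroup C), π a = 1 → a = 1 := by
    intro a ha h
    have haK : a ∈ K := (QuotientGroup.eq_one_iff a).1 h
    have h1 : orderOf a ∣ 2 := orderOf_dvd_of_pow_eq_one (hexp a ha)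
    have h2 : orderOf a ∣ Nat.card K := by
      have := orderOf_dvd_natCard (⟨a, haK⟩ : K)
      rwa [Subgroup.orderOf_mk] at this
    exact orderOf_eq_one_iff.1 (Nat.eq_one_of_dvd_coprimes
      ((Nat.Prime.coprime_iff_not_dvd Nat.prime_two).2 hKodd) h1 h2)
  set Eb : Sylow 2 (C ⧸ K) := S.mapSurjective hπs with hEb
  have hEc : (Eb : Subgroup (C ⧸ K)) = (S : Subgroup C).map π := Sylow.coe_mapSurjective _ _
  set E := (Eb : Subgroup (C ⧸ K)) with hE
  have hEexp : ∀ a ∈ E, a ^ 2 = 1 := by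
    rw [hEc]
    rintro _ ⟨a, ha, rfl⟩
    rw [← map_pow, hexp a ha, map_one]
  have hE8 : Nat.card E = 8 := by
    rw [hEc, ← h8]
    refine (Nat.card_congr (Equiv.ofBijective
      (fun a : (S : Subgroup C) => (⟨π a, a, a.2, rfl⟩ : (S : Subgroup C).map π)) ⟨?_, ?_⟩)).symm
    · intro a b hab
      have hab' : π a = π b := congrArg Subtype.val hab
      apply Subtype.ext
      rw [← inv_mul_eq_one]
      exact hSK _ (mul_mem (inv_mem a.2) b.2) (by rw [map_mul, map_inv, hab', inv_mul_cancel])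
    · rintro ⟨_, a, ha, rfl⟩
      exact ⟨⟨a, ha⟩, rfl⟩
  have : Group.IsSolvable (C ⧸ K) := solvable_of_surjective hπs
  have hcon := SylowInter.Basic.centralizer_pCore_le (G := C ⧸ K) 2
    (Cores.pPrimeCore_quotient_pPrimeCore 2)
  have hEab : ∀ u ∈ E, ∀ w ∈ E, u * w = w * u := fun u hu w hw => by
    have h1 := hEexp _ (mul_mem hu hw)
    have hu' := hEexp u hu
    have hw' := hEexp w hw
    rw [pow_two] at h1 hu' hw'
    calc u * w = (u * w)⁻¹ := eq_inv_of_mul_eq_one_left h1
      _ = w * u := by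
        rw [mul_inv_rev, inv_eq_of_mul_eq_one_left hu', inv_eq_of_mul_eq_one_left hw']
  have hEF : E = pCore 2 (C ⧸ K) := by
    refine le_antisymm (fun e he => hcon ?_) (Cores.pCore_le_sylow Eb)
    rw [Subgroup.mem_centralizer_iff]
    exact fun z hz => hEab z (Cores.pCore_le_sylow Eb hz) e he
  haveI hEn : E.Normal := by rw [hEF]; infer_instance
  have hself : Subgroup.centralizer (E : Set (C ⧸ K)) ≤ E := by rw [hEF]; exact hcon
  have hodd : Odd E.index := Nat.odd_iff.2 (Nat.two_dvd_ne_zero.1 Eb.not_dvd_index)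
  have hT : π t ∈ E := hEc ▸ ⟨t, htS, rfl⟩
  have hT1 : π t ≠ 1 := fun h => ht1 (hSK t htS h)
  have hTc : ∀ y, Commute (π t) y := fun y => by
    obtain ⟨c, rfl⟩ := hπs y
    exact (htc c).map π
  have hne : E.index ≠ 1 := by
    intro h
    refine hxC (Subgroup.mem_centralizer_iff.2 fun a ha => ?_)
    have htop : E = ⊤ := Subgroup.index_eq_one.1 h
    have h1 : π (x * a * x⁻¹) = π a := by
      rw [map_mul, map_mul, map_inv,
        hEab (π x) (htop ▸ Subgroup.mem_top _) (π a) (htop ▸ Subgroup.mem_top _),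
        mul_inv_cancel_right]
    have h2 := hSK _ (mul_mem (inv_mem ha) ((Subgroup.mem_normalizer_iff.1 hxN a).1 ha))
      (by rw [map_mul π a⁻¹ (x * a * x⁻¹), map_inv, h1, inv_mul_cancel])
    rw [inv_mul_eq_one, eq_mul_inv_iff_mul_eq] at h2
    exact h2
  have h3 := index_eq_three E hEexp hE8 hodd hself hT hT1 hTc hne
  obtain ⟨r, hr⟩ := exists_prime_orderOf_dvd_card' (G := C ⧸ K) 3 (by
    rw [← E.card_mul_index, hE8, h3]; norm_num)
  have hrE : r ∉ E := fun h => by
    have h1 : orderOf r ∣ 2 := orderOf_dvd_of_pow_eq_one (hEexp r h)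
    rw [hr] at h1
    norm_num at h1
  have hrq : ∀ z ∈ Subgroup.zpowers r, z ∈ E → z = 1 := by
    intro z hz hzE
    have h1 : orderOf z ∣ 3 := hr ▸ orderOf_dvd_of_mem_zpowers hz
    have h2 : orderOf z ∣ 2 := orderOf_dvd_of_pow_eq_one (hEexp z hzE)
    exact orderOf_eq_one_iff.1 (Nat.eq_one_of_dvd_coprimes (by norm_num) h1 h2)
  -- the linear character
  have hq : Nat.card ((C ⧸ K) ⧸ E) = 3 := by rw [← Subgroup.index_eq_card, h3]
  set g : (C ⧸ K) ⧸ E := QuotientGroup.mk r with hg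
  have hg1 : g ≠ 1 := fun h => hrE ((QuotientGroup.eq_one_iff r).1 h)
  have hgen : ∀ z, z ∈ Subgroup.zpowers g := fun z => by
    haveI : Fact (Nat.Prime 3) := ⟨Nat.prime_three⟩
    exact mem_zpowers_of_prime_card hq hg1
  set ω : ℂˣ := (Complex.isPrimitiveRoot_exp 3 (by norm_num)).isUnit (by norm_num) |>.unit with hω
  have hωp : IsPrimitiveRoot ω 3 :=
    IsPrimitiveRoot.coe_units_iff.1 (by
      rw [hω, IsUnit.unit_spec]; exact Complex.isPrimitiveRoot_exp 3 (by norm_num))
  have hgo : orderOf g = 3 := by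
    haveI : Fact (Nat.Prime 3) := ⟨Nat.prime_three⟩
    exact orderOf_eq_prime (hq ▸ pow_card_eq_one') hg1
  have hωg : orderOf ω ∣ orderOf g := by rw [← hωp.eq_orderOf, hgo]
  set L : (C ⧸ K) ⧸ E →* ℂˣ := monoidHomOfForallMemZpowers hgen hωg with hL
  have hLg : L g = ω := monoidHomOfForallMemZpowers_apply_gen hgen hωg
  have hLinj : ∀ z, L z = 1 → z = 1 := by
    intro z hz
    obtain ⟨k, rfl⟩ := hgen z
    simp only [map_zpow, hLg] at hz
    have := hωp.zpow_eq_one_iff_dvd k |>.1 hz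
    exact orderOf_dvd_iff_zpow_eq_one.1 (by rw [hgo]; exact this)
  set μ : C →* ℂˣ := L.comp ((QuotientGroup.mk' E).comp π) with hμ
  have hμ1 : ∀ c, μ c = 1 ↔ π c ∈ E := fun c => by
    constructor
    · exact fun h => (QuotientGroup.eq_one_iff (π c)).1 (hLinj _ h)
    · intro h
      show L (QuotientGroup.mk' E (π c)) = 1
      rw [show QuotientGroup.mk' E (π c) = 1 from (QuotientGroup.eq_one_iff (π c)).2 h, map_one]
  have hkerπ : π.ker = K := QuotientGroup.ker_mk' K
  have hcH : Nat.card ((Subgroup.zpowers r).comap π) = 3 * Nat.card K := by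
    rw [card_comap π hπs, Nat.card_zpowers, hr, hkerπ]
  refine ⟨(Subgroup.zpowers r).comap π, (Subgroup.centralizer ({r} : Set (C ⧸ K))).comap π, μ,
    ⟨hcon, ?_, ?_, hcH, ?_, ?_, ?_, ?_, ?_, ?_⟩⟩
  · rw [hcH, Nat.Prime.dvd_mul Nat.prime_two]
    exact fun h => h.elim (by norm_num) hKodd
  · intro c hc
    rw [Subgroup.mem_comap, show π c = 1 from (QuotientGroup.eq_one_iff c).2 hc]
    exact one_mem _
  · rw [K.card_eq_card_quotient_mul_card_subgroup, ← E.card_mul_index, hE8, h3]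
  · rw [card_comap π hπs, hkerπ, card_centralizer E hEexp hE8 h3 hself hT hT1 hTc hrE]
  · intro c
    show L _ ^ 3 = 1
    rw [← map_pow, ← hq, pow_card_eq_one', map_one]
  · intro h hh
    rw [hμ1]
    exact ⟨fun hE' => (QuotientGroup.eq_one_iff h).1 (hrq _ hh hE'),
      fun hk => by rw [show π h = 1 from (QuotientGroup.eq_one_iff h).2 hk]; exact one_mem _⟩
  · intro v hv h hh
    rw [Subgroup.mem_comap, Subgroup.mem_centralizer_singleton_iff] at hv
    rw [Subgroup.mem_comap] at hh ⊢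
    obtain ⟨k, hk⟩ := hh
    have hc : Commute (π v) (π h) := by rw [← hk]; exact Commute.zpow_right hv k
    rw [map_mul, map_mul, map_inv, hc.eq, mul_inv_cancel_right, ← hk]
    exact Subgroup.zpow_mem_zpowers r k
  · intro v hv h hh hvh
    rw [Subgroup.mem_comap] at hh hvh hv
    by_contra hhK
    have h1 : π (v * h * v⁻¹) * (π h)⁻¹ = 1 := by
      refine hrq _ (mul_mem hvh (inv_mem hh)) ?_
      rw [← map_inv, ← map_mul, ← hμ1, map_mul, map_mul, map_mul, map_inv, map_inv,
        mul_comm (μ v) (μ h), mul_inv_cancel_right, mul_inv_cancel]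
    rw [mul_inv_eq_one, map_mul, map_mul, map_inv, mul_inv_eq_iff_eq_mul] at h1
    apply hv
    rw [Subgroup.mem_centralizer_singleton_iff]
    haveI : Fact (Nat.Prime 3) := ⟨Nat.prime_three⟩
    have hne' : (⟨π h, hh⟩ : Subgroup.zpowers r) ≠ 1 :=
      fun e => hhK ((QuotientGroup.eq_one_iff h).1 (congrArg Subtype.val e))
    obtain ⟨k, hk⟩ := mem_zpowers_of_prime_card (g := ⟨π h, hh⟩)
      (g' := (⟨r, Subgroup.mem_zpowers r⟩ : Subgroup.zpowers r))
      (by rw [Nat.card_zpowers, hr]) hne'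
    have hk' : (π h) ^ k = r := congrArg Subtype.val hk
    rw [← hk']
    exact Commute.zpow_right h1 k

end Cfsg.Agent.Lib.Inv59.EightCent
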