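import Mathlib
import Cfsg.Agent.Lib.Inv59.EightCent
import Cfsg.Agent.Lib.Inv59.EightArith
import Cfsg.Agent.Lib.Blocks.SectionPart
import Cfsg.Agent.Lib.BrauerMap.PrincipalSection
import Cfsg.Agent.Lib.BlockOverCore.Main
import Cfsg.Agent.Lib.Characters.Linear

/-!
# The exceptional virtual character on the section of an involution with centralizer of type
`O(C) · (Z2 × A4)`
-/

set_option autoImplicit false
set_option linter.style.haveILetI false

namespace Cfsg.Agent.Lib.Inv59.EightChar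

open Cfsg Cfsg.Agent.Lib.Characters.Basic
open Cfsg.Agent.Lib.BrauerMap
open scoped ComplexConjugate Classical

universe u

variable {G : Type u} [Group G] [Fintype G]

/-- A linear character takes conjugate values at inverses. -/
theorem conj_units {C : Type u} [Group C] [Finite C] (ν : C →* ℂˣ) (c : C) :
    conj ((ν c⁻¹ : ℂˣ) : ℂ) = (ν c : ℂ) := by
  have h := apply_inv (isCharacter_irr (Characters.Linear.linChar ν)) c⁻¹
  simp only [inv_inv, Characters.Linear.linChar_apply] at h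
  exact h.symm

/-- `n + 7 v` is a multiple of 8. -/
theorem mult_eight (S : Sylow 2 G) (h8 : Nat.card (S : Subgroup G) = 8) {t : G}
    (hconj : ∀ s ∈ (S : Subgroup G), s ≠ 1 → IsConj t s) (χ : Cfsg.IrrCharacter G) :
    ∃ m : ℕ, (χ : G → ℂ) 1 + 7 * (χ : G → ℂ) t = 8 * (m : ℂ) := by
  classical
  haveI := Fintype.ofFinite (S : Subgroup G)
  obtain ⟨m, hm⟩ := exists_classInner_nat
    (isCharacter_comp (S : Subgroup G).subtype (isCharacter_irr χ))
    (isCharacter_one (G := (S : Subgroup G)))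
  refine ⟨m, ?_⟩
  rw [← hm, Cfsg.classInner, h8]
  simp only [Function.comp_apply, Pi.one_apply, map_one, mul_one, Subgroup.coe_subtype]
  rw [← Finset.add_sum_erase _ _ (Finset.mem_univ (1 : (S : Subgroup G)))]
  rw [Finset.sum_congr rfl (g := fun _ => (χ : G → ℂ) t) fun s hs => ?_]
  · rw [Finset.sum_const, Finset.card_erase_of_mem (Finset.mem_univ _), Finset.card_univ,
      ← Nat.card_eq_fintype_card, h8, nsmul_eq_mul, OneMemClass.coe_one]
    push_cast
    ring
  · exact (classFunction_apply_of_isConj (isClassFunction_irr χ)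
      (hconj s s.2 fun h => (Finset.ne_of_mem_erase hs) (Subtype.ext h))).symm

/-- In a simple group only the trivial character takes its degree at a nontrivial element. -/
theorem eq_one_of_apply_eq [IsSimpleGroup G] {t : G} (ht : t ≠ 1) (χ : Cfsg.IrrCharacter G)
    (h : (χ : G → ℂ) t = (χ : G → ℂ) 1) : χ = oneChar G := by
  obtain ⟨n, ρ, hρ, hρχ⟩ := exists_rep χ
  have h1 : ρ t = LinearMap.id := by
    rw [← Characters.Diag.char_eq_finrank_iff, hρχ, h, ← hρχ, Representation.char_one]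
  set R : G →* Module.End ℂ (Fin n → ℂ) := ρ
  rcases IsSimpleGroup.eq_bot_or_eq_top_of_normal R.ker inferInstance with hk | hk
  · exact absurd (Subgroup.mem_bot.1 (hk ▸ (show t ∈ R.ker from h1))) ht
  · by_contra hne
    have h0 := classInner_irr_of_ne hne
    have hconst : ∀ g, (χ : G → ℂ) g = (χ : G → ℂ) 1 := fun g => by
      have hg : g ∈ R.ker := hk ▸ Subgroup.mem_top g
      rw [← hρχ, Representation.char_one, Characters.Diag.char_eq_finrank_iff]
      exact hg
    simp only [Cfsg.classInner, hconst, oneChar_apply, map_one, mul_one, Finset.sum_const,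
      Finset.card_univ, ← Nat.card_eq_fintype_card, nsmul_eq_mul] at h0
    rw [← mul_assoc, inv_mul_cancel₀ (Nat.cast_ne_zero.2 Nat.card_pos.ne'), one_mul] at h0
    exact apply_one_ne_zero χ h0

variable {t : G} {H : Subgroup G} {H₀ N : Subgroup H} {μ : H →* ℂˣ}

/-- The multiplicity of `μ ^ j` on the section of `t`. -/
noncomputable def coef (t : G) (H₀ : Subgroup H) [Fintype H₀] (μ : H →* ℂˣ) (j : ℕ)
    (χ : G → ℂ) : ℂ :=
  (Nat.card H₀ : ℂ)⁻¹ * ∑ h : H₀, ((μ (h : H)⁻¹ : ℂˣ) : ℂ) ^ j * χ (t * ((h : H) : G))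

theorem commute_t (hH : H = Subgroup.centralizer (Subgroup.zpowers t : Set G)) (h : H) :
    Commute t (h : G) :=
  Blocks.SectionPart.commute_of_mem hH h.2

/-- The multiplicities are integers. -/
theorem coef_int (hH : H = Subgroup.centralizer (Subgroup.zpowers t : Set G)) (ht : orderOf t = 2)
    [Fintype H₀] (j : ℕ) (χ : Cfsg.IrrCharacter G) :
    ∃ z : ℤ, coef t H₀ μ j (χ : G → ℂ) = z := by
  classical
  have hcomm : ∀ (a : Subgroup.zpowers t) (h : H₀), Commute (a : G) ((h : H) : G) := by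
    rintro ⟨_, k, rfl⟩ h
    exact (commute_t hH h).zpow_left k
  set f : Subgroup.zpowers t × H₀ →* G :=
    (Subgroup.zpowers t).subtype.noncommCoprod (H.subtype.comp H₀.subtype) hcomm with hf
  set ν : H₀ →* ℂˣ := (μ.comp H₀.subtype) ^ j with hν
  set lam : Subgroup.zpowers t × H₀ →* ℂˣ := ν.comp (MonoidHom.snd _ _) with hlam
  haveI := Fintype.ofFinite (Subgroup.zpowers t)
  have huniv : (Finset.univ : Finset (Subgroup.zpowers t)) =
      {1, ⟨t, Subgroup.mem_zpowers t⟩} := by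
    symm
    apply Finset.eq_univ_of_card
    rw [Finset.card_pair, ← Nat.card_eq_fintype_card, Nat.card_zpowers, ht]
    intro h
    have : t = 1 := (congrArg Subtype.val h).symm
    rw [this, orderOf_one] at ht
    omega
  obtain ⟨a, ha⟩ := exists_classInner_nat (isCharacter_comp f (isCharacter_irr χ))
    (isCharacter_irr (Characters.Linear.linChar lam))
  obtain ⟨b, hb⟩ := exists_classInner_nat
    (isCharacter_comp (H.subtype.comp H₀.subtype) (isCharacter_irr χ))
    (isCharacter_irr (Characters.Linear.linChar ν))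
  refine ⟨2 * a - b, ?_⟩
  push_cast
  rw [← ha, ← hb, Cfsg.classInner, Cfsg.classInner, Fintype.sum_prod_type, huniv,
    Finset.sum_pair]
  · have hc : ∀ h : H₀, conj ((ν h : ℂˣ) : ℂ) = ((μ (h : H)⁻¹ : ℂˣ) : ℂ) ^ j := by
      intro h
      have h0 := conj_units ν h⁻¹
      rw [inv_inv] at h0
      rw [h0, hν, MonoidHom.pow_apply, Units.val_pow_eq_pow_val]
      simp only [MonoidHom.coe_comp, Function.comp_apply, Subgroup.coe_subtype, InvMemClass.coe_inv]
    have hl : ∀ (a : Subgroup.zpowers t) (h : H₀),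
        (Characters.Linear.linChar lam : _ → ℂ) (a, h) = ((ν h : ℂˣ) : ℂ) := fun a h => rfl
    have hl' : ∀ h : H₀, (Characters.Linear.linChar ν : H₀ → ℂ) h = ((ν h : ℂˣ) : ℂ) := fun h => rfl
    have hf' : ∀ (a : Subgroup.zpowers t) (h : H₀),
        ((χ : G → ℂ) ∘ f) (a, h) = (χ : G → ℂ) ((a : G) * ((h : H) : G)) := fun a h => rfl
    have hg' : ∀ h : H₀, ((χ : G → ℂ) ∘ (H.subtype.comp H₀.subtype)) h =
        (χ : G → ℂ) ((h : H) : G) := fun h => rfl
    simp only [hl, hl', hf', hg', OneMemClass.coe_one, one_mul, Nat.card_prod, Nat.card_zpowers,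
      ht, hc]
    rw [coef]
    push_cast
    simp only [Finset.mul_sum, ← Finset.sum_add_distrib, ← Finset.sum_sub_distrib]
    refine Finset.sum_congr rfl fun h _ => ?_
    ring
  · intro h
    have : t = 1 := (congrArg Subtype.val h).symm
    rw [this, orderOf_one] at ht
    omega

variable [Fintype H] [Fintype H₀]

omit [Fintype G] [Fintype H] [Fintype H₀] in
theorem regular_of_mem [Finite G] (hodd : ¬ 2 ∣ Nat.card H₀) (h : H₀) :
    ¬ 2 ∣ orderOf ((h : H) : G) := fun hd => hodd (hd.trans (by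
  rw [Subgroup.orderOf_coe, Subgroup.orderOf_coe]
  exact orderOf_dvd_natCard h))

/-- The sum over the three characters detects the core. -/
theorem geom (D : EightCent.Data H H₀ N μ) (h : H₀) :
    ∑ j : Fin 3, ((μ (h : H)⁻¹ : ℂˣ) : ℂ) ^ (j : ℕ) =
      if (h : H) ∈ pPrimeCore 2 H then 3 else 0 := by
  classical
  rw [Fin.sum_univ_three]
  simp only [Fin.val_zero, Fin.val_one, Fin.val_two, pow_zero, pow_one]
  have h3 : ((μ (h : H)⁻¹ : ℂˣ) : ℂ) ^ 3 = 1 := by
    rw [← Units.val_pow_eq_pow_val, D.cube, Units.val_one]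
  split_ifs with hK
  · rw [map_inv, (D.ker _ h.2).2 hK, inv_one, Units.val_one]; norm_num
  · have hne : ((μ (h : H)⁻¹ : ℂˣ) : ℂ) - 1 ≠ 0 := by
      rw [sub_ne_zero]
      intro e
      apply hK
      rw [← D.ker _ h.2, ← inv_eq_one, ← map_inv]
      exact Units.ext e
    apply mul_left_cancel₀ hne
    linear_combination h3

/-- Sum of a nontrivial linear character on `H₀`. -/
theorem sum_pow_eq_zero (D : EightCent.Data H H₀ N μ) {m : ℕ} (hm : ¬ 3 ∣ m) :
    ∑ h : H₀, ((μ (h : H) : ℂˣ) : ℂ) ^ m = 0 := by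
  classical
  set ν : H₀ →* ℂˣ := (μ.comp H₀.subtype) ^ m with hν
  have hne : ν ≠ 1 := by
    intro e
    have hlt : Nat.card (pPrimeCore 2 H) < Nat.card H₀ := by
      rw [D.card_H]
      have : 0 < Nat.card (pPrimeCore 2 H) := Nat.card_pos
      omega
    obtain ⟨h, hh, hK⟩ : ∃ h ∈ H₀, h ∉ pPrimeCore 2 H := by
      by_contra! hle
      exact absurd (Subgroup.card_le_of_le hle) (not_le.2 hlt)
    apply hK
    rw [← D.ker h hh]
    have h1 : μ h ^ m = 1 := DFunLike.congr_fun e ⟨h, hh⟩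
    have h2 := D.cube h
    have hg : Nat.gcd m 3 = 1 :=
      Nat.coprime_iff_gcd_eq_one.1 ((Nat.Prime.coprime_iff_not_dvd Nat.prime_three).2 hm).symm
    have := pow_gcd_eq_one.2 ⟨h1, h2⟩
    rwa [hg, pow_one] at this
  have h := sum_hom_units ((Units.coeHom ℂ).comp ν)
  rw [if_neg (fun e => hne (MonoidHom.ext fun x => Units.ext (DFunLike.congr_fun e x)))] at h
  simpa [hν] using h

/-- The Gram matrix. -/
theorem gram (hH : H = Subgroup.centralizer (Subgroup.zpowers t : Set G)) (ht : orderOf t = 2)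
    (D : EightCent.Data H H₀ N μ) [Fintype (Cfsg.IrrCharacter G)] (i j : Fin 3) :
    ∑ χ : Cfsg.IrrCharacter G, coef t H₀ μ i (χ : G → ℂ) * coef t H₀ μ j (χ : G → ℂ) =
      if i = j then 4 else 2 := by
  classical
  haveI : Fact (Nat.Prime 2) := ⟨Nat.prime_two⟩
  set K := pPrimeCore 2 H with hK
  have hreal : ∀ χ : Cfsg.IrrCharacter G, coef t H₀ μ j (χ : G → ℂ) =
      (Nat.card H₀ : ℂ)⁻¹ * ∑ k : H₀, ((μ (k : H) : ℂˣ) : ℂ) ^ (j : ℕ) *
        (χ : G → ℂ) (t⁻¹ * ((k : H) : G)⁻¹) := by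
    intro χ
    obtain ⟨z, hz⟩ := coef_int (μ := μ) hH ht (H₀ := H₀) j χ
    have h1 : conj (coef t H₀ μ j (χ : G → ℂ)) = coef t H₀ μ j (χ : G → ℂ) := by
      rw [hz, map_intCast]
    rw [← h1, coef, map_mul, map_inv₀, map_natCast, map_sum]
    refine congrArg _ (Finset.sum_congr rfl fun k _ => ?_)
    rw [map_mul, map_pow, conj_units, ← apply_inv (isCharacter_irr χ), mul_inv_rev,
      ((commute_t hH (k : H)).inv_inv).eq]
  have hS : ∀ h k : H₀, ∑ χ : Cfsg.IrrCharacter G,
      (χ : G → ℂ) (t * ((h : H) : G)) * (χ : G → ℂ) (t⁻¹ * ((k : H) : G)⁻¹) =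
      ∑ v : H, if (h : H) = v * k * v⁻¹ then (1 : ℂ) else 0 :=
    fun h k => Blocks.SectionPart.sum_sect_mul (p := 2) ⟨1, by rw [ht, pow_one]⟩ hH h k
      (regular_of_mem D.odd_H h) (regular_of_mem D.odd_H k)
  set m : ℕ := (j : ℕ) + 2 * (i : ℕ) with hm
  have hsum : ∑ χ : Cfsg.IrrCharacter G, coef t H₀ μ i (χ : G → ℂ) * coef t H₀ μ j (χ : G → ℂ) =
      (Nat.card H₀ : ℂ)⁻¹ * (Nat.card H₀ : ℂ)⁻¹ *
        ∑ v : H, ∑ k : H₀, if v * (k : H) * v⁻¹ ∈ H₀ then ((μ (k : H) : ℂˣ) : ℂ) ^ m else 0 := by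
    rw [Finset.sum_congr rfl fun (χ : Cfsg.IrrCharacter G) _ =>
      congrArg (coef t H₀ μ i (χ : G → ℂ) * ·) (hreal χ)]
    simp only [coef, Finset.mul_sum, Finset.sum_mul]
    rw [Finset.sum_comm]
    conv_lhs => enter [2, k]; rw [Finset.sum_comm]
    rw [Finset.sum_comm]
    conv_rhs => rw [Finset.sum_comm]
    rw [Finset.sum_comm]
    refine Finset.sum_congr rfl fun k _ => ?_
    calc _ = ∑ h : H₀, (Nat.card H₀ : ℂ)⁻¹ * (Nat.card H₀ : ℂ)⁻¹ *
          (((μ (h : H)⁻¹ : ℂˣ) : ℂ) ^ (i : ℕ) * ((μ (k : H) : ℂˣ) : ℂ) ^ (j : ℕ)) *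
            ∑ v : H, if (h : H) = v * k * v⁻¹ then (1 : ℂ) else 0 := by
          refine Finset.sum_congr rfl fun h _ => ?_
          rw [← hS h k, Finset.mul_sum]
          refine Finset.sum_congr rfl fun χ _ => ?_
          ring
      _ = _ := by
          simp only [Finset.mul_sum]
          rw [Finset.sum_comm]
          refine Finset.sum_congr rfl fun v _ => ?_
          by_cases hv : v * (k : H) * v⁻¹ ∈ H₀
          · rw [if_pos hv, Finset.sum_eq_single (⟨_, hv⟩ : H₀)]
            · rw [if_pos rfl, mul_one]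
              have e1 : μ (v * (k : H) * v⁻¹) = μ k := by
                rw [map_mul, map_mul, map_inv, mul_comm (μ v), mul_inv_cancel_right]
              have e2 : μ ((k : H))⁻¹ = μ (k : H) ^ 2 := by
                rw [map_inv, inv_eq_iff_mul_eq_one, ← pow_succ', D.cube]
              simp only [map_inv, e1]
              rw [← map_inv, e2, Units.val_pow_eq_pow_val, ← pow_mul, ← pow_add, hm,
                Nat.add_comm]
            · intro h _ hne
              rw [if_neg fun e => hne (Subtype.ext e), mul_zero]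
            · exact fun h => absurd (Finset.mem_univ _) h
          · rw [if_neg hv, mul_zero]
            refine Finset.sum_eq_zero fun h _ => ?_
            rw [if_neg fun e => hv (by rw [← e]; exact h.2), mul_zero]
  have hKle : ∀ v : H, ∀ k : H₀, (k : H) ∈ K → v * (k : H) * v⁻¹ ∈ H₀ := fun v k hk =>
    D.le_H (Subgroup.Normal.conj_mem inferInstance _ hk v)
  have hin : ∀ v : H, (∑ k : H₀, if v * (k : H) * v⁻¹ ∈ H₀
      then ((μ (k : H) : ℂˣ) : ℂ) ^ m else 0) =
      if v ∈ N then (if i = j then (Nat.card H₀ : ℂ) else 0) else (Nat.card K : ℂ) := by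
    intro v
    by_cases hv : v ∈ N
    · rw [if_pos hv, Finset.sum_congr rfl fun (k : H₀) _ => if_pos (D.mem_N v hv (k : H) k.2)]
      split_ifs with hij
      · have : ∀ k : H₀, ((μ (k : H) : ℂˣ) : ℂ) ^ m = 1 := fun k => by
          rw [hm, hij, show (j : ℕ) + 2 * (j : ℕ) = 3 * (j : ℕ) by ring, pow_mul,
            ← Units.val_pow_eq_pow_val, D.cube, Units.val_one, one_pow]
        simp [this]
      · refine sum_pow_eq_zero D fun hd => hij (Fin.ext ?_)
        have := i.2; have := j.2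
        omega
    · rw [if_neg hv, Finset.sum_ite, Finset.sum_const_zero, add_zero]
      have hfil : (Finset.univ.filter fun k : H₀ => v * (k : H) * v⁻¹ ∈ H₀) =
          Finset.univ.filter fun k : H₀ => (k : H) ∈ K := by
        ext k
        simp only [Finset.mem_filter, Finset.mem_univ, true_and]
        exact ⟨D.not_mem_N v hv (k : H) k.2, hKle v k⟩
      rw [hfil, Finset.sum_congr rfl (g := fun _ => (1 : ℂ)) fun k hk => ?_]
      · rw [Finset.sum_const, nsmul_eq_mul, mul_one, ← Fintype.card_subtype,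
          ← Nat.card_eq_fintype_card]
        exact congrArg _ (Nat.card_congr (Subgroup.subgroupOfEquivOfLe D.le_H).toEquiv)
      · rw [(D.ker _ k.2).2 (Finset.mem_filter.1 hk).2, Units.val_one, one_pow]
  rw [hsum, Finset.sum_congr rfl fun v _ => hin v, Finset.sum_ite, Finset.sum_const,
    Finset.sum_const, ← Fintype.card_subtype, ← Fintype.card_subtype, Fintype.card_subtype_compl,
    ← Nat.card_eq_fintype_card, ← Nat.card_eq_fintype_card,
    show Nat.card {x // x ∈ N} = 6 * Nat.card K from D.card_N, D.card_C, D.card_H]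
  have hK0 : (Nat.card K : ℂ) ≠ 0 := Nat.cast_ne_zero.2 Nat.card_pos.ne'
  rw [show 24 * Nat.card K - 6 * Nat.card K = 18 * Nat.card K by omega, ← hK]
  split_ifs <;> simp only [nsmul_eq_mul] <;> push_cast <;> field_simp <;> ring

/-- With the core detection the coefficient sums are averages over the core. -/
theorem sum_coef (D : EightCent.Data H H₀ N μ) (χ : G → ℂ) :
    ∑ j : Fin 3, coef t H₀ μ j χ = (Nat.card (pPrimeCore 2 H) : ℂ)⁻¹ *
      ∑ k : pPrimeCore 2 H, χ (t * ((k : H) : G)) := by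
  classical
  simp only [coef, ← Finset.mul_sum]
  rw [Finset.sum_comm]
  simp only [← Finset.sum_mul, geom D, ite_mul, zero_mul]
  rw [← Finset.sum_filter, ← Finset.mul_sum, D.card_H]
  have hbij : ∑ h ∈ (Finset.univ.filter fun h : H₀ => (h : H) ∈ pPrimeCore 2 H),
      χ (t * ((h : H) : G)) = ∑ k : pPrimeCore 2 H, χ (t * ((k : H) : G)) :=
    (Finset.sum_bij (fun (k : pPrimeCore 2 H) _ => (⟨k, D.le_H k.2⟩ : H₀)) (fun k _ => by simp)
      (fun a _ b _ e => Subtype.ext (congrArg (fun z : H₀ => (z : H)) e))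
      (fun h hh => ⟨⟨h, (Finset.mem_filter.1 hh).2⟩, Finset.mem_univ _, rfl⟩)
      (fun k _ => rfl)).symm
  rw [hbij]
  have hK0 : (Nat.card (pPrimeCore 2 H) : ℂ) ≠ 0 := Nat.cast_ne_zero.2 Nat.card_pos.ne'
  push_cast
  field_simp

/-- The principal block of the centralizer: the characters trivial on the core. -/
theorem principalBlock_eq {C : Type u} [Group C] [Fintype C] {M : Ideal Cfsg.AlgInt}
    [M.IsMaximal] (hM : Cfsg.IsPModular 2 M)
    (hcon : Subgroup.centralizer ((pCore 2 (C ⧸ pPrimeCore 2 C) : Subgroup _) : Set _) ≤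
      pCore 2 (C ⧸ pPrimeCore 2 C)) :
    Cfsg.principalBlock M C =
      {θ : Cfsg.IrrCharacter C | ∀ n ∈ pPrimeCore 2 C, (θ : C → ℂ) n = (θ : C → ℂ) 1} := by
  classical
  haveI : Fact (Nat.Prime 2) := ⟨Nat.prime_two⟩
  haveI := Fintype.ofFinite (pPrimeCore 2 C)
  refine Set.Subset.antisymm (fun θ hθ => Inflation.blockOf_subset_trivialOn hM _
    (Cores.not_dvd_card_pPrimeCore 2) (χ := oneChar C) (fun _ _ => rfl) hθ) fun θ hθ => ?_
  have hne : ∀ χ : Cfsg.IrrCharacter C,
      (∀ n ∈ pPrimeCore 2 C, (χ : C → ℂ) n = (χ : C → ℂ) 1) →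
      Cfsg.classInner (fun n : pPrimeCore 2 C => (χ : C → ℂ) n) (oneChar (pPrimeCore 2 C)) ≠ 0 := by
    intro χ hχ
    simp only [Cfsg.classInner, oneChar_apply, map_one, mul_one, hχ _ (Subtype.prop _),
      Finset.sum_const, Finset.card_univ, ← Nat.card_eq_fintype_card, nsmul_eq_mul]
    rw [← mul_assoc, inv_mul_cancel₀ (Nat.cast_ne_zero.2 Nat.card_pos.ne'), one_mul]
    exact apply_one_ne_zero χ
  exact BlockOverCore.Main.sameBlock_over hM _ hcon (oneChar _) (fun g => rfl) (oneChar C) θ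
    (hne _ fun _ _ => rfl) (hne θ hθ)

/-- The average over the core on the section: the projection to the principal block. -/
theorem avg_eq (hH : H = Subgroup.centralizer (Subgroup.zpowers t : Set G))
    {M : Ideal Cfsg.AlgInt} [M.IsMaximal] (hM : Cfsg.IsPModular 2 M)
    (D : EightCent.Data H H₀ N μ) {g : G} (hg : Cfsg.IsPPart 2 g t) (χ : Cfsg.IrrCharacter G)
    [Decidable (χ ∈ Cfsg.principalBlock M G)] :
    (Nat.card (pPrimeCore 2 H) : ℂ)⁻¹ * ∑ k : pPrimeCore 2 H, (χ : G → ℂ) (g * ((k : H) : G)) =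
      if χ ∈ Cfsg.principalBlock M G then (χ : G → ℂ) g else 0 := by
  classical
  haveI : Fact (Nat.Prime 2) := ⟨Nat.prime_two⟩
  subst hH
  rw [← PrincipalSection.sum_extPrinc_apply hM hg χ, Finset.mul_sum]
  refine Finset.sum_of_injOn
    (fun k : pPrimeCore 2 (Subgroup.centralizer (Subgroup.zpowers t : Set G)) =>
      ((k : Subgroup.centralizer (Subgroup.zpowers t : Set G)) : G))
    (fun a _ b _ e => Subtype.ext (Subtype.ext (by simpa using e))) (fun _ _ => Finset.mem_univ _)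
    (fun y _ hy => ?_) (fun k _ => ?_)
  · rw [PrincipalSection.coe_coeff_extPrinc]
    split_ifs with hyH
    · rw [principalBlock_eq hM D.constrained, Inflation.blockCoeff_trivialOn,
        if_neg fun hK => hy ⟨⟨⟨y, hyH⟩, hK⟩, Finset.mem_univ _, rfl⟩, zero_mul]
    · rw [zero_mul]
  · rw [PrincipalSection.coe_coeff_extPrinc, dif_pos (k : Subgroup.centralizer (Subgroup.zpowers t : Set G)).2,
      principalBlock_eq hM D.constrained, Inflation.blockCoeff_trivialOn, if_pos k.2]

/-- Each constituent takes the value predicted by the coefficients. -/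
theorem value_eq (hH : H = Subgroup.centralizer (Subgroup.zpowers t : Set G))
    (ht : orderOf t = 2) (D : EightCent.Data H H₀ N μ) (χ : Cfsg.IrrCharacter G)
    (hc : ∃ j : Fin 3, coef t H₀ μ j (χ : G → ℂ) ≠ 0) :
    (χ : G → ℂ) t = ∑ j : Fin 3, coef t H₀ μ j (χ : G → ℂ) := by
  classical
  obtain ⟨M, hM⟩ := Blocks.exists_isPModular 2 Nat.prime_two
  haveI : M.IsMaximal := hM.2.1
  have hpart : ∀ h : H₀, Cfsg.IsPPart 2 (t * ((h : H) : G)) t := fun h =>
    ⟨_, rfl, commute_t hH h, ⟨1, by rw [ht, pow_one]⟩, regular_of_mem D.odd_H h⟩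
  by_cases hχ : χ ∈ Cfsg.principalBlock M G
  · have h1 := hpart 1
    rw [OneMemClass.coe_one, OneMemClass.coe_one, mul_one] at h1
    rw [sum_coef D, avg_eq hH hM D h1 χ, if_pos hχ]
  · exfalso
    obtain ⟨j, hj⟩ := hc
    apply hj
    have key : (Nat.card (pPrimeCore 2 H) : ℂ) *
        ∑ h : H₀, ((μ (h : H)⁻¹ : ℂˣ) : ℂ) ^ (j : ℕ) * (χ : G → ℂ) (t * ((h : H) : G)) = 0 := by
      calc _ = ∑ k : pPrimeCore 2 H, ∑ h : H₀,
            ((μ (h : H)⁻¹ : ℂˣ) : ℂ) ^ (j : ℕ) *
              (χ : G → ℂ) (t * ((h : H) : G) * ((k : H) : G)) := by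
            rw [Nat.card_eq_fintype_card, ← nsmul_eq_mul, ← Finset.card_univ, ← Finset.sum_const]
            refine Finset.sum_congr rfl fun k _ => ?_
            refine (Fintype.sum_equiv (Equiv.mulRight (⟨k, D.le_H k.2⟩ : H₀)) _ _ fun h => ?_).symm
            simp only [Equiv.coe_mulRight, Subgroup.coe_mul, mul_inv_rev, map_mul, mul_assoc]
            rw [map_inv μ (k : H), (D.ker _ (D.le_H k.2)).2 k.2, inv_one, one_mul]
        _ = ∑ h : H₀, ((μ (h : H)⁻¹ : ℂˣ) : ℂ) ^ (j : ℕ) *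
              ∑ k : pPrimeCore 2 H, (χ : G → ℂ) (t * ((h : H) : G) * ((k : H) : G)) := by
            rw [Finset.sum_comm]; simp only [Finset.mul_sum]
        _ = 0 := Finset.sum_eq_zero fun h _ => by
            have := avg_eq hH hM D (hpart h) χ
            rw [if_neg hχ] at this
            rw [(mul_eq_zero.1 this).resolve_left
              (inv_ne_zero (Nat.cast_ne_zero.2 Nat.card_pos.ne')), mul_zero]
    rw [coef, (mul_eq_zero.1 key).resolve_left (Nat.cast_ne_zero.2 Nat.card_pos.ne'), mul_zero]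

/-- The difference of two coefficient vectors is orthogonal to the columns off its support. -/
theorem column (D : EightCent.Data H H₀ N μ) [Fintype (Cfsg.IrrCharacter G)] (i j : Fin 3) (y : G)
    (hy : ∀ h : H₀, (h : H) ∉ pPrimeCore 2 H → ∀ v : G, t * ((h : H) : G) ≠ v * y⁻¹ * v⁻¹) :
    ∑ χ : Cfsg.IrrCharacter G,
      (coef t H₀ μ i (χ : G → ℂ) - coef t H₀ μ j (χ : G → ℂ)) * (χ : G → ℂ) y = 0 := by
  classical
  simp only [coef, ← mul_sub, ← Finset.sum_sub_distrib, Finset.mul_sum, Finset.sum_mul]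
  rw [Finset.sum_comm]
  refine Finset.sum_eq_zero fun h _ => ?_
  by_cases hK : (h : H) ∈ pPrimeCore 2 H
  · simp [(D.ker _ h.2).2 hK]
  · simp only [← sub_mul, mul_assoc]
    rw [← Finset.mul_sum, ← Finset.mul_sum]
    have h0 := PrincipalSection.sum_irr_mul_inv (G := G) (t * ((h : H) : G)) y⁻¹
    simp only [inv_inv] at h0
    rw [h0, Finset.sum_eq_zero (fun v _ => if_neg (hy h hK v)), mul_zero, mul_zero]

/-- A product of two conjugates of `t` is not conjugate to `t h` for `h` outside the core. -/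
theorem not_product (hH : H = Subgroup.centralizer (Subgroup.zpowers t : Set G))
    (ht : orderOf t = 2) (D : EightCent.Data H H₀ N μ) (h : H₀)
    (hK : (h : H) ∉ pPrimeCore 2 H) (a b : G) (ha : a * a = 1) (hb : b * b = 1) :
    t * ((h : H) : G) ≠ a * b := by
  intro e
  set z : G := t * ((h : H) : G) with hz
  have hai : a⁻¹ = a := inv_eq_of_mul_eq_one_right ha
  have hbi : b⁻¹ = b := inv_eq_of_mul_eq_one_right hb
  have hinv : a * z * a⁻¹ = z⁻¹ := by
    rw [e, hai, mul_inv_rev, hai, hbi, ← mul_assoc a a b, ha, one_mul]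
  obtain ⟨l, hl⟩ := Nat.odd_iff.2 (Nat.two_dvd_ne_zero.1 D.odd_H)
  have hhn : (h : H) ^ Nat.card H₀ = 1 := by
    rw [← Subgroup.coe_pow, pow_card_eq_one', Subgroup.coe_one]
  have ht2 : t ^ 2 = 1 := ht ▸ pow_orderOf_eq_one t
  have hzn : z ^ Nat.card H₀ = t := by
    rw [hz, (commute_t hH h).mul_pow, hl, pow_succ t, pow_mul, ht2, one_pow, one_mul,
      ← Subgroup.coe_pow, ← hl, hhn, Subgroup.coe_one, mul_one]
  have hti : t⁻¹ = t := inv_eq_of_mul_eq_one_right (by rw [← pow_two, ht2])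
  have hat : a * t * a⁻¹ = t := by
    conv_lhs => rw [← hzn]
    rw [← conj_pow, hinv, inv_pow, hzn, hti]
  have haH : a ∈ H := by
    rw [hH, SecondMain.mem_centralizer_zpowers_iff]
    exact mul_inv_eq_iff_eq_mul.1 hat
  have hh : (⟨a, haH⟩ : H) * (h : H) * (⟨a, haH⟩ : H)⁻¹ = (h : H)⁻¹ := by
    apply Subtype.ext
    have h1 : a * z * a⁻¹ = (a * t * a⁻¹) * (a * ((h : H) : G) * a⁻¹) := by rw [hz]; group
    rw [h1, hat, hz, mul_inv_rev, hti, ← ((commute_t hH h).inv_right).eq] at hinv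
    exact mul_left_cancel hinv
  apply hK
  rw [← D.ker _ h.2]
  have h2 := congrArg μ hh
  rw [map_mul, map_mul, map_inv, map_inv, mul_comm (μ _), mul_inv_cancel_right,
    eq_inv_iff_mul_eq_one, ← pow_two] at h2
  have h3 := D.cube (h : H)
  rwa [pow_succ, h2, one_mul] at h3

/-- The contradiction. -/
theorem contradiction [IsSimpleGroup G] (S : Sylow 2 G) (h8 : Nat.card (S : Subgroup G) = 8)
    (hconj : ∀ s ∈ (S : Subgroup G), s ≠ 1 → IsConj t s)
    (hH : H = Subgroup.centralizer (Subgroup.zpowers t : Set G)) (ht : orderOf t = 2)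
    (D : EightCent.Data H H₀ N μ) : False := by
  classical
  haveI := Fintype.ofFinite (Cfsg.IrrCharacter G)
  have ht1 : t ≠ 1 := fun h => by rw [h, orderOf_one] at ht; omega
  have hti : t⁻¹ = t := inv_eq_of_mul_eq_one_right (by rw [← pow_two, ← ht, pow_orderOf_eq_one])
  choose c hc using fun (i : Fin 3) (χ : Cfsg.IrrCharacter G) =>
    coef_int (μ := μ) hH ht (H₀ := H₀) (i : ℕ) χ
  have hgram : ∀ i k, ∑ χ, c i χ * c k χ = if i = k then 4 else 2 := by
    intro i k
    have h := gram hH ht D i k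
    simp only [hc] at h
    split_ifs at h ⊢ <;> exact_mod_cast h
  have hone : ∀ i : Fin 3, c i (oneChar G) = if i = 0 then 1 else 0 := by
    intro i
    have h : coef t H₀ μ i (oneChar G : G → ℂ) = if i = 0 then 1 else 0 := by
      simp only [coef, oneChar_apply, mul_one]
      split_ifs with hi
      · subst hi
        simp
      · have h3 : ¬ 3 ∣ 2 * (i : ℕ) := by
          have := i.2
          have : (i : ℕ) ≠ 0 := fun e => hi (Fin.ext e)
          omega
        rw [Finset.sum_congr rfl (g := fun h : H₀ => ((μ (h : H) : ℂˣ) : ℂ) ^ (2 * (i : ℕ)))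
          fun h _ => ?_, sum_pow_eq_zero D h3, mul_zero]
        rw [pow_mul, map_inv, ← Units.val_pow_eq_pow_val (μ _) 2]
        congr 2
        rw [inv_eq_iff_mul_eq_one, ← pow_succ', D.cube]
    rw [hc] at h
    split_ifs at h ⊢ <;> exact_mod_cast h
  obtain ⟨j, hj0, hj⟩ := EightArith.exists_small c (oneChar G)
    (fun i => by rw [hgram, if_pos rfl]) (fun i k h => by rw [hgram, if_neg h])
    (by rw [hone, if_pos rfl])
  set E : Cfsg.IrrCharacter G → ℤ := fun χ => c 0 χ - c j χ with hE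
  set v : Cfsg.IrrCharacter G → ℤ := fun χ => c 0 χ + c 1 χ + c 2 χ with hv
  have hval : ∀ χ, E χ ≠ 0 → (χ : G → ℂ) t = (v χ : ℂ) := by
    intro χ hχ
    have hex : ∃ i : Fin 3, coef t H₀ μ i (χ : G → ℂ) ≠ 0 := by
      by_contra! hz
      refine hχ ?_
      have h0 := hz 0
      have h1 := hz j
      rw [hc, Int.cast_eq_zero] at h0 h1
      simp [hE, h0, h1]
    rw [value_eq hH ht D χ hex, Fin.sum_univ_three, hc, hc, hc, hv]
    push_cast
    rfl
  choose n hn using fun χ : Cfsg.IrrCharacter G => exists_degree_pos χ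
  have hcol : ∀ y : G, (∀ h : H₀, (h : H) ∉ pPrimeCore 2 H →
      ∀ w : G, t * ((h : H) : G) ≠ w * y⁻¹ * w⁻¹) →
      ∑ χ, (E χ : ℂ) * (χ : G → ℂ) y = 0 := by
    intro y hy
    rw [← column (μ := μ) D 0 j y hy]
    refine Finset.sum_congr rfl fun χ _ => ?_
    rw [hc, hc, hE]
    push_cast
    rfl
  have hconjsq : ∀ w : G, w * t * w⁻¹ * (w * t * w⁻¹) = 1 := fun w => by
    rw [← pow_two, conj_pow, ← ht, pow_orderOf_eq_one, mul_one, mul_inv_cancel]
  have hreplace : ∀ (χ : Cfsg.IrrCharacter G),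
      (E χ : ℂ) * (χ : G → ℂ) t = (E χ : ℂ) * (v χ : ℂ) := fun χ => by
    by_cases hχ : E χ = 0
    · simp [hχ]
    · rw [hval χ hχ]
  refine EightArith.no_exceptional (oneChar G) E v n ?_ ?_ ?_ ?_ ?_ ?_ ?_ (fun χ => (hn χ).1) ?_ ?_
  · simp [hE, hone, hj0]
  · simp [hv, hone]
  · have := (hn (oneChar G)).2
    rw [oneChar_apply] at this
    exact_mod_cast this.symm
  · simp only [hE, sub_mul, mul_sub, Finset.sum_sub_distrib, hgram, if_pos rfl,
      if_neg hj0, if_neg (Ne.symm hj0)]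
    norm_num
  · exact fun χ hχ => hj χ fun e => hχ (sub_eq_zero.2 e)
  · have h := hcol t fun h hK w e => not_product hH ht D h hK (w * t * w⁻¹) 1 (hconjsq w)
      (one_mul 1) (by rw [e, hti, mul_one])
    simp only [hreplace] at h
    exact_mod_cast h
  · have hzero : ∀ w : G, ∑ χ, (E χ : ℂ) * (χ : G → ℂ) (w * t * w⁻¹ * t) = 0 := by
      intro w
      refine hcol _ fun h hK u e => ?_
      have e2 : (w * t * w⁻¹ * t)⁻¹ = t * (w * t * w⁻¹) := by
        simp [mul_inv_rev, hti, mul_assoc]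
      rw [e2] at e
      refine not_product hH ht D h hK (u * t * u⁻¹) (u * (w * t * w⁻¹) * u⁻¹) (hconjsq u) ?_ ?_
      · rw [← pow_two, conj_pow, pow_two, hconjsq, mul_one, mul_inv_cancel]
      · rw [e]; group
    have h : ∑ w : G, ∑ χ, (E χ : ℂ) * (χ : G → ℂ) (w * t * w⁻¹ * t) = 0 :=
      Finset.sum_eq_zero fun w _ => hzero w
    rw [Finset.sum_comm] at h
    simp only [← Finset.mul_sum, Blocks.sum_char_conj_mul] at h
    have hG0 : (Nat.card G : ℂ) ≠ 0 := Nat.cast_ne_zero.2 Nat.card_pos.ne'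
    have h' : (Nat.card G : ℂ) * ∑ χ, (E χ : ℂ) * (v χ : ℂ) ^ 2 / (n χ : ℂ) = 0 := by
      rw [Finset.mul_sum, ← h]
      refine Finset.sum_congr rfl fun χ _ => ?_
      rw [(hn χ).2]
      by_cases hχ : E χ = 0
      · simp [hχ]
      · rw [hval χ hχ]; ring
    have h'' := (mul_eq_zero.1 h').resolve_left hG0
    have e : ((∑ χ, (E χ : ℚ) * (v χ : ℚ) ^ 2 / (n χ : ℚ) : ℚ) : ℂ) = 0 := by
      rw [← h'']
      push_cast
      rfl
    exact_mod_cast e
  · intro χ hχ
    obtain ⟨m, hm⟩ := mult_eight S h8 hconj χ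
    rw [(hn χ).2, hval χ hχ] at hm
    exact ⟨m, by exact_mod_cast hm⟩
  · intro χ hχ hne e
    refine hne (eq_one_of_apply_eq ht1 χ ?_)
    rw [hval χ hχ, (hn χ).2, ← e]
    push_cast
    rfl

end Cfsg.Agent.Lib.Inv59.EightChar
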