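import Mathlib
import Cfsg.Agent.Lib.Inv59.EightAuto

/-!
# No perfect central 2-extension for elementary abelian Sylow 2-subgroups of order 8
-/

set_option autoImplicit false
set_option linter.style.haveILetI false

namespace Cfsg.Agent.Lib.Inv59.EightCover

open scoped commutatorElement

universe u v

/-- An alternating pairing on `E8`, trivial as soon as one element lies in its radical, is trivial. -/
theorem pairing_trivial {S : Type u} [Group S] [Finite S] (h8 : Nat.card S = 8)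
    (hexp : ∀ a : S, a ^ 2 = 1) (β : S → S → ℂˣ)
    (hmul : ∀ a b c, β a (b * c) = β a b * β a c) (hself : ∀ a, β a a = 1)
    (hskew : ∀ a b, β b a = (β a b)⁻¹)
    (hrad : ∀ a₀ : S, a₀ ≠ 1 → (∀ b, β a₀ b = 1) → ∀ a b, β a b = 1) : ∀ a b, β a b = 1 := by
  classical
  let f : S → S →* ℂˣ := fun a => MonoidHom.mk' (β a) (hmul a)
  by_contra hne
  have hfull : ∀ a₀ : S, a₀ ≠ 1 → ∃ b, β a₀ b ≠ 1 := by
    intro a₀ ha₀
    by_contra hb
    push Not at hb
    exact hne (hrad a₀ ha₀ hb)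
  have hker : ∀ a : S, a ≠ 1 → Nat.card (f a).ker = 4 := by
    intro a ha
    obtain ⟨b, hb⟩ := hfull a ha
    have hidx : (f a).ker.index ≤ 2 := by
      rw [Subgroup.index_ker]
      have hsub : ((f a).range : Set ℂˣ) ⊆ {1, -1} := by
        rintro _ ⟨c, rfl⟩
        have h1 : (f a c) ^ 2 = 1 := by rw [← map_pow, hexp, map_one]
        have h2 : ((f a c : ℂˣ) : ℂ) ^ 2 = 1 := by rw [← Units.val_pow_eq_pow_val, h1, Units.val_one]
        rcases sq_eq_one_iff.1 h2 with h | h
        · exact Or.inl (Units.ext h)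
        · exact Or.inr (Units.ext (by rw [h, Units.val_neg, Units.val_one]))
      calc Nat.card (f a).range = ((f a).range : Set ℂˣ).ncard := rfl
        _ ≤ ({1, -1} : Set ℂˣ).ncard := Set.ncard_le_ncard hsub (Set.toFinite _)
        _ ≤ 2 := (Set.ncard_insert_le _ _).trans (by rw [Set.ncard_singleton])
    have hne1 : (f a).ker.index ≠ 1 := fun h => hb (by
      exact (Subgroup.index_eq_one.1 h ▸ Subgroup.mem_top b : b ∈ (f a).ker))
    have h0 : (f a).ker.index ≠ 0 := Subgroup.index_ne_zero_of_finite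
    have hmul' := (f a).ker.card_mul_index
    rw [h8, show (f a).ker.index = 2 by omega] at hmul'
    omega
  obtain ⟨a, ha⟩ : ∃ a : S, a ≠ 1 := by
    by_contra! h
    haveI : Subsingleton S := ⟨fun x y => by rw [h x, h y]⟩
    rw [Nat.card_of_subsingleton (1 : S)] at h8
    omega
  obtain ⟨b, hb⟩ := hfull a ha
  have hb1 : b ≠ 1 := fun h => hb (h ▸ map_one (f a))
  obtain ⟨x, hx, hx1⟩ : ∃ x ∈ (f a).ker ⊓ (f b).ker, x ≠ 1 := by
    by_contra! h
    have hbot : (f a).ker ⊓ (f b).ker = ⊥ := (Subgroup.eq_bot_iff_forall _).2 h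
    have h1 := Subgroup.index_inf_le (H := (f a).ker) (K := (f b).ker)
    rw [hbot, Subgroup.index_bot, h8] at h1
    have h2 := (f a).ker.card_mul_index
    have h3 := (f b).ker.card_mul_index
    rw [hker a ha, h8] at h2
    rw [hker b hb1, h8] at h3
    rw [show (f a).ker.index = 2 by omega, show (f b).ker.index = 2 by omega] at h1
    omega
  have key : ∀ c : S, c ≠ 1 → x ∈ (f c).ker → (f c).ker = (f x).ker := by
    intro c hc hxc
    by_cases hcx : c = x
    · rw [hcx]
    have hW : Nat.card ↥((f c).ker ⊓ (f x).ker) = 4 := by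
      have hd : Nat.card ↥((f c).ker ⊓ (f x).ker) ∣ 2 ^ 2 :=
        (Subgroup.card_dvd_of_le inf_le_left).trans (dvd_of_eq (hker c hc))
      have h3 : 3 ≤ Nat.card ↥((f c).ker ⊓ (f x).ker) := by
        have hs : ({1, c, x} : Set S) ⊆ ((f c).ker ⊓ (f x).ker : Subgroup S) := by
          intro z hz
          simp only [Set.mem_insert_iff, Set.mem_singleton_iff] at hz
          rcases hz with rfl | rfl | rfl
          · exact one_mem _
          · refine ⟨hself z, ?_⟩
            show β x z = 1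
            rw [hskew z x, show β z x = 1 from hxc, inv_one]
          · exact ⟨hxc, hself z⟩
        refine le_trans ?_ (Set.ncard_le_ncard hs (Set.toFinite _))
        exact le_of_eq (Set.ncard_eq_three.2 ⟨1, c, x, Ne.symm hc, Ne.symm hx1, hcx, rfl⟩).symm
      obtain ⟨i, hi, he⟩ := (Nat.dvd_prime_pow Nat.prime_two).1 hd
      interval_cases i <;> omega
    have e1 : (f c).ker ⊓ (f x).ker = (f c).ker :=
      Subgroup.eq_of_le_of_card_ge inf_le_left (by rw [hW, hker c hc])
    have e2 : (f c).ker ⊓ (f x).ker = (f x).ker :=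
      Subgroup.eq_of_le_of_card_ge inf_le_right (by rw [hW, hker x hx1])
    rw [← e1, e2]
  refine hb ?_
  have : b ∈ (f a).ker := by
    rw [key a ha hx.1, ← key b hb1 hx.2]
    exact hself b
  exact this

/-- Such groups have no perfect central extension by a 2-group. -/
theorem kernel_trivial {G : Type u} [Group G] [Finite G] [IsSimpleGroup G]
    (hG : ¬ IsMulCommutative G) (S : Sylow 2 G) (hab : IsMulCommutative (S : Subgroup G))
    (hexp : ∀ a ∈ (S : Subgroup G), a ^ 2 = 1) (h8 : Nat.card (S : Subgroup G) = 8)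
    {L : Type v} [Group L] [Finite L] (Z : Subgroup L) [Z.Normal] (hperf : commutator L = ⊤)
    (hcen : Z ≤ Subgroup.center L) (hZ : IsPGroup 2 Z) (e : L ⧸ Z ≃* G) : Z = ⊥ := by
  classical
  set π : L →* G := e.toMonoidHom.comp (QuotientGroup.mk' Z) with hπ
  have hπs : Function.Surjective π := e.surjective.comp (QuotientGroup.mk'_surjective Z)
  have hker : ∀ z : L, π z = 1 ↔ z ∈ Z := fun z =>
    (map_eq_one_iff e e.injective).trans (QuotientGroup.eq_one_iff z)
  have hzc : ∀ z ∈ Z, ∀ y : L, Commute z y := fun z hz y =>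
    (Subgroup.mem_center_iff.1 (hcen hz) y).symm
  have hcongr : ∀ a a' b : L, π a = π a' → ⁅a, b⁆ = ⁅a', b⁆ ∧ ⁅b, a⁆ = ⁅b, a'⁆ := by
    intro a a' b h
    have hz : a'⁻¹ * a ∈ Z := (hker _).1 (by rw [map_mul, map_inv, h, inv_mul_cancel])
    obtain ⟨z, hz', rfl⟩ : ∃ z ∈ Z, a = a' * z := ⟨a'⁻¹ * a, hz, by group⟩
    have hc := hzc z hz'
    constructor
    · rw [commutatorElement_def, commutatorElement_def, mul_inv_rev]
      calc a' * z * b * (z⁻¹ * a'⁻¹) * b⁻¹ = a' * (z * b * z⁻¹) * a'⁻¹ * b⁻¹ := by group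
        _ = _ := by rw [(hc b).eq, mul_inv_cancel_right]
    · rw [commutatorElement_def, commutatorElement_def, mul_inv_rev]
      calc b * (a' * z) * b⁻¹ * (z⁻¹ * a'⁻¹) = b * a' * (z * b⁻¹ * z⁻¹) * a'⁻¹ := by group
        _ = _ := by rw [(hc b⁻¹).eq, mul_inv_cancel_right]
  set σ : ↥(S : Subgroup G) → L := fun a => Function.surjInv hπs (a : G) with hσ
  have hσπ : ∀ a, π (σ a) = (a : G) := fun a => Function.surjInv_eq hπs _
  have hmemZ : ∀ a b : (S : Subgroup G), ⁅σ a, σ b⁆ ∈ Z := by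
    intro a b
    rw [← hker, map_commutatorElement, hσπ, hσπ, commutatorElement_eq_one_iff_mul_comm]
    exact congrArg Subtype.val (hab.is_comm.comm a b)
  have hall : ∀ a b : (S : Subgroup G), ⁅σ a, σ b⁆ = 1 := by
    intro a b
    by_contra hne
    letI : CommGroup Z := { (inferInstance : Group Z) with
      mul_comm := fun x y => Subtype.ext (hzc x x.2 y).eq }
    obtain ⟨χ, hχ⟩ := CommGroup.exists_apply_ne_one_of_hasEnoughRootsOfUnity Z ℂ
      (a := (⟨_, hmemZ a b⟩ : Z)) (fun h => hne (congrArg Subtype.val h))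
    let β : ↥(S : Subgroup G) → ↥(S : Subgroup G) → ℂˣ := fun x y => χ ⟨_, hmemZ x y⟩
    refine hχ (pairing_trivial h8 (fun x => Subtype.ext (hexp _ x.2)) β (fun x y z => ?_)
      (fun x => ?_) (fun x y => ?_) (fun x₀ hx₀ hrad x y => ?_) a b)
    · show χ _ = χ _ * χ _
      rw [← map_mul]
      refine congrArg χ (Subtype.ext ?_)
      show ⁅σ x, σ (y * z)⁆ = ⁅σ x, σ y⁆ * ⁅σ x, σ z⁆
      rw [(hcongr (σ (y * z)) (σ y * σ z) (σ x)
        (by rw [map_mul, hσπ, hσπ, hσπ]; rfl)).2]
      rw [commutatorElement_def, commutatorElement_def, mul_inv_rev]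
      have hc := hzc _ (hmemZ x z) (σ y)⁻¹
      rw [commutatorElement_def] at hc
      calc σ x * (σ y * σ z) * (σ x)⁻¹ * ((σ z)⁻¹ * (σ y)⁻¹)
          = σ x * σ y * (σ x)⁻¹ * (σ x * σ z * (σ x)⁻¹ * (σ z)⁻¹ * (σ y)⁻¹) := by group
        _ = σ x * σ y * (σ x)⁻¹ * ((σ y)⁻¹ * (σ x * σ z * (σ x)⁻¹ * (σ z)⁻¹)) := by rw [hc.eq]
        _ = _ := by rw [commutatorElement_def]; group
    · show χ _ = 1
      rw [← map_one χ]
      exact congrArg χ (Subtype.ext (commutatorElement_self _))
    · show χ _ = (χ _)⁻¹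
      rw [← map_inv]
      exact congrArg χ (Subtype.ext (commutatorElement_inv _ _).symm)
    · by_cases hx : x = 1
      · show χ _ = 1
        rw [← map_one χ]
        refine congrArg χ (Subtype.ext ?_)
        show ⁅σ x, σ y⁆ = 1
        rw [(hcongr (σ x) 1 (σ y) (by rw [hσπ, hx, OneMemClass.coe_one, map_one])).1,
          commutatorElement_one_left]
      have htr := EightAuto.transitive hG S hab hexp h8 x₀.2 (fun h => hx₀ (Subtype.ext h))
      have hm : (x : G) ∈ ((S : Subgroup G) : Set G) \ {1} := ⟨x.2, fun h => hx (Subtype.ext h)⟩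
      rw [← htr] at hm
      obtain ⟨n, hn, hnx⟩ := hm
      obtain ⟨m, rfl⟩ := hπs n
      set y' : (S : Subgroup G) := ⟨(π m)⁻¹ * (y : G) * π m,
        (Subgroup.mem_normalizer_iff''.1 hn (y : G)).1 y.2⟩ with hy'
      refine Eq.trans (congrArg χ (Subtype.ext ?_)) (hrad y')
      show ⁅σ x, σ y⁆ = ⁅σ x₀, σ y'⁆
      have hc := hzc _ (hmemZ x₀ y') m
      calc ⁅σ x, σ y⁆ = ⁅m * σ x₀ * m⁻¹, σ y⁆ :=
            (hcongr _ _ _ (by rw [map_mul, map_mul, map_inv, hσπ, hσπ]; exact hnx.symm)).1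
        _ = ⁅m * σ x₀ * m⁻¹, m * σ y' * m⁻¹⁆ :=
            (hcongr _ _ _ (by rw [map_mul, map_mul, map_inv, hσπ, hσπ, hy']; group)).2
        _ = m * ⁅σ x₀, σ y'⁆ * m⁻¹ := (conjugate_commutatorElement _ _ _).symm
        _ = ⁅σ x₀, σ y'⁆ := by rw [← hc.eq, mul_inv_cancel_right]
  -- the preimage of the Sylow subgroup is abelian
  set T : Subgroup L := (S : Subgroup G).comap π with hT
  have hTc : ∀ a b : T, a * b = b * a := by
    intro a b
    apply Subtype.ext
    show (a : L) * b = b * a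
    set a' : ↥(S : Subgroup G) := ⟨π (a : L), a.2⟩ with ha'
    set b' : ↥(S : Subgroup G) := ⟨π (b : L), b.2⟩ with hb'
    rw [← commutatorElement_eq_one_iff_mul_comm,
      (hcongr (a : L) (σ a') b (hσπ a').symm).1, (hcongr (b : L) (σ b') _ (hσπ b').symm).2]
    exact hall _ _
  letI : CommGroup T := { (inferInstance : Group T) with mul_comm := hTc }
  set V : L →* T := MonoidHom.transfer (MonoidHom.id T) with hV
  have hV1 : ∀ z, V z = 1 := by
    intro z
    have : commutator L ≤ V.ker := Abelianization.commutator_subset_ker V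
    rw [hperf] at this
    exact this (Subgroup.mem_top z)
  refine (Subgroup.eq_bot_iff_forall _).2 fun z hz => ?_
  have hconjz : ∀ (k : ℕ) (g₀ : L), g₀⁻¹ * z ^ k * g₀ = z ^ k := fun k g₀ => by
    rw [← ((hzc z hz g₀⁻¹).pow_left k).eq, inv_mul_cancel_right]
  have hpow : z ^ T.index = 1 := by
    have h := MonoidHom.transfer_eq_pow (MonoidHom.id T) z (fun k g₀ _ => hconjz k g₀)
    rw [← hV, hV1] at h
    exact (congrArg Subtype.val h).symm
  have hidx : T.index = (S : Subgroup G).index := Subgroup.index_comap_of_surjective _ hπs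
  obtain ⟨k, hk⟩ := hZ ⟨z, hz⟩
  have hk' : z ^ (2 ^ k) = 1 := congrArg Subtype.val hk
  have hodd : Nat.Coprime (2 ^ k) T.index := by
    rw [hidx]
    exact ((Nat.Prime.coprime_iff_not_dvd Nat.prime_two).2 S.not_dvd_index).pow_left k
  have := pow_gcd_eq_one.2 ⟨hk', hpow⟩
  rwa [Nat.coprime_iff_gcd_eq_one.1 hodd, pow_one] at this

end Cfsg.Agent.Lib.Inv59.EightCover
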