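import Mathlib

/-!
# Two commuting involutory automorphisms of a group of odd order with the same fixed points are equal
-/

set_option autoImplicit false
set_option linter.unusedSectionVars false

namespace Cfsg.Agent.Lib.Inv59.FixEq

universe u

variable {H : Type u} [Group H] [Finite H]

theorem eq_one_of_sq (hodd : Odd (Nat.card H)) {v : H} (h : v * v = 1) : v = 1 := by
  obtain ⟨k, hk⟩ := hodd
  have h1 := pow_card_eq_one' (x := v)
  rw [hk, pow_succ, pow_mul, pow_two, h, one_pow, one_mul] at h1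
  exact h1

theorem exists_sqrt (hodd : Odd (Nat.card H)) : ∃ k : ℕ, ∀ v : H, v ^ k * v ^ k = v := by
  obtain ⟨k, hk⟩ := hodd
  refine ⟨k + 1, fun v => ?_⟩
  rw [← pow_add, show k + 1 + (k + 1) = (2 * k + 1) + 1 by ring, pow_succ, ← hk, pow_card_eq_one',
    one_mul]

theorem eq_of_fixed_eq (hodd : Odd (Nat.card H)) (f g : H →* H)
    (hf : ∀ v, f (f v) = v) (hg : ∀ v, g (g v) = v) (hfg : ∀ v, f (g v) = g (f v))
    (hfix : ∀ v, f v = v ↔ g v = v) (v : H) : f v = g v := by
  obtain ⟨k, hk⟩ := exists_sqrt (H := H) hodd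
  have key : ∀ i, f i = i⁻¹ → g i = i⁻¹ := by
    intro i hi
    set m := (i⁻¹ * g i) ^ k with hm
    set c := i * m with hc
    have hw : g i = c * i⁻¹ * c := by
      rw [hc]
      calc g i = i * (m * m) := by rw [hm, hk]; group
        _ = _ := by group
    have hgm : g m = m⁻¹ := by
      rw [hm, map_pow, map_mul, map_inv, hg, ← inv_pow, mul_inv_rev, inv_inv]
    have hgc : g c = c := by
      rw [hc, map_mul, hgm]
      calc g i * m⁻¹ = i * (m * m) * m⁻¹ := by rw [hm, hk]; group
        _ = i * m := by group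
    have hfc : f c = c := (hfix c).2 hgc
    clear_value c
    have h1 : f (g i) = (g i)⁻¹ := by rw [hfg, hi, map_inv]
    rw [hw, map_mul, map_mul, map_inv, hi, hfc, inv_inv] at h1
    replace h1 : c * i * c = c⁻¹ * i * c⁻¹ := h1.trans (by group)
    -- `h1 : c * i * c = c⁻¹ * i * c⁻¹`
    have h2 : i⁻¹ * (c * c) * i = (c * c)⁻¹ := by
      calc i⁻¹ * (c * c) * i = i⁻¹ * c * (c * i * c) * c⁻¹ := by group
        _ = i⁻¹ * c * (c⁻¹ * i * c⁻¹) * c⁻¹ := by rw [h1]
        _ = _ := by group
    have h3 : Commute (i * i) (c * c) := by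
      show i * i * (c * c) = c * c * (i * i)
      have h4 : (i * i)⁻¹ * (c * c) * (i * i) = c * c := by
        calc _ = i⁻¹ * (i⁻¹ * (c * c) * i) * i := by group
          _ = i⁻¹ * (c * c)⁻¹ * i := by rw [h2]
          _ = (i⁻¹ * (c * c) * i)⁻¹ := by group
          _ = c * c := by rw [h2, inv_inv]
      calc i * i * (c * c) = i * i * ((i * i)⁻¹ * (c * c) * (i * i)) := by rw [h4]
        _ = _ := by group
    have h4 : Commute i (c * c) := by
      have := (h3.pow_left k)
      rwa [(Commute.refl i).mul_pow, hk] at this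
    have h5 : c * c = (c * c)⁻¹ := by
      rw [← h2, mul_assoc, ← h4.eq, inv_mul_cancel_left]
    have h6 : c * c = 1 := eq_one_of_sq hodd (by
      nth_rw 1 [h5]
      exact inv_mul_cancel _)
    rw [hw, eq_one_of_sq hodd h6, one_mul, mul_one]
  set m := (v⁻¹ * f v) ^ k with hm
  have hfm : f m = m⁻¹ := by
    rw [hm, map_pow, map_mul, map_inv, hf, ← inv_pow, mul_inv_rev, inv_inv]
  have hfx : f (v * m) = v * m := by
    rw [map_mul, hfm]
    calc f v * m⁻¹ = v * (m * m) * m⁻¹ := by rw [hm, hk]; group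
      _ = v * m := by group
  have hgx := (hfix _).1 hfx
  have hgm := key m hfm
  rw [map_mul, hfm] at hfx
  rw [map_mul, hgm] at hgx
  exact mul_right_cancel (hfx.trans hgx.symm)

end Cfsg.Agent.Lib.Inv59.FixEq
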