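/-
An injective homomorphism `GL₄(F₂) → A₈` (helper59): `GL₄(2)` acts on the 28 nondegenerate
alternating forms, and permutes the eight seven-element sets of forms with pairwise nondegenerate sums.
-/
import Mathlib
import Cfsg.Agent.Lib.Linear.Transvection

set_option autoImplicit false

namespace Cfsg.Agent.Lib.Inv59.GL4A8

open Matrix

local notation "M4" => Matrix (Fin 4) (Fin 4) (ZMod 2)
local notation "V6" => Fin 6 → ZMod 2
local notation "SL4" => Matrix.SpecialLinearGroup (Fin 4) (ZMod 2)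

/-- first member of the `p`-th pair -/
def fstP : Fin 6 → Fin 4 := ![0, 0, 0, 1, 1, 2]
/-- second member of the `p`-th pair -/
def sndP : Fin 6 → Fin 4 := ![1, 2, 3, 2, 3, 3]

/-- a 2 × 2 minor -/
def ent (M : M4) (p r : Fin 6) : ZMod 2 :=
  M (fstP p) (fstP r) * M (sndP p) (sndP r) - M (sndP p) (fstP r) * M (fstP p) (sndP r)

/-- the matrix of 2 × 2 minors -/
def w2 (M : M4) : Matrix (Fin 6) (Fin 6) (ZMod 2) := Matrix.of (ent M)

theorem w2_mul (M N : M4) : w2 (M * N) = w2 M * w2 N := by
  ext p r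
  simp only [w2, ent, Matrix.of_apply, Matrix.mul_apply, Fin.sum_univ_four, Fin.sum_univ_six, fstP, sndP]
  simp [Matrix.cons_val]
  ring

theorem w2_one : w2 (1 : M4) = 1 := by
  have h : ∀ p r : Fin 6, ent (1 : M4) p r = (if p = r then 1 else 0 : ZMod 2) := by decide +kernel
  ext p r
  rw [w2, Matrix.of_apply, h, Matrix.one_apply]

/-- the action on forms -/
def act (M : M4) (v : V6) : V6 := w2 M *ᵥ v

theorem act_mul (M N : M4) (v : V6) : act (M * N) v = act M (act N v) := by
  simp [act, w2_mul, Matrix.mulVec_mulVec]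

theorem act_one (v : V6) : act (1 : M4) v = v := by
  simp [act, w2_one]

/-- a form from its six bits -/
def vec (c : ℕ) : V6 := fun p => if c.testBit p then 1 else 0

/-- codes of the eight stars -/
def codes : Fin 8 → List ℕ :=
  ![[12, 26, 54, 57, 37, 43, 23], [12, 58, 22, 41, 53, 27, 39], [44, 26, 22, 49, 13, 35, 63],
    [44, 58, 54, 33, 29, 19, 15], [28, 18, 46, 57, 53, 35, 15], [28, 50, 14, 41, 37, 19, 63],
    [60, 18, 14, 49, 29, 43, 39], [60, 50, 46, 33, 13, 27, 23]]

/-- the stars -/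
def star (a : Fin 8) : List V6 := (codes a).map vec

/-- `M` maps the star `a` into the star `b` -/
def Maps (M : M4) (a b : Fin 8) : Prop := ∀ v ∈ star a, act M v ∈ star b

theorem maps_one (a : Fin 8) : Maps 1 a a := fun v hv => by rwa [act_one]

theorem maps_mul {M N : M4} {a b c : Fin 8} (h : Maps N a b) (h' : Maps M b c) : Maps (M * N) a c :=
  fun v hv => by rw [act_mul]; exact h' _ (h v hv)

theorem meet : ∀ b b' : Fin 8, b ≠ b' → ∀ v ∈ star b, ∀ w ∈ star b, v ∈ star b' → w ∈ star b' → v = w := by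
  decide +kernel

theorem two_members : ∀ a : Fin 8, ∃ c d : ℕ, vec c ∈ star a ∧ vec d ∈ star a ∧ vec c ≠ vec d := by
  intro a
  refine ⟨(codes a).getD 0 0, (codes a).getD 1 0, ?_⟩
  revert a
  decide +kernel

theorem act_injective (M : SL4) : Function.Injective (act (M : M4)) := by
  intro v w h
  have := congrArg (act ((M⁻¹ : SL4) : M4)) h
  rwa [← act_mul, ← act_mul, ← Matrix.SpecialLinearGroup.coe_mul, inv_mul_cancel,
    Matrix.SpecialLinearGroup.coe_one, act_one, act_one] at this

theorem maps_unique (M : SL4) {a b b' : Fin 8} (h : Maps (M : M4) a b) (h' : Maps (M : M4) a b') : b = b' := by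
  by_contra hne
  obtain ⟨c, d, hc, hd, hcd⟩ := two_members a
  exact hcd (act_injective M (meet b b' hne _ (h _ hc) _ (h _ hd) (h' _ hc) (h' _ hd)))

theorem gens : ∀ i j : Fin 4, i ≠ j → ∀ c : ZMod 2, ∀ a : Fin 8, ∃ b : Fin 8,
    ∀ v ∈ star a, act (1 + Matrix.single i j c) v ∈ star b := by
  decide +kernel

theorem maps_exists (M : SL4) : ∀ a : Fin 8, ∃ b : Fin 8, Maps (M : M4) a b := by
  have htop := Cfsg.Agent.Lib.Linear.closure_transvectionSet (ι := Fin 4) (F := ZMod 2)
  have hM : M ∈ Submonoid.closure (Cfsg.Agent.Lib.Linear.transvectionSet (Fin 4) (ZMod 2)) := by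
    rw [← Subgroup.closure_toSubmonoid_of_finite, htop]
    trivial
  induction hM using Submonoid.closure_induction with
  | mem x hx =>
    obtain ⟨i, j, hij, c, rfl⟩ := hx
    intro a
    obtain ⟨b, hb⟩ := gens i j hij c a
    exact ⟨b, by rw [Matrix.SpecialLinearGroup.transvection_coe]; exact hb⟩
  | one => exact fun a => ⟨a, by rw [Matrix.SpecialLinearGroup.coe_one]; exact maps_one a⟩
  | mul x y _ _ ihx ihy =>
    intro a
    obtain ⟨b, hb⟩ := ihy a
    obtain ⟨c, hc⟩ := ihx b
    exact ⟨c, by rw [Matrix.SpecialLinearGroup.coe_mul]; exact maps_mul hb hc⟩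

/-- the permutation of the stars -/
noncomputable def point (M : SL4) (a : Fin 8) : Fin 8 := (maps_exists M a).choose

theorem point_spec (M : SL4) (a : Fin 8) : Maps (M : M4) a (point M a) := (maps_exists M a).choose_spec

/-- the action of `SL₄(2)` on the eight stars -/
noncomputable def pointHom : SL4 →* Equiv.Perm (Fin 8) :=
  MonoidHom.toHomPerm
    { toFun := fun M => point M
      map_one' := funext fun a => maps_unique 1 (point_spec 1 a) (by
        rw [Matrix.SpecialLinearGroup.coe_one]; exact maps_one a)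
      map_mul' := fun M N => funext fun a => maps_unique (M * N) (point_spec (M * N) a) (by
        rw [Matrix.SpecialLinearGroup.coe_mul]
        exact maps_mul (point_spec N a) (point_spec M _)) }

theorem pointHom_apply (M : SL4) (a : Fin 8) : pointHom M a = point M a := rfl

/-- each unit form is a sum of two forms, each lying in two stars -/
theorem unit_sum : ∀ p : Fin 6, ∃ a b c d : Fin 8, ∃ x y : ℕ, a ≠ b ∧ c ≠ d ∧ vec x ∈ star a ∧
    vec x ∈ star b ∧ vec y ∈ star c ∧ vec y ∈ star d ∧ vec x + vec y = Pi.single p 1 := by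
  intro p
  refine ⟨![0, 0, 0, 0, 0, 0] p, ![1, 1, 3, 2, 1, 1] p, ![2, 5, 5, 4, 4, 2] p, ![7, 6, 7, 6, 5, 3] p,
    ![12, 12, 54, 26, 12, 12] p, ![13, 14, 50, 18, 28, 44] p, ?_⟩
  revert p
  decide +kernel

theorem minors_one {M : M4} (h : w2 M = 1) : M = 1 := by
  have hw : ∀ i j : Fin 4, ∀ k l : Fin 4, i ≠ j → k ≠ l →
      M k i * M l j - M l i * M k j = if (k = i ∧ l = j) ∨ (k = j ∧ l = i) then 1 else 0 := by
    have hp : ∀ k l : Fin 4, k ≠ l → ∃ p : Fin 6, (fstP p = k ∧ sndP p = l) ∨ (fstP p = l ∧ sndP p = k) := by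
      decide +kernel
    intro i j k l hij hkl
    obtain ⟨p, hp'⟩ := hp k l hkl
    obtain ⟨r, hr'⟩ := hp i j hij
    have h1 := congrFun (congrFun h p) r
    simp only [w2, ent, Matrix.of_apply, Matrix.one_apply] at h1
    have h2 : ∀ x : ZMod 2, -x = x := by decide
    have hiff : p = r ↔ (k = i ∧ l = j) ∨ (k = j ∧ l = i) := by
      have hpr : ∀ p r : Fin 6, (p = r ↔ (fstP p = fstP r ∧ sndP p = sndP r)) ∧
          ¬ (fstP p = sndP r ∧ sndP p = fstP r) := by decide +kernel
      obtain ⟨h3, h4⟩ := hpr p r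
      rcases hp' with ⟨rfl, rfl⟩ | ⟨rfl, rfl⟩ <;> rcases hr' with ⟨rfl, rfl⟩ | ⟨rfl, rfl⟩ <;>
        rw [h3] <;> tauto
    rw [if_congr hiff rfl rfl] at h1
    rcases hp' with ⟨rfl, rfl⟩ | ⟨rfl, rfl⟩ <;> rcases hr' with ⟨rfl, rfl⟩ | ⟨rfl, rfl⟩ <;>
      first
        | linear_combination h1
        | (refine Eq.trans (h2 _).symm (Eq.trans ?_ h1); ring)
  have hoff : ∀ k i : Fin 4, k ≠ i → M k i = 0 := by
    intro k i hki
    obtain ⟨j, hji, hjk⟩ : ∃ j : Fin 4, j ≠ i ∧ j ≠ k := by revert k i hki; decide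
    have e1 := hw i j i j hji.symm hji.symm
    have e2 := hw i j k j hji.symm hjk.symm
    have e3 := hw i j k i hji.symm hki
    simp [hki, hki.symm, hji, hji.symm, hjk, hjk.symm] at e1 e2 e3
    linear_combination (-(M k i)) * e1 + (M i i) * e2 + (-(M j i)) * e3
  have hdiag : ∀ i : Fin 4, M i i = 1 := by
    intro i
    obtain ⟨j, hji⟩ : ∃ j : Fin 4, j ≠ i := by revert i; decide
    have e := hw i j i j hji.symm hji.symm
    rw [hoff j i hji, hoff i j hji.symm, if_pos (Or.inl ⟨rfl, rfl⟩), mul_zero, sub_zero] at e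
    have : ∀ x y : ZMod 2, x * y = 1 → x = 1 := by decide
    exact this _ _ e
  ext k i
  rcases eq_or_ne k i with rfl | hki
  · rw [hdiag, Matrix.one_apply_eq]
  · rw [hoff k i hki, Matrix.one_apply_ne hki]

theorem pointHom_injective : Function.Injective pointHom := by
  rw [injective_iff_map_eq_one]
  intro M hM
  have hfix : ∀ a, Maps (M : M4) a a := fun a => by
    have := point_spec M a
    rwa [← pointHom_apply, hM, Equiv.Perm.one_apply] at this
  have hd : ∀ a b : Fin 8, a ≠ b → ∀ x : ℕ, vec x ∈ star a → vec x ∈ star b →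
      act (M : M4) (vec x) = vec x := fun a b hab x ha hb =>
    meet a b hab _ (hfix a _ ha) _ ha (hfix b _ hb) hb
  have hw : w2 (M : M4) = 1 := by
    ext p r
    obtain ⟨a, b, c, d, x, y, hab, hcd, hxa, hxb, hyc, hyd, hs⟩ := unit_sum r
    have h1 : act (M : M4) (Pi.single r 1) = Pi.single r 1 := by
      rw [← hs, act, Matrix.mulVec_add, ← act, ← act, hd a b hab x hxa hxb,
        hd c d hcd y hyc hyd]
    have h2 := congrFun h1 p
    simpa [act, Matrix.mulVec_single, Matrix.one_apply, Pi.single_apply] using h2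
  exact Subtype.ext (minors_one hw)

theorem pointHom_mem_alternating (M : SL4) : pointHom M ∈ alternatingGroup (Fin 8) := by
  have h : (⊤ : Subgroup SL4) ≤ (Equiv.Perm.sign.comp pointHom).ker := by
    rw [← Cfsg.Agent.Lib.Linear.commutator_SL_eq_top_of_three (ι := Fin 4) (F := ZMod 2) (by simp)]
    exact Abelianization.commutator_subset_ker _
  exact Equiv.Perm.mem_alternatingGroup.2 (h (Subgroup.mem_top M))

/-- every invertible matrix over `F₂` has determinant one -/
def toSL : GL (Fin 4) (ZMod 2) →* SL4 where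
  toFun g := ⟨g.1, by
    have h : ∀ x : ZMod 2, x ≠ 0 → x = 1 := by decide
    exact h _ (Matrix.GeneralLinearGroup.det_ne_zero g)⟩
  map_one' := rfl
  map_mul' _ _ := rfl

/-- `GL₄(2)` embeds in `A₈` -/
theorem exists_injective : ∃ f : GL (Fin 4) (ZMod 2) →* ↥(alternatingGroup (Fin 8)), Function.Injective f := by
  refine ⟨(pointHom.codRestrict _ pointHom_mem_alternating).comp toSL, ?_⟩
  intro g h hgh
  have h1 : pointHom (toSL g) = pointHom (toSL h) := congrArg Subtype.val hgh
  exact Units.ext (congrArg Subtype.val (pointHom_injective h1))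

end Cfsg.Agent.Lib.Inv59.GL4A8
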