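/- Conjugacy closed classes of subgroups of order `p` with the line property (helper59). -/
import Mathlib
import Cfsg.Prelude.Def_Solvable
import Cfsg.Agent.Lib.Cores.Basic
import Cfsg.Agent.Lib.Involutions.BaerSuzuki
import Cfsg.Agent.Lib.SubnormSet.Basic
import Cfsg.Agent.Lib.PGroups.ElemAb
import Cfsg.Agent.Lib.Inv59.Basic

set_option autoImplicit false

namespace Cfsg.Agent.Lib.Inv59.LineClass

variable {G : Type*} [Group G]

/-- A set of elements of order `p`: closed under conjugation and powers, commuting pairs span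
lines inside it, and each member commutes with a point of each line. -/
structure Lines (p : ℕ) (k : Set G) : Prop where
  ord : ∀ x ∈ k, orderOf x = p
  conj : ∀ x ∈ k, ∀ g : G, g * x * g⁻¹ ∈ k
  line : ∀ x ∈ k, ∀ y ∈ k, Commute x y → ∀ z ∈ Subgroup.closure ({x, y} : Set G), z ≠ 1 → z ∈ k
  meet : ∀ x ∈ k, ∀ y ∈ k, Commute x y → y ∉ Subgroup.zpowers x → ∀ w ∈ k,
    ∃ e ∈ Subgroup.closure ({x, y} : Set G), e ≠ 1 ∧ Commute e w

theorem mem_pair {x y z : G} (h : Commute x y) (hz : z ∈ Subgroup.closure ({x, y} : Set G)) :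
    ∃ a b : ℤ, z = x ^ a * y ^ b := by
  induction hz using Subgroup.closure_induction with
  | mem u hu =>
    rcases hu with rfl | rfl
    · exact ⟨1, 0, by simp⟩
    · exact ⟨0, 1, by simp⟩
  | one => exact ⟨0, 0, by simp⟩
  | mul u v _ _ hu hv =>
    obtain ⟨a, b, rfl⟩ := hu
    obtain ⟨c, d, rfl⟩ := hv
    refine ⟨a + c, b + d, ?_⟩
    rw [zpow_add, zpow_add, mul_assoc, ← mul_assoc (y ^ b), ((h.zpow_zpow c b).symm).eq]
    group
  | inv u _ hu =>
    obtain ⟨a, b, rfl⟩ := hu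
    refine ⟨-a, -b, ?_⟩
    rw [mul_inv_rev, zpow_neg, zpow_neg, ((h.zpow_zpow a b).inv_inv).eq]

theorem zpow_mem_pair (x y : G) (a b : ℤ) :
    x ^ a * y ^ b ∈ Subgroup.closure ({x, y} : Set G) :=
  Subgroup.mul_mem _ ((Subgroup.closure ({x, y} : Set G)).zpow_mem (Subgroup.subset_closure (Or.inl rfl)) a)
    ((Subgroup.closure ({x, y} : Set G)).zpow_mem (Subgroup.subset_closure (Or.inr rfl)) b)

/-- a nontrivial power of an element of prime order generates it -/
theorem exists_eq_zpow {p : ℕ} (hp : p.Prime) {x : G} (hx : orderOf x = p) {a : ℤ}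
    (ha : x ^ a ≠ 1) : ∃ c : ℤ, (x ^ a) ^ c = x := by
  have hco : IsCoprime a (p : ℤ) := by
    refine ((Nat.prime_iff_prime_int.1 hp).coprime_iff_not_dvd.2 ?_).symm
    intro hd
    exact ha (orderOf_dvd_iff_zpow_eq_one.1 (hx ▸ hd))
  obtain ⟨u, v, huv⟩ := hco
  refine ⟨u, ?_⟩
  rw [← zpow_mul]
  have h1 : a * u = 1 - (p : ℤ) * v := by linear_combination huv
  rw [h1, zpow_sub, zpow_one, zpow_mul, zpow_natCast, ← hx, pow_orderOf_eq_one, one_zpow, inv_one,
    mul_one]

theorem commute_of_zpow {p : ℕ} (hp : p.Prime) {x w : G} (hx : orderOf x = p) {a : ℤ}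
    (ha : x ^ a ≠ 1) (h : Commute (x ^ a) w) : Commute x w := by
  obtain ⟨c, hc⟩ := exists_eq_zpow hp hx ha
  exact hc ▸ h.zpow_left c

variable [Finite G] {p : ℕ} [hp : Fact p.Prime] {k : Set G}

theorem Lines.ne_one (H : Lines p k) {x : G} (hx : x ∈ k) : x ≠ 1 := fun h => by
  have := H.ord x hx
  rw [h, orderOf_one] at this
  exact hp.out.ne_one this.symm

omit [Finite G] in
theorem Lines.notMem_zpowers (H : Lines p k) {x y w : G} (hx : x ∈ k)
    (h1 : Commute w x) (h2 : ¬ Commute w y) : y ∉ Subgroup.zpowers x := by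
  intro h
  obtain ⟨a, rfl⟩ := Subgroup.mem_zpowers_iff.1 h
  exact h2 (h1.zpow_right a)

/-- the elements of order prime to `p` of `D` generate its residual -/
def res (p : ℕ) (D : Subgroup G) : Subgroup G :=
  Subgroup.closure {d : G | d ∈ D ∧ ¬ p ∣ orderOf d}

omit [Finite G] hp in
theorem res_le (D : Subgroup G) : res p D ≤ D :=
  (Subgroup.closure_le _).2 fun _ hd => hd.1

/-- `d` of order prime to `p` and `d y^j` in `C`, with `y^p = 1` central: then `d ∈ C` -/
theorem mem_of_mul_mem {C : Subgroup G} {d y : G} (hd : ¬ p ∣ orderOf d) (hy : y ^ p = 1)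
    (hc : Commute d y) {j : ℤ} (h : d * y ^ j ∈ C) : d ∈ C := by
  have h1 : d ^ p ∈ C := by
    have := C.pow_mem h p
    rwa [(hc.zpow_right j).mul_pow, ← zpow_natCast (y ^ j), ← zpow_mul, mul_comm j, zpow_mul,
      zpow_natCast, hy, one_zpow, mul_one] at this
  obtain ⟨n, hn⟩ := exists_pow_eq_self_of_coprime ((hp.out.coprime_iff_not_dvd.2 hd))
  rw [← hn]
  exact C.pow_mem h1 n

/-- a member not commuting with `y` centralises the residual of `⟨x, w⟩` -/
theorem Lines.residual (H : Lines p k) {x w y u : G} (hx : x ∈ k) (hw : w ∈ k) (hy : y ∈ k)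
    (hyx : Commute y x) (hyw : Commute y w) (hnc : ¬ Commute x w) (hu : u ∈ k)
    (huy : ¬ Commute u y) :
    ∀ d ∈ res p (Subgroup.closure ({x, w} : Set G)), Commute d u ∧ Commute d y := by
  set D := Subgroup.closure ({x, w} : Set G) with hD
  have hDy : ∀ d ∈ D, Commute d y := by
    intro d hd
    induction hd using Subgroup.closure_induction with
    | mem z hz =>
      rcases hz with rfl | rfl
      · exact hyx.symm
      · exact hyw.symm
    | one => exact Commute.one_left y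
    | mul a b _ _ ha hb => exact ha.mul_left hb
    | inv a _ ha => exact ha.inv_left
  set C := Subgroup.centralizer ({u} : Set G) with hC
  -- each of `x`, `w` is in `C` up to a power of `y`
  have hgen : ∀ z ∈ k, Commute y z → y ∉ Subgroup.zpowers z → ∃ j : ℤ, z * y ^ j ∈ C := by
    intro z hz hyz hne
    obtain ⟨e, he, he1, hec⟩ := H.meet z hz y hy hyz.symm hne u hu
    obtain ⟨a, b, rfl⟩ := mem_pair hyz.symm he
    have hza : z ^ a ≠ 1 := by
      intro h0
      rw [h0, one_mul] at he1 hec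
      exact huy (commute_of_zpow hp.out (H.ord y hy) he1 hec).symm
    obtain ⟨c, hc⟩ := exists_eq_zpow hp.out (H.ord z hz) hza
    refine ⟨b * c, ?_⟩
    rw [Subgroup.mem_centralizer_singleton_iff]
    have h1 := hec.zpow_left c
    rw [((hyz.symm.zpow_zpow a b)).mul_zpow, hc, ← zpow_mul] at h1
    exact h1.eq
  have hny : ∀ z ∈ k, ∀ z' : G, ¬ Commute z z' → Commute y z' → y ∉ Subgroup.zpowers z := by
    intro z hz z' hzz hyz hmem
    obtain ⟨a, ha⟩ := Subgroup.mem_zpowers_iff.1 hmem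
    refine hzz (commute_of_zpow hp.out (H.ord z hz) (a := a) ?_ (ha ▸ hyz))
    rw [ha]; exact H.ne_one hy
  obtain ⟨i, hi⟩ := hgen x hx hyx (hny x hx w hnc hyw)
  obtain ⟨j, hj⟩ := hgen w hw hyw (hny w hw x (fun h => hnc h.symm) hyx)
  have hall : ∀ d ∈ D, ∃ j : ℤ, d * y ^ j ∈ C := by
    intro d hd
    induction hd using Subgroup.closure_induction with
    | mem z hz =>
      rcases hz with rfl | rfl
      · exact ⟨i, hi⟩
      · exact ⟨j, hj⟩
    | one => exact ⟨0, by simp⟩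
    | mul a b _ hb ha hb' =>
      obtain ⟨i, hi⟩ := ha
      obtain ⟨j, hj⟩ := hb'
      refine ⟨i + j, ?_⟩
      have e : a * b * y ^ (i + j) = (a * y ^ i) * (b * y ^ j) := by
        rw [zpow_add, mul_assoc a b, ← mul_assoc b, ((hDy b hb).zpow_right i).eq]; group
      rw [e]
      exact C.mul_mem hi hj
    | inv a ha h =>
      obtain ⟨i, hi⟩ := h
      refine ⟨-i, ?_⟩
      have e : a⁻¹ * y ^ (-i) = (a * y ^ i)⁻¹ := by
        rw [mul_inv_rev, zpow_neg, ((hDy a ha).zpow_right i).inv_inv.eq]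
      rw [e]
      exact C.inv_mem hi
  intro d hd
  refine ⟨?_, hDy d (res_le D hd)⟩
  have hle : res p D ≤ C := by
    rw [res, Subgroup.closure_le]
    rintro d ⟨hd, hd'⟩
    obtain ⟨j, hj⟩ := hall d hd
    exact mem_of_mul_mem hd' (by rw [← H.ord y hy, pow_orderOf_eq_one]) (hDy d hd) hj
  exact Subgroup.mem_centralizer_singleton_iff.1 (hle hd)

theorem normal_res_subgroupOf (D : Subgroup G) : ((res p D).subgroupOf D).Normal := by
  constructor
  intro l hl g
  rw [Subgroup.mem_subgroupOf] at hl ⊢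
  have key : ∀ e ∈ res p D, (g : G) * e * (g : G)⁻¹ ∈ res p D := by
    intro e he
    induction he using Subgroup.closure_induction with
    | mem d hd =>
      refine Subgroup.subset_closure ⟨D.mul_mem (D.mul_mem g.2 hd.1) (D.inv_mem g.2), ?_⟩
      rw [Cfsg.Agent.Lib.Involutions.Basic.orderOf_conj_eq]
      exact hd.2
    | one => simp
    | mul a b _ _ ha hb => simpa [mul_assoc] using mul_mem ha hb
    | inv a _ ha => simpa [mul_assoc] using inv_mem ha
  exact key _ hl

/-- a member of `k` with a conjugate generating a non-`p`-group, outside the `p`-core -/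
theorem Lines.exists_partner (H : Lines p k) {x : G} (hx : x ∈ k) (hO : x ∉ Cfsg.pCore p G) :
    ∃ w ∈ k, ¬ Commute x w ∧
      ∀ hxD : x ∈ Subgroup.closure ({x, w} : Set G),
        (⟨x, hxD⟩ : ↥(Subgroup.closure ({x, w} : Set G))) ∉
          Cfsg.pCore p ↥(Subgroup.closure ({x, w} : Set G)) := by
  classical
  have hxp : IsPGroup p ↥(Subgroup.zpowers x) :=
    IsPGroup.of_card (n := 1) (by rw [Nat.card_zpowers, H.ord x hx, pow_one])
  obtain ⟨g, hg⟩ : ∃ g : G, ¬ IsPGroup p ↥(Subgroup.closure ({x, g * x * g⁻¹} : Set G)) := by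
    by_contra hcon
    push Not at hcon
    obtain ⟨N, hN1, hN2, hN3⟩ := Cfsg.Agent.Lib.Involutions.BaerSuzuki.baer_suzuki_elem hxp hcon
    haveI := hN1
    exact hO (Cfsg.Agent.Lib.Cores.le_pCore hN2 hN3)
  have hncomm : ∀ g : G, ¬ IsPGroup p ↥(Subgroup.closure ({x, g * x * g⁻¹} : Set G)) →
      ¬ Commute x (g * x * g⁻¹) := by
    intro g hg hc
    apply hg
    apply Cfsg.Agent.Lib.PGroups.elemAb_isPGroup
    apply Cfsg.Agent.Lib.PGroups.elemAb_closure
    · rintro a (rfl | rfl) b (rfl | rfl)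
      exacts [rfl, hc.eq, hc.eq.symm, rfl]
    · rintro a (rfl | rfl)
      · rw [← H.ord _ hx, pow_orderOf_eq_one]
      · rw [← H.ord _ (H.conj x hx g), pow_orderOf_eq_one]
  by_cases h1 : ∀ hxD : x ∈ Subgroup.closure ({x, g * x * g⁻¹} : Set G),
      (⟨x, hxD⟩ : ↥(Subgroup.closure ({x, g * x * g⁻¹} : Set G))) ∉
          Cfsg.pCore p ↥(Subgroup.closure ({x, g * x * g⁻¹} : Set G))
  · exact ⟨_, H.conj x hx g, hncomm g hg, h1⟩
  push Not at h1
  obtain ⟨hxD, hxD'⟩ := h1
  -- conjugate back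
  set D := Subgroup.closure ({x, g * x * g⁻¹} : Set G) with hD
  set D' := Subgroup.closure ({x, g⁻¹ * x * g⁻¹⁻¹} : Set G) with hD'
  have hmap : D'.map (MulAut.conj g).toMonoidHom = D := by
    rw [hD', MonoidHom.map_closure, hD, Set.image_pair]
    congr 1
    rw [Set.pair_comm]
    congr 1
    · simp [mul_assoc]
  have hg' : ¬ IsPGroup p ↥D' := fun h => hg (hmap ▸ h.map _)
  refine ⟨_, H.conj x hx g⁻¹, hncomm g⁻¹ hg', fun hxD2 hcore => hg ?_⟩
  let e : ↥D' ≃* ↥D :=
    (D'.equivMapOfInjective _ (MulAut.conj g).injective).trans (MulEquiv.subgroupCongr hmap)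
  have h2 := Cfsg.Agent.Lib.Cores.map_pCore_equiv (p := p) e
  have hw : (⟨g * x * g⁻¹, Subgroup.subset_closure (Or.inr rfl)⟩ : ↥D) ∈ Cfsg.pCore p ↥D := by
    rw [← h2]
    exact ⟨_, hcore, Subtype.ext rfl⟩
  have htop : Cfsg.pCore p ↥D = ⊤ := by
    rw [eq_top_iff]
    rintro ⟨d, hd⟩ -
    have : D ≤ (Cfsg.pCore p ↥D).map D.subtype := by
      conv_lhs => rw [hD]
      rw [Subgroup.closure_le]
      rintro z (rfl | rfl)
      · exact ⟨_, hxD', rfl⟩
      · exact ⟨_, hw, rfl⟩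
    obtain ⟨d', hd', hdd⟩ := this hd
    exact (Subtype.ext hdd : d' = ⟨d, hd⟩) ▸ hd'
  exact Cfsg.Agent.Lib.Cores.pCore_eq_top_iff.1 htop

/-- the second commutator of `x` with its residual conjugates is not central -/
theorem Lines.exists_noncentral (H : Lines p k) {x w : G} (hx : x ∈ k)
    (hO : ∀ hxD : x ∈ Subgroup.closure ({x, w} : Set G),
        (⟨x, hxD⟩ : ↥(Subgroup.closure ({x, w} : Set G))) ∉
          Cfsg.pCore p ↥(Subgroup.closure ({x, w} : Set G)))
    {Z : Set G} (hZ : ∀ c ∈ Z, Commute c x ∧ ∀ l ∈ res p (Subgroup.closure ({x, w} : Set G)), Commute c l) :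
    ∃ l ∈ res p (Subgroup.closure ({x, w} : Set G)),
      x * (l * x * l⁻¹) * x⁻¹ * (l * x * l⁻¹)⁻¹ ∉ Z := by
  classical
  by_contra hcon
  push Not at hcon
  set D := Subgroup.closure ({x, w} : Set G) with hD
  set L := res p D with hL
  have hxD : x ∈ D := Subgroup.subset_closure (Or.inl rfl)
  apply hO hxD
  haveI hLn : (L.subgroupOf D).Normal := normal_res_subgroupOf D
  set x' : ↥D := ⟨x, hxD⟩ with hx'
  set L' : Subgroup ↥D := L.subgroupOf D with hL'
  set M : Subgroup ↥D := L' ⊔ Subgroup.zpowers x' with hM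
  have hxM : x' ∈ M := le_sup_right (a := L') (Subgroup.mem_zpowers _)
  -- `D / L` is a `p`-group, so `M` is subnormal
  have hquot : IsPGroup p (↥D ⧸ L') := by
    intro a
    obtain ⟨d, rfl⟩ := QuotientGroup.mk_surjective a
    obtain ⟨e, m, hm, he⟩ := Nat.exists_eq_pow_mul_and_not_dvd
      (orderOf_pos (d : G)).ne' p hp.out.ne_one
    refine ⟨e, ?_⟩
    rw [← QuotientGroup.mk_pow, QuotientGroup.eq_one_iff, hL', Subgroup.mem_subgroupOf]
    refine Subgroup.subset_closure ⟨(d ^ p ^ e).2, ?_⟩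
    rw [Subgroup.coe_pow, orderOf_pow_of_dvd (pow_ne_zero _ hp.out.ne_zero) ⟨m, he⟩, he,
      Nat.mul_div_cancel_left _ (pow_pos hp.out.pos e)]
    exact hm
  haveI : Group.IsNilpotent (↥D ⧸ L') := hquot.isNilpotent
  have hsub : M.IsSubnormal := by
    have h1 := (Cfsg.Agent.Lib.SubnormSet.isSubnormal_of_isNilpotent
      (M.map (QuotientGroup.mk' L'))).comap (QuotientGroup.mk' L')
    rwa [Subgroup.comap_map_eq, QuotientGroup.ker_mk', sup_eq_left.2 (le_sup_left : L' ≤ M)] at h1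
  -- the conjugates of `x` commute modulo the centre of `M`
  set Zc : Subgroup ↥D := M ⊓ Subgroup.centralizer (M : Set ↥D) with hZc
  have hxx : ∀ l ∈ L', ⟨x, hxD⟩ * (l * x' * l⁻¹) * x'⁻¹ * (l * x' * l⁻¹)⁻¹ ∈ Zc := by
    intro l hl
    have hlM : l ∈ M := le_sup_left (b := Subgroup.zpowers x') hl
    refine ⟨M.mul_mem (M.mul_mem (M.mul_mem hxM (M.mul_mem (M.mul_mem hlM hxM) (M.inv_mem hlM))) (M.inv_mem hxM))
      (M.inv_mem (M.mul_mem (M.mul_mem hlM hxM) (M.inv_mem hlM))), ?_⟩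
    obtain ⟨h1, h2⟩ := hZ _ (hcon (l : G) hl)
    show _ ∈ Subgroup.centralizer _
    have hle : M ≤ Subgroup.centralizer
        ({x' * (l * x' * l⁻¹) * x'⁻¹ * (l * x' * l⁻¹)⁻¹} : Set ↥D) := by
      refine sup_le (fun e he => ?_) (Subgroup.zpowers_le.2 ?_)
      · exact Subgroup.mem_centralizer_singleton_iff.2 (Subtype.ext (h2 e he).symm.eq)
      · exact Subgroup.mem_centralizer_singleton_iff.2 (Subtype.ext h1.symm.eq)
    rw [Subgroup.mem_centralizer_iff]
    intro e he
    exact Subgroup.mem_centralizer_singleton_iff.1 (hle he)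
  -- work in `M`
  let xM : ↥M := ⟨x', hxM⟩
  set N : Subgroup ↥M := Subgroup.normalClosure {xM} with hN
  have hcentM : ∀ c : ↥M, (c : ↥D) ∈ Zc → c ∈ Subgroup.center ↥M := fun c hc =>
    Subgroup.mem_center_iff.2 fun e => Subtype.ext (Subgroup.mem_centralizer_iff.1 hc.2 e e.2)
  set π := QuotientGroup.mk' (Subgroup.center ↥M) with hπ
  have hMgen : ∀ m : ↥M, ∃ (l : ↥D) (i : ℤ), l ∈ L' ∧ (m : ↥D) = l * x' ^ i := by
    rintro ⟨m, hm⟩
    obtain ⟨l, hl, z, hz, rfl⟩ := (Subgroup.mem_sup_of_normal_left).1 hm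
    obtain ⟨i, rfl⟩ := Subgroup.mem_zpowers_iff.1 hz
    exact ⟨l, i, hl, rfl⟩
  have hconj : ∀ m : ↥M, Commute (π xM) (π (m * xM * m⁻¹)) := by
    intro m
    obtain ⟨l, i, hl, hm⟩ := hMgen m
    have e : ((m * xM * m⁻¹ : ↥M) : ↥D) = l * x' * l⁻¹ := by
      simp only [Subgroup.coe_mul, Subgroup.coe_inv, hm, xM]
      group
    have hc : (xM * (m * xM * m⁻¹) * xM⁻¹ * (m * xM * m⁻¹)⁻¹) ∈ Subgroup.center ↥M := by
      refine hcentM _ ?_
      simp only [Subgroup.coe_mul, Subgroup.coe_inv] at e ⊢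
      rw [e]
      exact hxx l hl
    have h3 : π (xM * (m * xM * m⁻¹) * xM⁻¹ * (m * xM * m⁻¹)⁻¹) = 1 :=
      (QuotientGroup.eq_one_iff _).2 hc
    simp only [map_mul, map_inv] at h3 ⊢
    exact (mul_inv_eq_one.1 h3 |> mul_inv_eq_iff_eq_mul.1)
  have habel : ∀ a ∈ Group.conjugatesOfSet ({xM} : Set ↥M), ∀ b ∈ Group.conjugatesOfSet ({xM} : Set ↥M),
      π a * π b = π b * π a := by
    intro a ha b hb
    obtain ⟨c, hc, hca⟩ := Group.mem_conjugatesOfSet_iff.1 ha
    obtain ⟨d, hd, hdb⟩ := Group.mem_conjugatesOfSet_iff.1 hb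
    rw [Set.mem_singleton_iff] at hc hd
    subst hc hd
    obtain ⟨m, rfl⟩ := isConj_iff.1 hca
    obtain ⟨n, rfl⟩ := isConj_iff.1 hdb
    have h := (hconj (m⁻¹ * n)).map (MulAut.conj (π m)).toMonoidHom
    have e : MulAut.conj (π m) (π (m⁻¹ * n * xM * (m⁻¹ * n)⁻¹)) = π (n * xM * n⁻¹) := by
      simp [map_mul, map_inv, mul_assoc]
    have e' : MulAut.conj (π m) (π xM) = π (m * xM * m⁻¹) := by simp [map_mul, map_inv]
    rw [MulEquiv.coe_toMonoidHom, e, e'] at h
    exact h.eq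
  have hxp : ∀ a ∈ Group.conjugatesOfSet ({xM} : Set ↥M), a ^ p = 1 := by
    intro a ha
    obtain ⟨c, hc, hca⟩ := Group.mem_conjugatesOfSet_iff.1 ha
    rw [Set.mem_singleton_iff] at hc
    subst hc
    obtain ⟨m, rfl⟩ := isConj_iff.1 hca
    rw [conj_pow]
    have : xM ^ p = 1 := Subtype.ext (Subtype.ext (by
      show x ^ p = 1
      rw [← H.ord x hx, pow_orderOf_eq_one]))
    simp [this]
  have hNimg : IsPGroup p ↥(N.map π) := by
    rw [hN, Subgroup.normalClosure, MonoidHom.map_closure]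
    apply Cfsg.Agent.Lib.PGroups.elemAb_isPGroup
    apply Cfsg.Agent.Lib.PGroups.elemAb_closure
    · rintro _ ⟨a, ha, rfl⟩ _ ⟨b, hb, rfl⟩
      exact habel a ha b hb
    · rintro _ ⟨a, ha, rfl⟩
      rw [← map_pow, hxp a ha, map_one]
  -- `N` is nilpotent and generated by `p`-elements
  haveI : Group.IsNilpotent ↥N := by
    haveI : Group.IsNilpotent ↥(N.map π) := hNimg.isNilpotent
    refine isNilpotent_of_ker_le_center (π.subgroupMap N) ?_
    intro c hc
    rw [MonoidHom.mem_ker] at hc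
    have hc' : (c : ↥M) ∈ Subgroup.center ↥M := by
      have := congrArg Subtype.val hc
      exact (QuotientGroup.eq_one_iff _).1 this
    exact Subgroup.mem_center_iff.2 fun e => Subtype.ext (Subgroup.mem_center_iff.1 hc' e)
  have hNp : IsPGroup p ↥N := by
    obtain ⟨P⟩ := (inferInstance : Nonempty (Sylow p ↥N))
    have hPn : (P : Subgroup ↥N).Normal := Sylow.normal_of_normalizerCondition
      normalizerCondition_of_isNilpotent P
    haveI := hPn
    haveI : Unique (Sylow p ↥N) := Sylow.unique_of_normal P hPn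
    have htop : (P : Subgroup ↥N) = ⊤ := by
      rw [eq_top_iff, ← Subgroup.map_le_map_iff_of_injective N.subtype_injective,
        ← MonoidHom.range_eq_map, Subgroup.range_subtype]
      conv_lhs => rw [hN, Subgroup.normalClosure]
      rw [Subgroup.closure_le]
      intro a ha
      have haN : a ∈ N := Subgroup.subset_closure ha
      have hp' : IsPGroup p ↥(Subgroup.zpowers (⟨a, haN⟩ : ↥N)) := by
        apply Cfsg.Agent.Lib.PGroups.elemAb_isPGroup
        apply Cfsg.Agent.Lib.PGroups.elemAb_zpowers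
        exact Subtype.ext (hxp a ha)
      obtain ⟨Q, hQ⟩ := hp'.exists_le_sylow
      rw [Subsingleton.elim Q P] at hQ
      exact ⟨_, hQ (Subgroup.mem_zpowers _), rfl⟩
    exact (htop ▸ P.isPGroup').of_equiv Subgroup.topEquiv
  have hle : N ≤ Cfsg.pCore p ↥M := Cfsg.Agent.Lib.Cores.le_pCore hNp
  refine Cfsg.Agent.Lib.Cores.IsSubnormal.le_pCore ?_ (p := p)
    (H := (Cfsg.pCore p ↥M).map M.subtype) ((Cfsg.Agent.Lib.Cores.pCore_isPGroup p).map _) ?_
  · exact Subgroup.IsSubnormal.trans' (Subgroup.Normal.isSubnormal inferInstance) hsub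
  · exact ⟨xM, hle (Subgroup.subset_normalClosure (Set.mem_singleton _)), rfl⟩

/-- some member lies in the `p`-core -/
theorem Lines.exists_mem_pCore (H : Lines p k)
    (hex : ∃ x ∈ k, ∃ y ∈ k, Commute x y ∧ y ∉ Subgroup.zpowers x) :
    ∃ x ∈ k, x ∈ Cfsg.pCore p G := by
  by_contra hcon
  push Not at hcon
  obtain ⟨x, hx, x₁, hx₁, hxx₁, hind⟩ := hex
  obtain ⟨w, hw, hnc, hxO⟩ := H.exists_partner hx (hcon x hx)
  obtain ⟨y, hy, hy1, hyw⟩ := H.meet x hx x₁ hx₁ hxx₁ hind w hw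
  have hyk : y ∈ k := H.line x hx x₁ hx₁ hxx₁ y hy hy1
  have hyx : Commute y x := by
    obtain ⟨a, b, rfl⟩ := mem_pair hxx₁ hy
    exact ((Commute.refl x).zpow_left a).mul_left (hxx₁.symm.zpow_left b)
  have hny : y ∉ Subgroup.zpowers x := fun h => by
    obtain ⟨a, rfl⟩ := Subgroup.mem_zpowers_iff.1 h
    exact hnc (commute_of_zpow hp.out (H.ord x hx) hy1 hyw)
  obtain ⟨v, hv, hnc', hyO⟩ := H.exists_partner hyk (hcon y hyk)
  obtain ⟨z, hz, hz1, hzv⟩ := H.meet x hx y hyk hyx.symm hny v hv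
  have hzk : z ∈ k := H.line x hx y hyk hyx.symm z hz hz1
  obtain ⟨a, b, hzab⟩ := mem_pair hyx.symm hz
  have hzy : Commute z y := by
    rw [hzab]; exact (hyx.symm.zpow_left a).mul_left ((Commute.refl y).zpow_left b)
  have hxa : x ^ a ≠ 1 := by
    intro h0
    rw [h0, one_mul] at hzab
    rw [hzab] at hzv hz1
    exact hnc' (commute_of_zpow hp.out (H.ord y hyk) hz1 hzv)
  set L := res p (Subgroup.closure ({x, w} : Set G)) with hL
  set M := res p (Subgroup.closure ({y, v} : Set G)) with hM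
  have hv' := H.residual hx hw hyk hyx hyw hnc hv (fun h => hnc' h.symm)
  have hLy : ∀ l ∈ L, Commute l y := fun l hl => (hv' l hl).2
  have hLv : ∀ l ∈ L, Commute l v := fun l hl => (hv' l hl).1
  have hLM : ∀ l ∈ L, ∀ m ∈ M, Commute l m := by
    intro l hl m hm
    have : M ≤ Subgroup.centralizer ({l} : Set G) := (res_le _).trans ((Subgroup.closure_le _).2 (by
      rintro t (rfl | rfl)
      · exact Subgroup.mem_centralizer_singleton_iff.2 (hLy l hl).symm.eq
      · exact Subgroup.mem_centralizer_singleton_iff.2 (hLv l hl).symm.eq))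
    exact (Subgroup.mem_centralizer_singleton_iff.1 (this hm)).symm
  have hMz : ∀ m ∈ M, Commute m z := by
    intro m hm
    have : M ≤ Subgroup.centralizer ({z} : Set G) := (res_le _).trans ((Subgroup.closure_le _).2 (by
      rintro t (rfl | rfl)
      · exact Subgroup.mem_centralizer_singleton_iff.2 hzy.symm.eq
      · exact Subgroup.mem_centralizer_singleton_iff.2 hzv.symm.eq))
    exact Subgroup.mem_centralizer_singleton_iff.1 (this hm)
  -- elements of `Q = L ∩ M` are central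
  have hQ : ∀ c ∈ L ⊓ M, Commute c x ∧ Commute c y ∧ Commute c z ∧
      (∀ l ∈ L, Commute c l) ∧ (∀ m ∈ M, Commute c m) := by
    intro c hc
    refine ⟨?_, hLy c hc.1, hMz c hc.2, fun l hl => (hLM l hl c hc.2).symm,
      fun m hm => hLM c hc.1 m hm⟩
    have h1 : Commute c (x ^ a) := by
      have : x ^ a = z * (y ^ b)⁻¹ := by rw [hzab, mul_inv_cancel_right]
      rw [this]
      exact (hMz c hc.2).mul_right ((hLy c hc.1).zpow_right b).inv_right
    exact (commute_of_zpow hp.out (H.ord x hx) hxa h1.symm).symm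
  obtain ⟨l, hl, hl'⟩ := H.exists_noncentral hx hxO (Z := ((L ⊓ M : Subgroup G) : Set G))
    (fun c hc => ⟨(hQ c hc).1, (hQ c hc).2.2.2.1⟩)
  obtain ⟨m, hm, hm'⟩ := H.exists_noncentral hyk hyO (Z := ((L ⊓ M : Subgroup G) : Set G))
    (fun c hc => ⟨(hQ c hc).2.1, (hQ c hc).2.2.2.2⟩)
  -- `r = y z`
  have hzy' : y ∉ Subgroup.zpowers z := by
    intro h
    obtain ⟨i, hi⟩ := Subgroup.mem_zpowers_iff.1 h
    exact hnc' (hi ▸ hzv.zpow_left i)
  have hr1 : y * z ≠ 1 := by
    intro h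
    apply hzy'
    rw [eq_inv_of_mul_eq_one_left h]
    exact inv_mem (Subgroup.mem_zpowers z)
  have hrk : y * z ∈ k := H.line y hyk z hzk hzy.symm _
    (mul_mem (Subgroup.subset_closure (Or.inl rfl)) (Subgroup.subset_closure (Or.inr rfl))) hr1
  set A := m * y * m⁻¹ with hA
  set B := l * z * l⁻¹ with hB
  have hf : (l * m) * (y * z) * (l * m)⁻¹ = A * B := by
    have h1 : (l * m) * y * (l * m)⁻¹ = A := by
      have : Commute l (m * y * m⁻¹) :=
        ((hLM l hl m hm).mul_right (hLy l hl)).mul_right (hLM l hl m hm).inv_right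
      calc (l * m) * y * (l * m)⁻¹ = l * (m * y * m⁻¹) * l⁻¹ := by group
        _ = _ := by rw [this.eq, mul_inv_cancel_right]
    have h2 : (l * m) * z * (l * m)⁻¹ = B := by
      calc (l * m) * z * (l * m)⁻¹ = l * (m * z * m⁻¹) * l⁻¹ := by group
        _ = _ := by rw [(hMz m hm).eq, mul_inv_cancel_right]
    calc (l * m) * (y * z) * (l * m)⁻¹
        = ((l * m) * y * (l * m)⁻¹) * ((l * m) * z * (l * m)⁻¹) := by group
      _ = A * B := by rw [h1, h2]
  obtain ⟨e, he, he1, hec⟩ := H.meet z hzk y hyk hzy hzy' _ (H.conj _ hrk (l * m))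
  rw [hf] at hec
  obtain ⟨i, j, rfl⟩ := mem_pair hzy he
  have hyB : Commute y B :=
    ((hLy l hl).symm.mul_right hzy.symm).mul_right (hLy l hl).symm.inv_right
  have hzA : Commute z A :=
    ((hMz m hm).symm.mul_right hzy).mul_right (hMz m hm).symm.inv_right
  -- the two commutators
  have hLconj : ∀ t : G, t ∈ Subgroup.closure ({x, y} : Set G) → ∀ l ∈ L, t * l * t⁻¹ ∈ L := by
    intro t ht l hl
    obtain ⟨i, j, rfl⟩ := mem_pair hyx.symm ht
    have e : x ^ i * y ^ j * l * (x ^ i * y ^ j)⁻¹ = x ^ i * l * (x ^ i)⁻¹ := by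
      calc x ^ i * y ^ j * l * (x ^ i * y ^ j)⁻¹ = x ^ i * (y ^ j * l * (y ^ j)⁻¹) * (x ^ i)⁻¹ := by group
        _ = _ := by rw [((hLy l hl).symm.zpow_left j).eq, mul_inv_cancel_right]
    rw [e]
    have hxi : x ^ i ∈ Subgroup.closure ({x, w} : Set G) :=
      (Subgroup.closure ({x, w} : Set G)).zpow_mem (Subgroup.subset_closure (Or.inl rfl)) i
    exact (normal_res_subgroupOf (p := p) (Subgroup.closure ({x, w} : Set G))).conj_mem
      ⟨l, res_le _ hl⟩ hl ⟨_, hxi⟩
  have hMconj : ∀ (j : ℤ), ∀ m ∈ M, y ^ j * m * (y ^ j)⁻¹ ∈ M := by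
    intro j m hm
    exact (normal_res_subgroupOf (p := p) (Subgroup.closure ({y, v} : Set G))).conj_mem
      ⟨m, res_le _ hm⟩ hm ⟨_, (Subgroup.closure ({y, v} : Set G)).zpow_mem (Subgroup.subset_closure (Or.inl rfl)) j⟩
  have hzmem : ∀ i : ℤ, z ^ i ∈ Subgroup.closure ({x, y} : Set G) := fun i => zpow_mem hz i
  set P := z ^ i * B * (z ^ i)⁻¹ * B⁻¹ with hP
  set Q := y ^ j * A * (y ^ j)⁻¹ * A⁻¹ with hQdef
  have hPL : P ∈ L := by
    have e : P = (z ^ i * l * (z ^ i)⁻¹) * (z * ((z ^ i) * l⁻¹ * (z ^ i)⁻¹) * z⁻¹) * (z * l * z⁻¹) * l⁻¹ := by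
      simp only [hP, hB]; group
    rw [e]
    exact mul_mem (mul_mem (mul_mem (hLconj _ (hzmem i) l hl)
      (hLconj z hz _ (hLconj _ (hzmem i) _ (inv_mem hl)))) (hLconj z hz l hl)) (inv_mem hl)
  have hQM : Q ∈ M := by
    have hy1' : ∀ m ∈ M, y * m * y⁻¹ ∈ M := fun m hm => by simpa using hMconj 1 m hm
    have e : Q = (y ^ j * m * (y ^ j)⁻¹) * (y * ((y ^ j) * m⁻¹ * (y ^ j)⁻¹) * y⁻¹) * (y * m * y⁻¹) * m⁻¹ := by
      simp only [hQdef, hA]; group
    rw [e]
    exact mul_mem (mul_mem (mul_mem (hMconj _ m hm)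
      (hy1' _ (hMconj _ _ (inv_mem hm)))) (hy1' m hm)) (inv_mem hm)
  have hPQ : Q * (A * P * A⁻¹) = 1 := by
    have h1 : (z ^ i * y ^ j) * (A * B) * (z ^ i * y ^ j)⁻¹ * (A * B)⁻¹ = 1 := by
      rw [hec.eq, mul_inv_cancel_right, mul_inv_cancel]
    rw [← h1, ((hzy.zpow_zpow i j)).eq]
    have e1 : z ^ i * A * (z ^ i)⁻¹ = A := by rw [(hzA.zpow_left i).eq, mul_inv_cancel_right]
    have e2 : y ^ j * (z ^ i * B * (z ^ i)⁻¹) * (y ^ j)⁻¹ = z ^ i * B * (z ^ i)⁻¹ := by
      have : Commute (y ^ j) (z ^ i * B * (z ^ i)⁻¹) :=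
        (((hzy.zpow_zpow i j).symm.mul_right (hyB.zpow_left j))).mul_right
          (hzy.zpow_zpow i j).symm.inv_right
      rw [this.eq, mul_inv_cancel_right]
    symm
    calc y ^ j * z ^ i * (A * B) * (y ^ j * z ^ i)⁻¹ * (A * B)⁻¹
        = (y ^ j * (z ^ i * A * (z ^ i)⁻¹) * (y ^ j)⁻¹) *
            (y ^ j * (z ^ i * B * (z ^ i)⁻¹) * (y ^ j)⁻¹) * (B⁻¹ * A⁻¹) := by group
      _ = Q * (A * P * A⁻¹) := by rw [e1, e2, hQdef, hP]; group
  have hAP : A * P * A⁻¹ = P := by
    have : Commute A P := ((hLM P hPL m hm).symm.mul_left (hLy P hPL).symm).mul_left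
      (hLM P hPL m hm).symm.inv_left
    rw [this.eq, mul_inv_cancel_right]
  rw [hAP] at hPQ
  have hQeq : Q = P⁻¹ := eq_inv_of_mul_eq_one_left hPQ
  have hPQ' : P ∈ L ⊓ M ∧ Q ∈ L ⊓ M :=
    ⟨⟨hPL, inv_inv P ▸ M.inv_mem (hQeq ▸ hQM)⟩, ⟨hQeq ▸ L.inv_mem hPL, hQM⟩⟩
  -- powers
  have hpow : ∀ (s u : G) (n : ℕ), s * u * s⁻¹ * u⁻¹ ∈ L ⊓ M →
      (∀ c ∈ L ⊓ M, Commute c s) → s ^ n * u * (s ^ n)⁻¹ * u⁻¹ ∈ L ⊓ M := by
    intro s u n h hs
    induction n with
    | zero => simp
    | succ n ih =>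
      have e : s ^ (n + 1) * u * (s ^ (n + 1))⁻¹ * u⁻¹ =
          (s * (s ^ n * u * (s ^ n)⁻¹ * u⁻¹) * s⁻¹) * (s * u * s⁻¹ * u⁻¹) := by
        rw [pow_succ']; group
      rw [e, ((hs _ ih).symm).eq, mul_inv_cancel_right]
      exact mul_mem ih h
  have hback : ∀ (t u : G) (i : ℤ), orderOf t = p → t ^ i ≠ 1 →
      t ^ i * u * (t ^ i)⁻¹ * u⁻¹ ∈ L ⊓ M → (∀ c ∈ L ⊓ M, Commute c t) →
      t * u * t⁻¹ * u⁻¹ ∈ L ⊓ M := by
    intro t u i ht hti h hs
    obtain ⟨n, hn⟩ : ∃ n : ℕ, (t ^ i) ^ n = t := by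
      obtain ⟨c, hc⟩ := exists_eq_zpow hp.out ht hti
      obtain ⟨n, hn⟩ : t ∈ Submonoid.powers (t ^ i) := by
        rw [← SetLike.mem_coe, powers_eq_zpowers]
        exact ⟨c, hc⟩
      exact ⟨n, hn⟩
    have := hpow (t ^ i) u n h (fun c hc => (hs c hc).zpow_right i)
    rwa [hn] at this
  by_cases hzi : z ^ i = 1
  · rw [hzi, one_mul] at he1
    exact hm' (hback y A j (H.ord y hyk) he1 hPQ'.2 (fun c hc => (hQ c hc).2.1))
  · have hz' := hback z B i (H.ord z hzk) hzi hPQ'.1 (fun c hc => (hQ c hc).2.2.1)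
    -- translate from `z` to `x`
    have hBeq : B = (l * x ^ a * l⁻¹) * y ^ b := by
      rw [hB, hzab]
      calc l * (x ^ a * y ^ b) * l⁻¹ = l * x ^ a * (y ^ b * l⁻¹) := by group
        _ = _ := by rw [((hLy l hl).symm.zpow_left b).inv_right.eq]; group
    have h2 : x ^ a * (l * x ^ a * l⁻¹) * (x ^ a)⁻¹ * (l * x ^ a * l⁻¹)⁻¹ ∈ L ⊓ M := by
      have hy' : ∀ t : G, Commute y t → Commute (y ^ b) t := fun t h => h.zpow_left b
      have c1 : Commute (y ^ b) (x ^ a) := (hy' x hyx).zpow_right a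
      have c2 : Commute (y ^ b) (l * x ^ a * l⁻¹) :=
        (((hy' l (hLy l hl).symm).mul_right c1)).mul_right (hy' l (hLy l hl).symm).inv_right
      rw [hBeq, hzab] at hz'
      convert hz' using 1
      symm
      calc x ^ a * y ^ b * (l * x ^ a * l⁻¹ * y ^ b) * (x ^ a * y ^ b)⁻¹ * (l * x ^ a * l⁻¹ * y ^ b)⁻¹
          = x ^ a * (y ^ b * (l * x ^ a * l⁻¹)) * (x ^ a)⁻¹ * (y ^ b)⁻¹ * (l * x ^ a * l⁻¹)⁻¹ := by
            group
        _ = x ^ a * (l * x ^ a * l⁻¹) * (y ^ b * (x ^ a)⁻¹) * (y ^ b)⁻¹ * (l * x ^ a * l⁻¹)⁻¹ := by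
            rw [c2.eq]; group
        _ = _ := by rw [c1.inv_right.eq]; group
    have h3 := hback x (l * x ^ a * l⁻¹) a (H.ord x hx) hxa h2 (fun c hc => (hQ c hc).1)
    -- now shift the inner power
    set u := l * x * l⁻¹ with hu
    have hua : l * x ^ a * l⁻¹ = u ^ a := by rw [hu, conj_zpow]
    rw [hua] at h3
    have hcu : ∀ c ∈ L ⊓ M, Commute c u := fun c hc =>
      (((hQ c hc).2.2.2.1 l hl).mul_right (hQ c hc).1).mul_right ((hQ c hc).2.2.2.1 l hl).inv_right
    have h4 : u ^ a * x * (u ^ a)⁻¹ * x⁻¹ ∈ L ⊓ M := by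
      convert inv_mem h3 using 1
      group
    have h5 := hback u x a (by rw [hu, Cfsg.Agent.Lib.Involutions.Basic.orderOf_conj_eq]; exact H.ord x hx)
      (by rw [← hua]; exact fun h0 => hxa (by simpa using conj_eq_one_iff.1 h0)) h4 hcu
    apply hl'
    rw [SetLike.mem_coe]
    convert inv_mem h5 using 1
    group

/-- pairwise commuting members generate a group all of whose nontrivial elements are members -/
theorem Lines.closure_mem (H : Lines p k) {S : Set G} (hS : S ⊆ k)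
    (hc : ∀ a ∈ S, ∀ b ∈ S, Commute a b) {z : G} (hz : z ∈ Subgroup.closure S) (hz1 : z ≠ 1) :
    z ∈ k := by
  have key : z = 1 ∨ z ∈ k := by
    clear hz1
    induction hz using Subgroup.closure_induction_left with
    | one => exact Or.inl rfl
    | mul_left x hxS y hy ih =>
      rcases ih with rfl | hy'
      · right; rw [mul_one]; exact hS hxS
      · by_cases h1 : x * y = 1
        · exact Or.inl h1
        · refine Or.inr (H.line x (hS hxS) y hy' ?_ _ ?_ h1)
          · have : Subgroup.closure S ≤ Subgroup.centralizer ({x} : Set G) :=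
              (Subgroup.closure_le _).2 fun b hb =>
                Subgroup.mem_centralizer_singleton_iff.2 (hc b hb x hxS).eq
            exact (Subgroup.mem_centralizer_singleton_iff.1 (this hy)).symm
          · exact mul_mem (Subgroup.subset_closure (Or.inl rfl)) (Subgroup.subset_closure (Or.inr rfl))
    | inv_mul_cancel x hxS y hy ih =>
      rcases ih with rfl | hy'
      · right
        rw [mul_one]
        exact H.line x (hS hxS) x (hS hxS) (Commute.refl x) _
          (inv_mem (Subgroup.subset_closure (Or.inl rfl))) (inv_ne_one.2 (H.ne_one (hS hxS)))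
      · by_cases h1 : x⁻¹ * y = 1
        · exact Or.inl h1
        · refine Or.inr (H.line x (hS hxS) y hy' ?_ _ ?_ h1)
          · have : Subgroup.closure S ≤ Subgroup.centralizer ({x} : Set G) :=
              (Subgroup.closure_le _).2 fun b hb =>
                Subgroup.mem_centralizer_singleton_iff.2 (hc b hb x hxS).eq
            exact (Subgroup.mem_centralizer_singleton_iff.1 (this hy)).symm
          · exact mul_mem (inv_mem (Subgroup.subset_closure (Or.inl rfl))) (Subgroup.subset_closure (Or.inr rfl))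
  exact key.resolve_left hz1

/-- a `p`-subgroup containing a member has a central member -/
theorem Lines.exists_central (H : Lines p k) :
    ∀ P : Subgroup G, IsPGroup p ↥P → (∃ x ∈ k, x ∈ P) →
      ∃ x ∈ k, x ∈ P ∧ ∀ g ∈ P, Commute g x := by
  intro P
  induction P using WellFoundedLT.induction with
  | _ P ih =>
    intro hP hex
    obtain ⟨x, hx, hxP⟩ := hex
    haveI : Group.IsNilpotent ↥P := hP.isNilpotent
    set X : Subgroup ↥P := Subgroup.zpowers ⟨x, hxP⟩ with hX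
    by_cases htop : X = ⊤
    · refine ⟨x, hx, hxP, fun g hg => ?_⟩
      have : (⟨g, hg⟩ : ↥P) ∈ X := htop ▸ Subgroup.mem_top _
      obtain ⟨i, hi⟩ := Subgroup.mem_zpowers_iff.1 this
      have hi' : x ^ i = g := by simpa using congrArg Subtype.val hi
      exact hi' ▸ (Commute.refl x).zpow_left i
    obtain ⟨M, hM, hXM⟩ := (eq_top_or_exists_le_coatom X).resolve_left htop
    haveI hMn : M.Normal :=
      Subgroup.NormalizerCondition.normal_of_coatom _ Group.normalizerCondition_of_isNilpotent hM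
    set M' := M.map P.subtype with hM'
    have hM'P : M' < P := by
      refine lt_of_le_of_ne (Subgroup.map_subtype_le M) fun he => hM.1 ?_
      apply Subgroup.map_injective P.subtype_injective
      rw [← hM', he, ← MonoidHom.range_eq_map, Subgroup.range_subtype]
    obtain ⟨x₁, hx₁, hx₁M, hx₁c⟩ := ih M' hM'P (hP.to_le hM'P.le)
      ⟨x, hx, ⟨x, hxP⟩, hXM (Subgroup.mem_zpowers _), rfl⟩
    set S : Set G := {a | a ∈ k ∧ a ∈ M' ∧ ∀ g ∈ M', Commute g a} with hS
    set R := Subgroup.closure S with hR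
    have hRP : R ≤ P := (Subgroup.closure_le _).2 fun a ha => hM'P.le ha.2.1
    have hconj : ∀ g ∈ P, ∀ a ∈ S, g * a * g⁻¹ ∈ S := by
      intro g hg a ha
      have hMc : ∀ g ∈ P, ∀ c ∈ M', g * c * g⁻¹ ∈ M' := by
        rintro g hg _ ⟨c, hc, rfl⟩
        exact ⟨_, hMn.conj_mem c hc ⟨g, hg⟩, rfl⟩
      refine ⟨H.conj a ha.1 g, hMc g hg a ha.2.1, fun c hc => ?_⟩
      have h := (ha.2.2 _ (hMc g⁻¹ (inv_mem hg) c hc)).map (MulAut.conj g).toMonoidHom
      simpa [mul_assoc] using h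
    haveI hRn : (R.subgroupOf P).Normal := by
      constructor
      intro r hr g
      rw [Subgroup.mem_subgroupOf] at hr ⊢
      have key : ∀ r ∈ R, (g : G) * r * (g : G)⁻¹ ∈ R := by
        intro r hr
        induction hr using Subgroup.closure_induction with
        | mem a ha => exact Subgroup.subset_closure (hconj g g.2 a ha)
        | one => simp
        | mul a b _ _ ha hb => simpa [mul_assoc] using mul_mem ha hb
        | inv a _ ha => simpa [mul_assoc] using inv_mem ha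
      exact key _ hr
    have hR1 : R.subgroupOf P ≠ ⊥ := by
      intro h0
      have : (⟨x₁, hM'P.le hx₁M⟩ : ↥P) ∈ R.subgroupOf P :=
        Subgroup.subset_closure ⟨hx₁, hx₁M, hx₁c⟩
      rw [h0, Subgroup.mem_bot] at this
      exact H.ne_one hx₁ (congrArg Subtype.val this)
    obtain ⟨z, hz, hzc, hz1⟩ := Cfsg.Agent.Lib.Inv59.Basic.exists_central_mem hP _ hR1
    refine ⟨z, H.closure_mem (fun a ha => ha.1) (fun a ha b hb => hb.2.2 a ha.2.1) hz ?_, z.2,
      fun g hg => congrArg Subtype.val (Subgroup.mem_center_iff.1 hzc ⟨g, hg⟩)⟩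
    exact fun h => hz1 (Subtype.ext h)

/-- if a member lies in an abelian normal subgroup spanned by members, the members act on it
through commuting transformations and some member is central for all -/
theorem Lines.exists_universal (H : Lines p k)
    (hex : ∃ x ∈ k, ∃ y ∈ k, Commute x y ∧ y ∉ Subgroup.zpowers x) :
    ∃ v ∈ k, v ∈ Cfsg.pCore p G ∧ ∀ w ∈ k, Commute v w := by
  classical
  obtain ⟨x, hx, hxO⟩ := H.exists_mem_pCore hex
  set P := Cfsg.pCore p G with hPdef
  have hP : IsPGroup p ↥P := Cfsg.Agent.Lib.Cores.pCore_isPGroup p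
  obtain ⟨x₀, hx₀, hx₀P, hx₀c⟩ := H.exists_central P hP ⟨x, hx, hxO⟩
  set S : Set G := {a | a ∈ k ∧ a ∈ P ∧ ∀ g ∈ P, Commute g a} with hS
  set R := Subgroup.closure S with hR
  have hRcomm : ∀ a ∈ R, ∀ b ∈ R, Commute a b := by
    intro a ha b hb
    have h1 : R ≤ P := (Subgroup.closure_le _).2 fun c hc => hc.2.1
    have h2 : R ≤ Subgroup.centralizer ({a} : Set G) := (Subgroup.closure_le _).2 fun c hc =>
      Subgroup.mem_centralizer_singleton_iff.2 (hc.2.2 a (h1 ha)).symm.eq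
    exact (Subgroup.mem_centralizer_singleton_iff.1 (h2 hb)).symm
  have hRk : ∀ a ∈ R, a ≠ 1 → a ∈ k := fun a ha ha1 =>
    H.closure_mem (fun c hc => hc.1) (fun c hc d hd => hd.2.2 c hc.2.1) ha ha1
  have hSconj : ∀ g : G, ∀ a ∈ S, g * a * g⁻¹ ∈ S := by
    intro g a ha
    haveI : P.Characteristic := by rw [hPdef]; infer_instance
    have hn : ∀ g : G, ∀ c ∈ P, g * c * g⁻¹ ∈ P := fun g c hc =>
      (inferInstance : P.Normal).conj_mem c hc g
    refine ⟨H.conj a ha.1 g, hn g a ha.2.1, fun c hc => ?_⟩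
    have h := (ha.2.2 _ (hn g⁻¹ c hc)).map (MulAut.conj g).toMonoidHom
    simpa [mul_assoc] using h
  have hRconj : ∀ g : G, ∀ r ∈ R, g * r * g⁻¹ ∈ R := by
    intro g r hr
    induction hr using Subgroup.closure_induction with
    | mem a ha => exact Subgroup.subset_closure (hSconj g a ha)
    | one => simp
    | mul a b _ _ ha hb => simpa [mul_assoc] using mul_mem ha hb
    | inv a _ ha => simpa [mul_assoc] using inv_mem ha
  have hRn : R.Normal := ⟨fun r hr g => hRconj g r hr⟩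
  haveI := hRn
  -- lines inside `R`
  have hline : ∀ u ∈ k, ∀ r ∈ R, ∀ s ∈ R, ¬ Commute u r → s ∉ Subgroup.zpowers r → s ≠ 1 →
      ∃ (i j : ℤ), s ^ j ≠ 1 ∧ Commute u (r ^ i * s ^ j) := by
    intro u hu r hr s hs hur hsr hs1
    obtain ⟨e, he, he1, hec⟩ := H.meet r (hRk r hr (fun h => hur (h ▸ Commute.one_right u))) s
      (hRk s hs hs1) (hRcomm r hr s hs) hsr u hu
    obtain ⟨i, j, rfl⟩ := mem_pair (hRcomm r hr s hs) he
    refine ⟨i, j, ?_, hec.symm⟩
    intro h0
    rw [h0, mul_one] at he1 hec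
    exact hur (commute_of_zpow hp.out (H.ord r (hRk r hr (fun h => hur (h ▸ Commute.one_right u))))
      he1 hec).symm
  -- commutators with `u` are fixed by `u`
  have hquad : ∀ u ∈ k, ∀ r ∈ R, Commute u (u * r * u⁻¹ * r⁻¹) := by
    intro u hu r hr
    by_cases hur : Commute u r
    · rw [hur.eq, mul_inv_cancel_right, mul_inv_cancel]
      exact Commute.one_right u
    set h := u * r * u⁻¹ * r⁻¹ with hh
    have hhR : h ∈ R := mul_mem (hRconj u r hr) (inv_mem hr)
    have hrk := hRk r hr (fun h => hur (h ▸ Commute.one_right u))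
    by_contra hcon
    have hhr : h ∉ Subgroup.zpowers r := by
      intro hmem
      -- `u` would normalise and hence centralise `⟨r⟩`
      obtain ⟨m, hm⟩ := Subgroup.mem_zpowers_iff.1 hmem
      have hrp : orderOf r = p := H.ord r hrk
      obtain ⟨c, hc⟩ : ∃ c : ℤ, u * r * u⁻¹ = r ^ c := ⟨m + 1, by
        rw [zpow_add_one, hm, hh, inv_mul_cancel_right]⟩
      have hit : ∀ n : ℕ, u ^ n * r * (u ^ n)⁻¹ = r ^ (c ^ n) := by
        intro n
        induction n with
        | zero => simp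
        | succ n ih =>
          rw [pow_succ', show u * u ^ n * r * (u * u ^ n)⁻¹ = u * (u ^ n * r * (u ^ n)⁻¹) * u⁻¹ by group,
            ih, ← conj_zpow, hc, ← zpow_mul, pow_succ']
      have h1 := hit p
      rw [show u ^ p = 1 by rw [← H.ord u hu, pow_orderOf_eq_one]] at h1
      have h2 : r ^ (c ^ p - c) = 1 := by
        rw [← orderOf_dvd_iff_zpow_eq_one, hrp]
        have := ZMod.intCast_eq_intCast_iff_dvd_sub c (c ^ p) p
        rw [← this]
        push_cast
        rw [ZMod.pow_card]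
      apply hur
      have h3 : r ^ c = r := by
        have : r ^ (c ^ p) = r := by simpa using h1.symm
        rw [zpow_sub, this, mul_inv_eq_one] at h2
        exact h2.symm
      rw [h3] at hc
      exact mul_inv_eq_iff_eq_mul.1 hc
    have hh1 : h ≠ 1 := fun h0 => hhr (h0 ▸ one_mem _)
    obtain ⟨i, j, hj, hc⟩ := hline u hu r hr h hhR hur hhr hh1
    -- `r^i h^j` fixed means `h^i (h^u/h)^j = 1`
    have e1 : u * r * u⁻¹ = h * r := by rw [hh, inv_mul_cancel_right]
    have hfix : u * (r ^ i * h ^ j) * u⁻¹ = r ^ i * h ^ j := by rw [hc.eq, mul_inv_cancel_right]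
    have e2 : u * (r ^ i * h ^ j) * u⁻¹ = (h * r) ^ i * (u * h * u⁻¹) ^ j := by
      rw [← e1, conj_zpow, conj_zpow]; group
    rw [e2, (hRcomm h hhR r hr).mul_zpow] at hfix
    -- so `u h u⁻¹ ∈ ⟨h⟩`
    have hhp : orderOf h = p := H.ord h (hRk h hhR hh1)
    have hkey : (u * h * u⁻¹) ^ j = h ^ (j - i) := by
      have hcm : Commute (h ^ i) (r ^ i) := (hRcomm h hhR r hr).zpow_zpow i i
      rw [hcm.eq, mul_assoc] at hfix
      have := mul_left_cancel hfix
      rw [zpow_sub, ((Commute.refl h).zpow_zpow j i).inv_right.eq]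
      rw [← this]; group
    have hnj : orderOf (u * h * u⁻¹) = p := by
      rw [Cfsg.Agent.Lib.Involutions.Basic.orderOf_conj_eq, hhp]
    obtain ⟨c, hc'⟩ := exists_eq_zpow hp.out hnj (a := j) (by
      rw [conj_zpow]; exact fun h0 => hj (by simpa using conj_eq_one_iff.1 h0))
    rw [hkey, ← zpow_mul] at hc'
    set c' := (j - i) * c with hc'def
    have hit : ∀ n : ℕ, u ^ n * h * (u ^ n)⁻¹ = h ^ (c' ^ n) := by
      intro n
      induction n with
      | zero => simp
      | succ n ih =>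
        rw [pow_succ', show u * u ^ n * h * (u * u ^ n)⁻¹ = u * (u ^ n * h * (u ^ n)⁻¹) * u⁻¹ by group,
          ih, ← conj_zpow, ← hc', ← zpow_mul, pow_succ']
    have h1 := hit p
    rw [show u ^ p = 1 by rw [← H.ord u hu, pow_orderOf_eq_one]] at h1
    apply hcon
    have h2 : h ^ (c' ^ p - c') = 1 := by
      rw [← orderOf_dvd_iff_zpow_eq_one, hhp]
      have := ZMod.intCast_eq_intCast_iff_dvd_sub c' (c' ^ p) p
      rw [← this]
      push_cast
      rw [ZMod.pow_card]
    have h3 : h ^ c' = h := by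
      have : h ^ (c' ^ p) = h := by simpa using h1.symm
      rw [zpow_sub, this, mul_inv_eq_one] at h2
      exact h2.symm
    rw [h3] at hc'
    exact mul_inv_eq_iff_eq_mul.1 hc'.symm
  -- the actions of members commute
  have hact : ∀ u ∈ k, ∀ u' ∈ k, ∀ r ∈ R, u * (u' * r * u'⁻¹) * u⁻¹ = u' * (u * r * u⁻¹) * u'⁻¹ := by
    have caseA : ∀ u ∈ k, ∀ u' ∈ k, ∀ r ∈ R, Commute u r → ¬ Commute u' r →
        ∀ s ∈ R, u * (u' * s * u'⁻¹) * u⁻¹ = u' * (u * s * u⁻¹) * u'⁻¹ := by
      intro u hu u' hu' r hr hur hu'r s hs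
      by_cases hur' : u ∈ Subgroup.zpowers r
      · have huR : u ∈ R := (Subgroup.zpowers_le.2 hr) hur'
        rw [(hRcomm u huR _ (hRconj u' s hs)).eq, mul_inv_cancel_right,
          (hRcomm u huR s hs).eq, mul_inv_cancel_right]
      have hrk := hRk r hr (fun h => hu'r (h ▸ Commute.one_right u'))
      obtain ⟨e, he, he1, hec⟩ := H.meet r hrk u hu hur.symm hur' u' hu'
      obtain ⟨a, b, rfl⟩ := mem_pair hur.symm he
      have hub : u ^ b ≠ 1 := by
        intro h0
        rw [h0, mul_one] at he1 hec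
        exact hu'r (commute_of_zpow hp.out (H.ord r hrk) he1 hec).symm
      -- `u^b` commutes with `u'` on `R`
      have hb : ∀ s ∈ R, u ^ b * (u' * s * u'⁻¹) * (u ^ b)⁻¹ = u' * (u ^ b * s * (u ^ b)⁻¹) * u'⁻¹ := by
        intro s hs
        have f : ∀ t ∈ R, (r ^ a * u ^ b) * t * (r ^ a * u ^ b)⁻¹ = u ^ b * t * (u ^ b)⁻¹ := by
          intro t ht
          calc (r ^ a * u ^ b) * t * (r ^ a * u ^ b)⁻¹
              = r ^ a * (u ^ b * t * (u ^ b)⁻¹) * (r ^ a)⁻¹ := by group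
            _ = _ := by
              rw [((hRcomm r hr _ (hRconj _ t ht)).zpow_left a).eq, mul_inv_cancel_right]
        rw [← f _ (hRconj u' s hs), ← f s hs]
        calc r ^ a * u ^ b * (u' * s * u'⁻¹) * (r ^ a * u ^ b)⁻¹
            = (r ^ a * u ^ b * u') * s * (r ^ a * u ^ b * u')⁻¹ := by group
          _ = (u' * (r ^ a * u ^ b)) * s * (u' * (r ^ a * u ^ b))⁻¹ := by rw [hec.eq]
          _ = _ := by group
      obtain ⟨c, hc⟩ := exists_eq_zpow hp.out (H.ord u hu) hub
      obtain ⟨n, hn⟩ : u ∈ Submonoid.powers (u ^ b) := by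
        rw [← SetLike.mem_coe, powers_eq_zpowers]
        exact ⟨c, hc⟩
      simp only at hn
      have : ∀ n : ℕ, ∀ s ∈ R, (u ^ b) ^ n * (u' * s * u'⁻¹) * ((u ^ b) ^ n)⁻¹ =
          u' * ((u ^ b) ^ n * s * ((u ^ b) ^ n)⁻¹) * u'⁻¹ := by
        intro n
        induction n with
        | zero => intro s hs; simp
        | succ n ih =>
          intro s hs
          set t := u ^ b with ht
          calc t ^ (n + 1) * (u' * s * u'⁻¹) * (t ^ (n + 1))⁻¹
              = t ^ n * (t * (u' * s * u'⁻¹) * t⁻¹) * (t ^ n)⁻¹ := by rw [pow_succ]; group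
            _ = u' * (t ^ n * (t * s * t⁻¹) * (t ^ n)⁻¹) * u'⁻¹ := by
              rw [hb s hs, ih _ (hRconj t s hs)]
            _ = _ := by rw [pow_succ]; group
      have h' := this n s hs
      rwa [hn] at h'
    intro u hu u' hu' s hs
    by_cases h1 : ∃ r ∈ R, Commute u r ∧ ¬ Commute u' r
    · obtain ⟨r, hr, h2, h3⟩ := h1
      exact caseA u hu u' hu' r hr h2 h3 s hs
    by_cases h2 : ∃ r ∈ R, Commute u' r ∧ ¬ Commute u r
    · obtain ⟨r, hr, h3, h4⟩ := h2
      exact (caseA u' hu' u hu r hr h3 h4 s hs).symm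
    push Not at h1 h2
    set c := u * s * u⁻¹ * s⁻¹ with hc
    set c' := u' * s * u'⁻¹ * s⁻¹ with hc'
    have hcR : c ∈ R := mul_mem (hRconj u s hs) (inv_mem hs)
    have hc'R : c' ∈ R := mul_mem (hRconj u' s hs) (inv_mem hs)
    have e : u * s * u⁻¹ = c * s := by rw [hc, inv_mul_cancel_right]
    have e' : u' * s * u'⁻¹ = c' * s := by rw [hc', inv_mul_cancel_right]
    have f : Commute u c' := h2 c' hc'R (hquad u' hu' s hs)
    have f' : Commute u' c := h1 c hcR (hquad u hu s hs)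
    have g1 : u * (c' * s) * u⁻¹ = c' * (c * s) := by
      calc u * (c' * s) * u⁻¹ = (u * c') * s * u⁻¹ := by group
        _ = (c' * u) * s * u⁻¹ := by rw [f.eq]
        _ = c' * (u * s * u⁻¹) := by group
        _ = _ := by rw [e]
    have g2 : u' * (c * s) * u'⁻¹ = c * (c' * s) := by
      calc u' * (c * s) * u'⁻¹ = (u' * c) * s * u'⁻¹ := by group
        _ = (c * u') * s * u'⁻¹ := by rw [f'.eq]
        _ = c * (u' * s * u'⁻¹) := by group
        _ = _ := by rw [e']
    rw [e', e]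
    calc u * (c' * s) * u⁻¹ = c' * (c * s) := g1
      _ = (c' * c) * s := (mul_assoc c' c s).symm
      _ = (c * c') * s := congrArg (fun t => t * s) (hRcomm c' hc'R c hcR).eq
      _ = c * (c' * s) := mul_assoc c c' s
      _ = _ := g2.symm
  -- fixed point
  set ρ : G →* MulAut ↥R := MulAut.conjNormal with hρ
  set A := Subgroup.closure (ρ '' k) with hA
  have hAp : IsPGroup p ↥A := by
    apply Cfsg.Agent.Lib.PGroups.elemAb_isPGroup
    apply Cfsg.Agent.Lib.PGroups.elemAb_closure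
    · rintro _ ⟨u, hu, rfl⟩ _ ⟨u', hu', rfl⟩
      refine MulEquiv.ext fun r => Subtype.ext ?_
      simpa [hρ, MulAut.conjNormal_apply] using hact u hu u' hu' r r.2
    · rintro _ ⟨u, hu, rfl⟩
      rw [← map_pow, ← H.ord u hu, pow_orderOf_eq_one, map_one]
  have hx₀R : x₀ ∈ R := Subgroup.subset_closure ⟨hx₀, hx₀P, hx₀c⟩
  have hdvd : p ∣ Nat.card ↥R := by
    have := orderOf_dvd_natCard (⟨x₀, hx₀R⟩ : ↥R)
    rwa [Subgroup.orderOf_mk, H.ord x₀ hx₀] at this
  letI : MulAction ↥A ↥R := MulAction.compHom ↥R A.subtype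
  obtain ⟨v, hv, hv1⟩ := hAp.exists_fixed_point_of_prime_dvd_card_of_fixed_point (↥R) hdvd
    (a := (1 : ↥R)) (fun g => map_one (g : MulAut ↥R))
  have hv1' : (v : G) ≠ 1 := fun h => hv1 (Subtype.ext h).symm
  refine ⟨v, hRk v v.2 hv1', (Subgroup.closure_le _).2 (fun a ha => ha.2.1) v.2, fun w hw => ?_⟩
  have h := congrArg Subtype.val (hv ⟨ρ w, Subgroup.subset_closure ⟨w, hw, rfl⟩⟩)
  have h' : w * (v : G) * w⁻¹ = (v : G) := by
    simpa [hρ, MulAction.compHom_smul_def, MulAut.conjNormal_apply] using h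
  exact (mul_inv_eq_iff_eq_mul.1 h').symm

end Cfsg.Agent.Lib.Inv59.LineClass
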