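/- Self-normalising Sylow subgroups for primes at which `K∞` controls transfer (helper59). -/
import Mathlib
import Cfsg.Prelude.Def_ConjugacyFunctors
import Cfsg.Agent.S1978
import Cfsg.Agent.Lib.Induced.Burnside

set_option autoImplicit false

namespace Cfsg.Agent.Lib.Inv59.SelfNormalising

universe u

/-- Sylow subgroups with trivial normaliser quotient are not inside the derived subgroup -/
theorem not_le_commutator {p : ℕ} [Fact p.Prime]
    (hT : ∀ (G : Type u) [Group G] [Finite G],
      Cfsg.ControlsTransferIn p (Cfsg.inducedFunctor (G := G) Cfsg.kInfLower) ⊤) :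
    ∀ (n : ℕ) (G : Type u) [Group G] [Finite G], Nat.card G = n →
      (∀ P : Sylow p G, Subgroup.normalizer ((P : Subgroup G) : Set G) = P) → p ∣ Nat.card G →
      ∀ P : Sylow p G, ¬ (P : Subgroup G) ≤ commutator G := by
  intro n
  induction n using Nat.strong_induction_on with
  | _ n ih =>
    intro G _ _ hn hself hp P hP
    obtain ⟨T, -, hTp, hTi, hTeq⟩ := hT G
    rw [Subgroup.relIndex_top_right] at hTi
    set S : Sylow p G := hTp.toSylow hTi with hSdef
    have hST : (S : Subgroup G) = T := rfl
    have hTc : T ≤ commutator G := by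
      obtain ⟨g, hg⟩ := MulAction.exists_smul_eq G P S
      intro x hx
      rw [← hST, ← hg, Sylow.coe_subgroup_smul] at hx
      obtain ⟨y, hy, rfl⟩ := hx
      exact (inferInstance : (commutator G).Normal).conj_mem y (hP hy) g
    set K := Cfsg.inducedFunctor (G := G) Cfsg.kInfLower T with hK
    set H := Subgroup.normalizer (K : Set G) with hH
    rw [top_inf_eq, ← commutator_def, inf_eq_left.2 hTc] at hTeq
    have hTH' : T ≤ ⁅H, H⁆ := fun x hx => (hTeq.le hx).2
    have hTH : T ≤ H := hTH'.trans (Subgroup.commutator_le_self H)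
    have hT1 : T ≠ ⊥ := by
      intro h0
      rw [h0, Subgroup.index_bot] at hTi
      exact hTi hp
    have hKT : K ≤ T := Subgroup.map_subtype_le _
    have hK1 : K ≠ ⊥ := by
      intro h0
      have h1 : Cfsg.kInfLower ↥T = ⊥ := by
        apply Subgroup.map_injective T.subtype_injective
        rw [Subgroup.map_bot]; exact h0
      have h2 := (Cfsg.Agent.S1978.result (P := ↥T) hTp).1
      rw [h1] at h2
      apply hT1
      refine (Subgroup.eq_bot_iff_forall T).2 fun x hx => ?_
      have : (⟨x, hx⟩ : ↥T) ∈ Subgroup.centralizer ((⊥ : Subgroup ↥T) : Set ↥T) := by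
        rw [Subgroup.mem_centralizer_iff]
        intro y hy
        rw [SetLike.mem_coe, Subgroup.mem_bot] at hy
        simp [hy]
      exact congrArg Subtype.val (Subgroup.mem_bot.1 (h2 this))
    set K' := K.subgroupOf H with hK'
    haveI : K'.Normal := Subgroup.normal_subgroupOf_of_le_normalizer le_rfl
    by_cases hKeq : K = T
    · have hHT : H = T := by
        rw [hH, hKeq, ← hST]
        exact hself S
      rw [hHT] at hTH'
      have hnil : Group.IsNilpotent ↥T := hTp.isNilpotent
      haveI : Nontrivial ↥T := (Subgroup.nontrivial_iff_ne_bot T).2 hT1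
      haveI := hnil
      haveI : Group.IsSolvable ↥T := inferInstance
      have h3 := Group.IsSolvable.commutator_lt_top_of_nontrivial ↥T
      apply h3.ne
      apply Subgroup.map_injective T.subtype_injective
      rw [commutator_def, Subgroup.map_commutator, ← MonoidHom.range_eq_map, Subgroup.range_subtype]
      exact le_antisymm (Subgroup.commutator_le_self T) hTH'
    -- pass to `N(K) / K`
    have hcardQ : Nat.card (↥H ⧸ K') < n := by
      have h1 := Subgroup.card_eq_card_quotient_mul_card_subgroup K'
      have hK'card : 1 < Nat.card ↥K' := by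
        have hKH : K ≤ H := hKT.trans hTH
        rw [hK', Nat.card_congr (Subgroup.subgroupOfEquivOfLe hKH).toEquiv]
        exact Subgroup.one_lt_card_iff_ne_bot K |>.2 hK1
      have h2 : Nat.card ↥H ≤ n := hn ▸ Subgroup.card_le_card_group H
      have h3 : 0 < Nat.card (↥H ⧸ K') := Nat.card_pos
      nlinarith
    set π := QuotientGroup.mk' K' with hπ
    have hker : IsPGroup p ↥π.ker := by
      rw [hπ, QuotientGroup.ker_mk', hK']
      exact (hTp.to_le hKT).comap_subtype
    -- Sylow subgroups of the quotient come from those of `G`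
    have hsub : ∀ R : Sylow p (↥H ⧸ K'),
        ∃ R₀ : Sylow p G, (R₀ : Subgroup G) =
          ((R : Subgroup (↥H ⧸ K')).comap π).map H.subtype := by
      intro R
      set R' := (R : Subgroup (↥H ⧸ K')).comap π
      have hR' : IsPGroup p ↥R' := R.isPGroup'.comap_of_ker_isPGroup π hker
      refine ⟨(hR'.map H.subtype).toSylow ?_, rfl⟩
      have h5 : (R'.map H.subtype).index = R'.index * H.index := by
        rw [Subgroup.index_map_subtype]
      rw [h5, (Fact.out : p.Prime).dvd_mul]
      rintro (h | h)
      · rw [Subgroup.index_comap_of_surjective _ (QuotientGroup.mk'_surjective K')] at h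
        exact R.not_dvd_index h
      · exact hTi (h.trans (Subgroup.index_dvd_of_le hTH))
    have hselfQ : ∀ R : Sylow p (↥H ⧸ K'),
        Subgroup.normalizer ((R : Subgroup (↥H ⧸ K')) : Set (↥H ⧸ K')) = R := by
      intro R
      refine le_antisymm ?_ Subgroup.le_normalizer
      intro x hx
      obtain ⟨h, rfl⟩ := QuotientGroup.mk'_surjective K' x
      obtain ⟨R₀, hR₀⟩ := hsub R
      have hmem : (h : G) ∈ Subgroup.normalizer ((R₀ : Subgroup G) : Set G) := by
        rw [hR₀, Subgroup.mem_normalizer_iff]
        intro y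
        constructor
        · rintro ⟨z, hz, rfl⟩
          refine ⟨h * z * h⁻¹, ?_, rfl⟩
          simp only [SetLike.mem_coe, Subgroup.mem_comap, map_mul, map_inv] at hz ⊢
          exact (Subgroup.mem_normalizer_iff.1 hx _).1 hz
        · rintro ⟨z, hz, hzy⟩
          refine ⟨h⁻¹ * z * h, ?_, ?_⟩
          · simp only [SetLike.mem_coe, Subgroup.mem_comap, map_mul, map_inv] at hz ⊢
            have := (Subgroup.mem_normalizer_iff.1 (inv_mem hx) _).1 hz
            simpa [hπ] using this
          · simp only [Subgroup.coe_subtype, Subgroup.coe_mul, Subgroup.coe_inv] at hzy ⊢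
            rw [hzy]; group
      rw [hself R₀, hR₀] at hmem
      obtain ⟨z, hz, hzh⟩ := hmem
      rw [← Subtype.ext hzh]
      exact hz
    -- the Sylow subgroup `T/K`
    have hTi' : ¬ p ∣ (T.subgroupOf H).index := fun hd =>
      hTi (hd.trans (Subgroup.relIndex_dvd_index_of_le hTH))
    have hTH2 : IsPGroup p ↥(T.subgroupOf H) := hTp.comap_subtype
    set R : Sylow p (↥H ⧸ K') := (hTH2.toSylow hTi').mapSurjective (QuotientGroup.mk'_surjective K')
      with hR
    have hcomm : (R : Subgroup (↥H ⧸ K')) ≤ commutator (↥H ⧸ K') := by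
      have h6 : T.subgroupOf H ≤ commutator ↥H := by
        intro x hx
        have hmap : (commutator ↥H).map H.subtype = ⁅H, H⁆ := by
          rw [commutator_def, Subgroup.map_commutator, ← MonoidHom.range_eq_map, Subgroup.range_subtype]
        obtain ⟨y, hy, hyx⟩ := (hmap.ge (hTH' hx))
        rwa [← Subtype.ext hyx]
      rw [hR, Sylow.coe_mapSurjective]
      refine (Subgroup.map_mono h6).trans ?_
      rw [commutator_def, Subgroup.map_commutator,
        Subgroup.map_top_of_surjective _ (QuotientGroup.mk'_surjective K'), commutator_def]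
    have hpQ : p ∣ Nat.card (↥H ⧸ K') := by
      by_contra hnd
      apply hKeq
      refine le_antisymm hKT fun x hx => ?_
      have hbot : (R : Subgroup (↥H ⧸ K')) = ⊥ := by
        obtain ⟨k, hk⟩ := IsPGroup.iff_card.1 R.isPGroup'
        rcases Nat.eq_zero_or_pos k with rfl | hk0
        · exact Subgroup.eq_bot_of_card_eq _ (by simpa using hk)
        · exact absurd ((hk ▸ dvd_pow_self p hk0.ne').trans (Subgroup.card_subgroup_dvd_card _)) hnd
      have hxR : π ⟨x, hTH hx⟩ ∈ (R : Subgroup (↥H ⧸ K')) := by
        rw [hR, Sylow.coe_mapSurjective]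
        exact Subgroup.mem_map_of_mem _ (show (⟨x, hTH hx⟩ : ↥H) ∈ T.subgroupOf H from hx)
      rw [hbot, Subgroup.mem_bot, hπ, QuotientGroup.mk'_apply, QuotientGroup.eq_one_iff] at hxR
      exact hxR
    exact ih _ hcardQ (↥H ⧸ K') rfl hselfQ hpQ R hcomm

/-- all Sylow subgroups self-normalising: not non-abelian simple -/
theorem not_simple
    (hT : ∀ (p : ℕ) [Fact p.Prime], 5 ≤ p → ∀ (G : Type u) [Group G] [Finite G],
      Cfsg.ControlsTransferIn p (Cfsg.inducedFunctor (G := G) Cfsg.kInfLower) ⊤)
    {G : Type u} [Group G] [Finite G]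
    (h : ∀ p : ℕ, p.Prime → p ∣ Nat.card G → ∀ P : Sylow p G,
      Subgroup.normalizer ((P : Subgroup G) : Set G) = P) :
    ¬ (IsSimpleGroup G ∧ ¬ IsMulCommutative G) := by
  rintro ⟨hs, hna⟩
  haveI := hs
  -- a simple non-abelian group is not solvable
  have hns : ¬ Group.IsSolvable G := fun hsol => hna <| ⟨⟨fun a b => by
    haveI := hsol
    exact IsSimpleGroup.comm_iff_isSolvable.2 hsol a b⟩⟩
  by_cases hbig : ∃ p : ℕ, p.Prime ∧ 5 ≤ p ∧ p ∣ Nat.card G
  · obtain ⟨p, hp, h5, hpd⟩ := hbig
    haveI : Fact p.Prime := ⟨hp⟩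
    obtain ⟨P⟩ := (inferInstance : Nonempty (Sylow p G))
    refine not_le_commutator (hT p h5) _ G rfl (h p hp hpd) hpd P ?_
    rcases hs.eq_bot_or_eq_top_of_normal (commutator G) inferInstance with h0 | h0
    · refine absurd ?_ hna
      refine ⟨⟨fun a b => ?_⟩⟩
      have : a * b * a⁻¹ * b⁻¹ ∈ commutator G := Subgroup.commutator_mem_commutator (Subgroup.mem_top a) (Subgroup.mem_top b)
      rw [h0, Subgroup.mem_bot, mul_inv_eq_one, mul_inv_eq_iff_eq_mul] at this
      exact this
    · rw [h0]; exact le_top
  · push Not at hbig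
    apply hns
    have hsupp : (Nat.card G).primeFactors ⊆ {2, 3} := by
      intro q hq
      obtain ⟨hq1, hq2, -⟩ := Nat.mem_primeFactors.1 hq
      have h5 : q < 5 := by
        by_contra hc
        exact hbig q hq1 (by omega) hq2
      interval_cases q <;> simp_all (config := { decide := true })
    refine Cfsg.Agent.Lib.Induced.Burnside.isSolvable_of_card_eq 2 3
      ((Nat.card G).factorization 2) ((Nat.card G).factorization 3) Nat.prime_two Nat.prime_three ?_
    conv_lhs => rw [← Nat.prod_factorization_pow_eq_self (Nat.card_pos (α := G)).ne']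
    rw [Finsupp.prod_of_support_subset _ (s := ({2, 3} : Finset ℕ))
      (by rwa [Nat.support_factorization]) _ (by simp)]
    rw [Finset.prod_pair (by norm_num)]

end Cfsg.Agent.Lib.Inv59.SelfNormalising
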